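import Cfsg.Agent.Helper1.BGSDefs

/-!
# CALL S1351D piece D6b (helper91)
-/

set_option autoImplicit false

namespace Cfsg.Agent.Helper91

open Cfsg Subgroup Cfsg.Agent.Helper1

universe u v

variable {G : Type u} [Group G]

/-- D6b: `1` is not a conjugate of an element of `starHat`. -/
theorem bgs_one_not_mem_conj {ι : Type v} (M : ι → Subgroup G) (W : Subgroup G) :
    (1 : G) ∉ starConj M W := by
  rintro ⟨y, w, ⟨-, j, k, -, ⟨p, hp, hpw⟩, -⟩, hy⟩
  have hw1 : w = 1 := by
    have h1 : y⁻¹ * (y * w * y⁻¹) * y = w := by group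
    rw [← hy] at h1
    rw [← h1]; group
  rw [hw1, orderOf_one] at hpw
  have hpp : p.Prime := hp.1
  exact hpp.one_lt.ne' (Nat.dvd_one.1 hpw)

end Cfsg.Agent.Helper91
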