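import Mathlib
import Cfsg.Agent.S1359
import Cfsg.Agent.Helper23.Trans

/-!
# CALL S1438 piece AB (helper91, doubling)
-/

set_option autoImplicit false

namespace Cfsg.Agent.Helper91

open Cfsg Subgroup

universe u

variable {G : Type u} [Group G] [Finite G]

/-- AB. `X ≤ C_M(H)` conjugate into `U` is abelian: the elements of `m X m⁻¹` lie in
`U ∩ sigmaHat M` (they centralize `m y m⁻¹ ∈ M_σ`, `y ∈ H`, `y ≠ 1`), whose closure is commutative
(S1359). -/
theorem bg157_abelian (hG : IsMinSimpleOddOrder G) {M H X K U : Subgroup G} (hM : IsCoatom M)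
    (hKU : IsSigmaDecomposition M K U) (hH : H ≤ sigmaCore M) (hH1 : H ≠ ⊥) (hXM : X ≤ M)
    (hXH : X ≤ centralizer (H : Set G)) {m : G} (hm : m ∈ M)
    (hXU : X.map (MulAut.conj m).toMonoidHom ≤ U) : IsMulCommutative X := by
  have hA := Cfsg.Agent.S1359.result hG M hM K U hKU
  obtain ⟨y, hy, hy1⟩ : ∃ y ∈ H, y ≠ 1 := by
    by_contra hcon
    apply hH1
    rw [Subgroup.eq_bot_iff_forall]
    intro y hy
    by_contra h
    exact hcon ⟨y, hy, h⟩
  have hSn : M ≤ normalizer (sigmaCore M : Set G) :=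
    Cfsg.Agent.Helper23.le_normalizer_piCoreOf (sigma M) M
  have hy' : m * y * m⁻¹ ∈ sigmaCore M := (mem_normalizer_iff.mp (hSn hm) y).mp (hH hy)
  have hy1' : m * y * m⁻¹ ≠ 1 := by
    intro h
    apply hy1
    have e : y = m⁻¹ * (m * y * m⁻¹) * m := by group
    rw [e, h]
    group
  have hmem : ∀ x ∈ X, m * x * m⁻¹ ∈ Subgroup.closure ((U : Set G) ∩ sigmaHat M) := by
    intro x hx
    apply Subgroup.subset_closure
    refine ⟨?_, ?_, m * y * m⁻¹, hy', hy1', ?_⟩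
    · apply hXU
      exact Subgroup.mem_map.2 ⟨x, hx, rfl⟩
    · exact M.mul_mem (M.mul_mem hm (hXM hx)) (M.inv_mem hm)
    · have hxy : y * x = x * y := (Subgroup.mem_centralizer_iff.1 (hXH hx)) y hy
      calc m * x * m⁻¹ * (m * y * m⁻¹) = m * (x * y) * m⁻¹ := by group
        _ = m * (y * x) * m⁻¹ := by rw [hxy]
        _ = m * y * m⁻¹ * (m * x * m⁻¹) := by group
  refine ⟨⟨fun a b => ?_⟩⟩
  apply Subtype.ext
  have h1 := hA.is_comm.comm
    (⟨m * (a : G) * m⁻¹, hmem a a.2⟩ : Subgroup.closure ((U : Set G) ∩ sigmaHat M))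
    ⟨m * (b : G) * m⁻¹, hmem b b.2⟩
  have h2 : m * (a : G) * m⁻¹ * (m * (b : G) * m⁻¹) = m * (b : G) * m⁻¹ * (m * (a : G) * m⁻¹) :=
    congrArg Subtype.val h1
  show (a : G) * (b : G) = (b : G) * (a : G)
  have e1 : (a : G) * (b : G) = m⁻¹ * (m * (a : G) * m⁻¹ * (m * (b : G) * m⁻¹)) * m := by group
  rw [e1, h2]
  group

end Cfsg.Agent.Helper91
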