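import Mathlib
import Cfsg.Agent.Helper1.Hall
import Cfsg.Agent.Helper23.Uniq
import Cfsg.Agent.Helper23.FittingHall

/-!
# CALL S1437 piece CJ (helper91)
-/

set_option autoImplicit false

namespace Cfsg.Agent.Helper91

open Cfsg Subgroup
open scoped Pointwise

universe u

variable {G : Type u} [Group G] [Finite G]

/-- CJ. Two complements of the Sylow `q`-subgroup `Q` in the solvable group `M_σ`
(`Helper23.uq_isSolvable`) are conjugate in `M_σ`: both have order `|M_σ| / |Q|`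
(`Helper23.card_of_isComplIn`), prime to `|Q|`; `Helper1.hall_conj_aux` inside `↥(sigmaCore M)`. -/
theorem bg15b_compl_conj (hG : IsMinSimpleOddOrder G) {M Q D D₀ : Subgroup G} (hM : IsCoatom M)
    {q : ℕ} (hq : q.Prime) (hQq : IsPGroup q Q) (hQi : ¬ q ∣ Q.relIndex (sigmaCore M))
    (hD : IsComplIn Q D (sigmaCore M)) (hD₀ : IsComplIn Q D₀ (sigmaCore M)) :
    ∃ u ∈ sigmaCore M, D = D₀.map (MulAut.conj u).toMonoidHom := by
  classical
  have hSM : sigmaCore M ≤ M := by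
    unfold sigmaCore
    exact Subgroup.map_subtype_le _
  have hStop : sigmaCore M ≠ ⊤ := by
    intro h
    apply hM.1
    rw [eq_top_iff, ← h]
    exact hSM
  haveI : Group.IsSolvable ↥(sigmaCore M) := Cfsg.Agent.Helper23.uq_isSolvable hG hStop
  haveI : Fact q.Prime := ⟨hq⟩
  have hc1 := Cfsg.Agent.Helper23.card_of_isComplIn Q D (sigmaCore M) hD
  have hc2 := Cfsg.Agent.Helper23.card_of_isComplIn Q D₀ (sigmaCore M) hD₀
  have hQpos : 0 < Nat.card Q := Nat.card_pos
  have hDD : Nat.card D = Nat.card D₀ := Nat.eq_of_mul_eq_mul_left hQpos (hc1.symm.trans hc2)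
  have hri : Nat.card Q * Q.relIndex (sigmaCore M) = Nat.card (sigmaCore M) := by
    have := Subgroup.relIndex_mul_relIndex ⊥ Q (sigmaCore M) bot_le hD.1
    rwa [Subgroup.relIndex_bot_left, Subgroup.relIndex_bot_left] at this
  have hri2 : Q.relIndex (sigmaCore M) = Nat.card D₀ :=
    Nat.eq_of_mul_eq_mul_left hQpos (hri.trans hc2)
  obtain ⟨k, hk⟩ := (IsPGroup.iff_card (p := q)).1 hQq
  have hcop : (Nat.card D₀).Coprime (Nat.card Q) := by
    rw [hk]
    apply Nat.Coprime.pow_right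
    rw [Nat.coprime_comm, Nat.Prime.coprime_iff_not_dvd hq, ← hri2]
    exact hQi
  have hcD₀ : Nat.card (D₀.subgroupOf (sigmaCore M)) = Nat.card D₀ :=
    Nat.card_congr (Subgroup.subgroupOfEquivOfLe hD₀.2.1).toEquiv
  have hcD : Nat.card (D.subgroupOf (sigmaCore M)) = Nat.card D₀ :=
    (Nat.card_congr (Subgroup.subgroupOfEquivOfLe hD.2.1).toEquiv).trans hDD
  obtain ⟨g, hg⟩ := Cfsg.Agent.Helper1.hall_conj_aux (Nat.card (sigmaCore M)) (sigmaCore M)
    (Nat.card D₀) (Nat.card Q) rfl (by rw [hc2, mul_comm]) hcop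
    (D₀.subgroupOf (sigmaCore M)) (D.subgroupOf (sigmaCore M)) hcD₀ hcD
  refine ⟨(g : G), g.2, ?_⟩
  ext x
  constructor
  · intro hx
    have hxS : x ∈ sigmaCore M := hD.2.1 hx
    have h1 : (⟨x, hxS⟩ : sigmaCore M) ∈ D.subgroupOf (sigmaCore M) :=
      Subgroup.mem_subgroupOf.2 hx
    rw [← hg] at h1
    obtain ⟨y, hy, hyx⟩ := (Subgroup.mem_smul_pointwise_iff_exists _ _ _).1 h1
    refine ⟨(y : G), Subgroup.mem_subgroupOf.1 hy, ?_⟩
    have h2 := congrArg Subtype.val hyx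
    simpa [MulAut.smul_def, MulAut.conj_apply] using h2
  · rintro ⟨y, hy, rfl⟩
    have hyS : y ∈ sigmaCore M := hD₀.2.1 hy
    have h1 : (⟨y, hyS⟩ : sigmaCore M) ∈ D₀.subgroupOf (sigmaCore M) :=
      Subgroup.mem_subgroupOf.2 hy
    have h2 : MulAut.conj g • (⟨y, hyS⟩ : sigmaCore M) ∈
        MulAut.conj g • D₀.subgroupOf (sigmaCore M) :=
      Subgroup.smul_mem_pointwise_smul _ _ _ h1
    rw [hg, Subgroup.mem_subgroupOf] at h2
    simpa [MulAut.smul_def, MulAut.conj_apply] using h2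

end Cfsg.Agent.Helper91
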