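import Mathlib
import Cfsg.Agent.S1430
import Cfsg.Agent.S1545
import Cfsg.Agent.Helper22.Transitivity
import Cfsg.Agent.Helper23.Uniq
import Cfsg.Agent.Helper23.Trans
import Cfsg.Agent.Helper23.FittingHall

/-!
# CALL S1437 piece CNT (helper91, doubling)
-/

set_option autoImplicit false

namespace Cfsg.Agent.Helper91

open Cfsg Subgroup

universe u

variable {G : Type u} [Group G] [Finite G]

/-- CNT. Frobenius counting (S1545 with `X := G`, `U := D₀`, `E := K₀`, `H := Y`): `D₀ K₀` is a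
Frobenius group (fixed points of `k ≠ 1` on `D₀` lie in `K* ⊓ D₀ ≤ Q ⊓ D₀ = ⊥`, S1430 clause 1),
`|Y|` is a power of `q`, prime to `|D₀| |K₀|` (`|D₀| = Q.relIndex M_σ`; `q ∈ σ(M)`, `K` a
`κ(M)`-group).  Then rewrite, using `Y ≤ Q ≤ M_σ` and `M_σ ⊓ C(k) = M_σ ⊓ C(K)` for `1 ≠ k ∈ K₀`:
`Y ⊓ C(D₀ ⊔ K₀) = Y ⊓ (Q ⊓ C(D₀)) ⊓ K*`, `Y ⊓ C(K₀) = Y ⊓ K*`, `Y ⊓ C(D₀) = Y ⊓ (Q ⊓ C(D₀))`. -/
theorem bg15b_count (hG : IsMinSimpleOddOrder G) {M K U Q D₀ : Subgroup G} (hM : IsCoatom M)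
    (hKU : IsSigmaDecomposition M K U) (hK1 : K ≠ ⊥)
    (hq : (Nat.card ↥(sigmaCore M ⊓ centralizer (K : Set G))).Prime)
    (hQq : IsPGroup (Nat.card ↥(sigmaCore M ⊓ centralizer (K : Set G))) Q)
    (hQi : ¬ Nat.card ↥(sigmaCore M ⊓ centralizer (K : Set G)) ∣ Q.relIndex (sigmaCore M))
    (hKsQ : sigmaCore M ⊓ centralizer (K : Set G) ≤ Q)
    (hD₀ : IsComplIn Q D₀ (sigmaCore M)) (hD1 : D₀ ≠ ⊥) (hKD : K ≤ normalizer (D₀ : Set G))
    (Y K₀ : Subgroup G) (hYQ : Y ≤ Q)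
    (hYn : D₀ ≤ normalizer (Y : Set G) ∧ K ≤ normalizer (Y : Set G))
    (hK₀ : K₀ ≤ K) (hK₀1 : K₀ ≠ ⊥) :
    Nat.card ↥(Y ⊓ (Q ⊓ centralizer (D₀ : Set G)) ⊓ (sigmaCore M ⊓ centralizer (K : Set G))) ^
        Nat.card K₀ * Nat.card Y =
      Nat.card ↥(Y ⊓ (sigmaCore M ⊓ centralizer (K : Set G))) ^ Nat.card K₀ *
        Nat.card ↥(Y ⊓ (Q ⊓ centralizer (D₀ : Set G))) := by
  classical
  have hS1430 := (Cfsg.Agent.S1430.result hG M hM K hKU.hall hK1).1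
  have hQS : Q ≤ sigmaCore M := hD₀.1
  have hDS : D₀ ≤ sigmaCore M := hD₀.2.1
  have hQD : Q ⊓ D₀ = ⊥ := hD₀.2.2.1
  have hSM : sigmaCore M ≤ M := by
    unfold sigmaCore
    exact Subgroup.map_subtype_le _
  haveI : Fact (Nat.card ↥(sigmaCore M ⊓ centralizer (K : Set G))).Prime := ⟨hq⟩
  -- fixed points
  have hfix : ∀ e ∈ K, e ≠ 1 → ∀ u ∈ D₀, e * u = u * e → u = 1 := by
    intro e he he1 u hu heu
    have h1 : u ∈ sigmaCore M ⊓ centralizer ({e} : Set G) := by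
      refine Subgroup.mem_inf.2 ⟨hDS hu, ?_⟩
      rw [Subgroup.mem_centralizer_iff]
      intro h hh
      rw [Set.mem_singleton_iff] at hh
      rw [hh]
      exact heu
    rw [hS1430 e he he1] at h1
    have h2 : u ∈ Q ⊓ D₀ := Subgroup.mem_inf.2 ⟨hKsQ h1, hu⟩
    rw [hQD] at h2
    exact Subgroup.mem_bot.1 h2
  have hUE : D₀ ⊓ K₀ = ⊥ := by
    rw [Subgroup.eq_bot_iff_forall]
    intro x hx
    obtain ⟨hxD, hxK⟩ := Subgroup.mem_inf.1 hx
    by_contra hx1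
    exact hx1 (hfix x (hK₀ hxK) hx1 x hxD rfl)
  have hUn : ∀ e ∈ K₀, ∀ u ∈ D₀, e * u * e⁻¹ ∈ D₀ := fun e he u hu =>
    (mem_normalizer_iff.1 (hKD (hK₀ he)) u).1 hu
  have hfpf : ∀ e ∈ K₀, e ≠ 1 → ∀ u ∈ D₀, e * u = u * e → u = 1 := fun e he he1 =>
    hfix e (hK₀ he) he1
  have hnorm : D₀ ⊔ K₀ ≤ normalizer (Y : Set G) := sup_le hYn.1 (hK₀.trans hYn.2)
  have hHn : ∀ x ∈ D₀ ⊔ K₀, ∀ h ∈ Y, x * h * x⁻¹ ∈ Y := fun x hx h hh =>
    (mem_normalizer_iff.1 (hnorm hx) h).1 hh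
  -- cardinalities
  have hqσ : Nat.card ↥(sigmaCore M ⊓ centralizer (K : Set G)) ∈ sigma M :=
    Cfsg.Agent.Helper23.mem_of_dvd_card_piCoreOf (sigma M) M hq
      (Subgroup.card_dvd_of_le inf_le_left)
  have hqK₀ : ¬ Nat.card ↥(sigmaCore M ⊓ centralizer (K : Set G)) ∣ Nat.card K₀ := by
    intro h
    have h1 := hKU.hall.2.1 _ hq (h.trans (Subgroup.card_dvd_of_le hK₀))
    exact h1.2.2.1 hqσ
  have hc2 := Cfsg.Agent.Helper23.card_of_isComplIn Q D₀ (sigmaCore M) hD₀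
  have hQpos : 0 < Nat.card Q := Nat.card_pos
  have hri : Nat.card Q * Q.relIndex (sigmaCore M) = Nat.card (sigmaCore M) := by
    have := Subgroup.relIndex_mul_relIndex ⊥ Q (sigmaCore M) bot_le hQS
    rwa [Subgroup.relIndex_bot_left, Subgroup.relIndex_bot_left] at this
  have hri2 : Q.relIndex (sigmaCore M) = Nat.card D₀ :=
    Nat.eq_of_mul_eq_mul_left hQpos (hri.trans hc2)
  have hqD₀ : ¬ Nat.card ↥(sigmaCore M ⊓ centralizer (K : Set G)) ∣ Nat.card D₀ := by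
    rw [← hri2]
    exact hQi
  have hsupcard : Nat.card ↥(D₀ ⊔ K₀) ∣ Nat.card K₀ * Nat.card D₀ := by
    rw [sup_comm]
    exact Cfsg.Agent.Helper22.card_sup_dvd_of_le_normalizer (hK₀.trans hKD)
  have hqsup : ¬ Nat.card ↥(sigmaCore M ⊓ centralizer (K : Set G)) ∣ Nat.card ↥(D₀ ⊔ K₀) := by
    intro h
    rcases (Nat.Prime.dvd_mul hq).1 (h.trans hsupcard) with h1 | h1
    · exact hqK₀ h1
    · exact hqD₀ h1
  have hYq : IsPGroup (Nat.card ↥(sigmaCore M ⊓ centralizer (K : Set G))) Y := hQq.to_le hYQ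
  obtain ⟨a, ha⟩ := (IsPGroup.iff_card).1 hYq
  have hcop : Nat.Coprime (Nat.card Y) (Nat.card ↥(D₀ ⊔ K₀)) := by
    rw [ha]
    apply Nat.Coprime.pow_left
    rw [Nat.Prime.coprime_iff_not_dvd hq]
    exact hqsup
  have hdisj : Y ⊓ (D₀ ⊔ K₀) = ⊥ := by
    rw [← Subgroup.card_eq_one]
    have h1 : Nat.card ↥(Y ⊓ (D₀ ⊔ K₀)) ∣ Nat.card Y := Subgroup.card_dvd_of_le inf_le_left
    have h2 : Nat.card ↥(Y ⊓ (D₀ ⊔ K₀)) ∣ Nat.card ↥(D₀ ⊔ K₀) :=
      Subgroup.card_dvd_of_le inf_le_right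
    exact Nat.Coprime.eq_one_of_dvd (Nat.Coprime.coprime_dvd_left h1 hcop) h2
  have hYtop : Y ≠ ⊤ := by
    intro h
    apply hM.1
    rw [eq_top_iff, ← h]
    exact hYQ.trans (hQS.trans hSM)
  have hsolv : Group.IsSolvable ↥Y := Cfsg.Agent.Helper23.uq_isSolvable hG hYtop
  have key := Cfsg.Agent.S1545.result D₀ K₀ Y hD1 hK₀1 hUE hUn hfpf hHn hdisj hsolv hcop
  -- the three identities
  have e3 : Y ⊓ centralizer (D₀ : Set G) = Y ⊓ (Q ⊓ centralizer (D₀ : Set G)) := by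
    rw [← inf_assoc, inf_of_le_left hYQ]
  obtain ⟨k, hk, hk1⟩ : ∃ k ∈ K₀, k ≠ 1 := by
    by_contra hcon
    apply hK₀1
    rw [Subgroup.eq_bot_iff_forall]
    intro x hx
    by_contra h
    exact hcon ⟨x, hx, h⟩
  have e2 : Y ⊓ centralizer (K₀ : Set G) = Y ⊓ (sigmaCore M ⊓ centralizer (K : Set G)) := by
    ext x
    rw [Subgroup.mem_inf, Subgroup.mem_inf]
    constructor
    · rintro ⟨hxY, hxC⟩
      refine ⟨hxY, ?_⟩
      have h1 : x ∈ sigmaCore M ⊓ centralizer ({k} : Set G) := by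
        refine Subgroup.mem_inf.2 ⟨hQS (hYQ hxY), ?_⟩
        rw [Subgroup.mem_centralizer_iff]
        intro h hh
        rw [Set.mem_singleton_iff] at hh
        rw [hh]
        exact (Subgroup.mem_centralizer_iff.1 hxC) k hk
      rw [hS1430 k (hK₀ hk) hk1] at h1
      exact h1
    · rintro ⟨hxY, hxKs⟩
      refine ⟨hxY, ?_⟩
      exact Subgroup.centralizer_le (SetLike.coe_subset_coe.2 hK₀) (Subgroup.mem_inf.1 hxKs).2
  have e1 : Y ⊓ centralizer ((D₀ ⊔ K₀ : Subgroup G) : Set G) =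
      Y ⊓ (Q ⊓ centralizer (D₀ : Set G)) ⊓ (sigmaCore M ⊓ centralizer (K : Set G)) := by
    ext x
    constructor
    · intro hx
      obtain ⟨hxY, hxC⟩ := Subgroup.mem_inf.1 hx
      have hxD : x ∈ centralizer (D₀ : Set G) :=
        Subgroup.centralizer_le (SetLike.coe_subset_coe.2 (le_sup_left : D₀ ≤ D₀ ⊔ K₀)) hxC
      have hxK₀ : x ∈ centralizer (K₀ : Set G) :=
        Subgroup.centralizer_le (SetLike.coe_subset_coe.2 (le_sup_right : K₀ ≤ D₀ ⊔ K₀)) hxC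
      have h2 : x ∈ Y ⊓ centralizer (K₀ : Set G) := Subgroup.mem_inf.2 ⟨hxY, hxK₀⟩
      rw [e2] at h2
      exact Subgroup.mem_inf.2 ⟨Subgroup.mem_inf.2 ⟨hxY, Subgroup.mem_inf.2 ⟨hYQ hxY, hxD⟩⟩,
        (Subgroup.mem_inf.1 h2).2⟩
    · intro hx
      obtain ⟨hx1, hxKs⟩ := Subgroup.mem_inf.1 hx
      obtain ⟨hxY, hx2⟩ := Subgroup.mem_inf.1 hx1
      have hxD : x ∈ centralizer (D₀ : Set G) := (Subgroup.mem_inf.1 hx2).2
      have hxK₀ : x ∈ centralizer (K₀ : Set G) :=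
        Subgroup.centralizer_le (SetLike.coe_subset_coe.2 hK₀) (Subgroup.mem_inf.1 hxKs).2
      refine Subgroup.mem_inf.2 ⟨hxY, ?_⟩
      have hle : D₀ ⊔ K₀ ≤ centralizer ({x} : Set G) := by
        refine sup_le ?_ ?_
        · intro d hd
          rw [Subgroup.mem_centralizer_iff]
          intro h hh
          rw [Set.mem_singleton_iff] at hh
          rw [hh]
          exact ((Subgroup.mem_centralizer_iff.1 hxD) d hd).symm
        · intro d hd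
          rw [Subgroup.mem_centralizer_iff]
          intro h hh
          rw [Set.mem_singleton_iff] at hh
          rw [hh]
          exact ((Subgroup.mem_centralizer_iff.1 hxK₀) d hd).symm
      rw [Subgroup.mem_centralizer_iff]
      intro y hy
      exact ((Subgroup.mem_centralizer_iff.1 (hle hy)) x rfl).symm
  rw [e1, e2, e3] at key
  exact key

end Cfsg.Agent.Helper91
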