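/-
Helper91: PIECE FP of CALL S3805 (helper16): a normal subgroup meeting `T` trivially is trivial.
-/
import Cfsg.Agent.Helper16.S3Core
import Cfsg.Agent.Helper1.FpfSylow

set_option autoImplicit false

namespace Cfsg.Agent.Helper91

open Cfsg Cfsg.Agent.Helper16 DihedralGroup

theorem s3fp_comm_rot : ∀ (n : NM) (i j : ZMod 3), ∃ i' j' : ZMod 3,
    n * (r i, r j) * n⁻¹ * (r i, r j)⁻¹ = (r i', r j') := by
  decide

theorem s3fp_central : ∀ n : NM,
    (∀ i j : ZMod 3, n * (r i, r j) * n⁻¹ * (r i, r j)⁻¹ = (r 0, r 0)) →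
      ∃ i j : ZMod 3, n = (r i, r j) := by
  decide

set_option maxRecDepth 1000000 in
theorem s3fp_cube_mul : ∀ a b : NM, a ^ 3 = 1 → b ^ 3 = 1 → (a * b) ^ 3 = 1 := by
  decide +kernel

theorem s3fp_cube_rot : ∀ m : NM, m ^ 3 = 1 → ∃ i j : ZMod 3, m = (r i, r j) := by
  decide

theorem s3fp_a_cube : ((r 1, 1) : NM) ^ 3 = 1 := by decide

theorem s3fp_b_cube : ((1, r 1) : NM) ^ 3 = 1 := by decide

theorem s3fp_a_ne : ((r 1, 1) : NM) ≠ 1 := by decide

theorem s3fp_b_ne : ((1, r 1) : NM) ≠ 1 := by decide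

theorem s3fp_r_ne : (1 : DihedralGroup 3) ≠ r 1 := by decide

/-- The rotations of the model, as a subgroup. -/
def s3Rot : Subgroup NM where
  carrier := {m | m ^ 3 = 1}
  mul_mem' := fun {a b} ha hb => s3fp_cube_mul a b ha hb
  one_mem' := one_pow 3
  inv_mem' := fun {x} hx => by
    show x⁻¹ ^ 3 = 1
    rw [inv_pow, show x ^ 3 = 1 from hx, inv_one]

theorem mem_s3Rot (m : NM) : m ∈ s3Rot ↔ m ^ 3 = 1 := Iff.rfl

theorem s3_normal_eq_bot {G : Type*} [Group G] [Finite G] {φ : NM →* G} (h : S3Cfg φ) (K : Subgroup G) [K.Normal] (hK : ∀ i j : ZMod 3, φ (r i, r j) ∈ K → i = 0 ∧ j = 0) : K = ⊥ := by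
  -- `K` meets the range of `φ` trivially
  have hKN : ∀ n : NM, φ n ∈ K → n = 1 := by
    intro n hn
    have h1 : ∀ i j : ZMod 3, n * (r i, r j) * n⁻¹ * (r i, r j)⁻¹ = (r 0, r 0) := by
      intro i j
      obtain ⟨i', j', hij⟩ := s3fp_comm_rot n i j
      have h2 : φ (n * (r i, r j) * n⁻¹ * (r i, r j)⁻¹) ∈ K := by
        have h3 : φ (n * (r i, r j) * n⁻¹ * (r i, r j)⁻¹) =
            φ n * (φ (r i, r j) * (φ n)⁻¹ * (φ (r i, r j))⁻¹) := by
          rw [map_mul, map_mul, map_mul, map_inv, map_inv]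
          group
        rw [h3]
        exact K.mul_mem hn (Subgroup.Normal.conj_mem inferInstance _ (K.inv_mem hn) _)
      rw [hij] at h2
      obtain ⟨rfl, rfl⟩ := hK i' j' h2
      exact hij
    obtain ⟨i, j, rfl⟩ := s3fp_central n h1
    obtain ⟨rfl, rfl⟩ := hK i j hn
    rfl
  by_contra hKbot
  have hfact : Fact (Nat.Prime 3) := ⟨by norm_num⟩
  have hQK : s3Rot.map φ ≤ Subgroup.normalizer (K : Set G) := by
    rw [Subgroup.normalizer_eq_top]
    exact le_top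
  have hfpf : ∀ x ∈ s3Rot.map φ, x ≠ 1 → K ⊓ Subgroup.centralizer {x} = ⊥ := by
    rintro x ⟨m, hm, rfl⟩ hx
    have hm3 : m ^ 3 = 1 := hm
    have hm2 : m ^ 2 ≠ 1 := by
      intro h2
      apply hx
      have h1 : m = 1 := by
        calc m = m ^ 3 * (m ^ 2)⁻¹ := by group
          _ = 1 := by rw [hm3, h2, inv_one, one_mul]
      rw [h1, map_one]
    rw [eq_bot_iff]
    intro g hg
    have hgc : g * φ m = φ m * g := by
      have := Subgroup.mem_centralizer_iff.1 hg.2 (φ m) (Set.mem_singleton _)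
      exact this.symm
    obtain ⟨n, rfl⟩ := h.mem_range_of_commute hm2 hgc
    rw [hKN n hg.1, map_one]
    exact Subgroup.mem_bot.2 rfl
  have hQ : IsPGroup 3 (s3Rot.map φ) := by
    rintro ⟨x, m, hm, rfl⟩
    refine ⟨1, ?_⟩
    apply Subtype.ext
    have hm3 : m ^ 3 = 1 := hm
    show (φ m) ^ 3 ^ 1 = 1
    rw [pow_one, ← map_pow, hm3, map_one]
  have hA : Subgroup.zpowers (φ (r 1, 1)) ≤ s3Rot.map φ := by
    rw [Subgroup.zpowers_le]
    exact ⟨_, s3fp_a_cube, rfl⟩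
  have hB : Subgroup.zpowers (φ (1, r 1)) ≤ s3Rot.map φ := by
    rw [Subgroup.zpowers_le]
    exact ⟨_, s3fp_b_cube, rfl⟩
  have hAc : Nat.card (Subgroup.zpowers (φ (r 1, 1))) = 3 := by
    rw [Nat.card_zpowers]
    apply orderOf_eq_prime
    · rw [← map_pow, s3fp_a_cube, map_one]
    · intro h1
      exact s3fp_a_ne (h.inj (h1.trans (map_one φ).symm))
  have hBc : Nat.card (Subgroup.zpowers (φ (1, r 1))) = 3 := by
    rw [Nat.card_zpowers]
    apply orderOf_eq_prime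
    · rw [← map_pow, s3fp_b_cube, map_one]
    · intro h1
      exact s3fp_b_ne (h.inj (h1.trans (map_one φ).symm))
  have hAB := Cfsg.Agent.Helper1.fpf_eq_of_card_prime K (s3Rot.map φ) hKbot hQK hfpf 3 hQ
    _ _ hA hB hAc hBc
  have hmem : φ (r 1, 1) ∈ Subgroup.zpowers (φ (1, r 1)) := by
    rw [← hAB]
    exact Subgroup.mem_zpowers _
  obtain ⟨k, hk⟩ := Subgroup.mem_zpowers_iff.1 hmem
  rw [← map_zpow] at hk
  have h1 := congrArg Prod.fst (h.inj hk)
  rw [Prod.pow_fst, one_zpow] at h1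
  exact s3fp_r_ne h1

end Cfsg.Agent.Helper91
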