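import Cfsg.Agent.Helper22.Transitivity
import Cfsg.Agent.Helper23.FittingHall
import Cfsg.Agent.Helper1.BG15C1
import Cfsg.Agent.Helper68.BG14R30
import Cfsg.Agent.S1354
import Cfsg.Agent.S1365

/-!
# CALL BG17 piece WZ (helper91)
-/

set_option autoImplicit false

namespace Cfsg.Agent.Helper91

open Cfsg Subgroup

universe u

variable {G : Type u} [Group G] [Finite G]

/-- WZ. `C_{M'}(x) = K*` for `x ∈ K#`  (S1354: `C_M(x) = K K*`; `K* ≤ M_σ ≤ M'`
(`Helper1.bg15_sigma_le_comm`), `M' ∩ K = 1` (orders), modular law). -/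
theorem bg17_W2_cent (hG : IsMinSimpleOddOrder G) {M K U : Subgroup G} (hM : IsCoatom M)
    (hKU : IsSigmaDecomposition M K U) (hK1 : K ≠ ⊥) :
    ∀ x ∈ K, x ≠ 1 →
      ⁅M, M⁆ ⊓ centralizer ({x} : Set G) = sigmaCore M ⊓ centralizer (K : Set G) := by
  intro x hx hx1
  have hS := Cfsg.Agent.S1354.result hG M hM K hKU.cyclic hKU.hall
  have hCx := hS.2 hK1 x hx hx1
  have hD := (Cfsg.Agent.S1365.result hG M hM K U hKU hK1).1
  have hσD : sigmaCore M ≤ ⁅M, M⁆ := Helper1.bg15_sigma_le_comm hG M hM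
  have hDM : ⁅M, M⁆ ≤ M :=
    Subgroup.commutator_le.mpr (fun a ha b hb => by
      rw [commutatorElement_def]
      exact M.mul_mem (M.mul_mem (M.mul_mem ha hb) (M.inv_mem ha)) (M.inv_mem hb))
  have hUhall := Helper68.bg14r_U_hall hG hM hKU
  have hcU : (Nat.card U).Coprime (Nat.card K) := by
    apply Nat.coprime_of_dvd
    intro q hq hqU hqK
    exact (hUhall.2.1 q hq hqU).2.1 (hKU.hall.2.1 q hq hqK)
  have hcS : (Nat.card (sigmaCore M)).Coprime (Nat.card K) := by
    apply Nat.coprime_of_dvd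
    intro q hq hqS hqK
    exact (hKU.hall.2.1 q hq hqK).2.2.1 (Helper23.mem_of_dvd_card_piCoreOf (sigma M) M hq hqS)
  have hUn : U ≤ normalizer (sigmaCore M : Set G) :=
    hKU.compl.1.trans (Helper23.le_normalizer_piCoreOf (sigma M) M)
  have hcard := Helper22.card_sup_dvd_of_le_normalizer hUn
  have hcD : (Nat.card (⁅M, M⁆ : Subgroup G)).Coprime (Nat.card K) := by
    rw [hD]
    exact Nat.Coprime.coprime_dvd_left hcard (Nat.Coprime.mul_left hcU hcS)
  have hDK : ⁅M, M⁆ ⊓ K = ⊥ := Subgroup.inf_eq_bot_of_coprime hcD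
  apply le_antisymm
  · intro y hy
    obtain ⟨hyD, hyC⟩ := Subgroup.mem_inf.1 hy
    have hyK : y ∈ K ⊔ (sigmaCore M ⊓ centralizer (K : Set G)) := by
      rw [← hCx]
      exact Subgroup.mem_inf.2 ⟨hDM hyD, hyC⟩
    have hKn : K ≤ normalizer ((sigmaCore M ⊓ centralizer (K : Set G) : Subgroup G) : Set G) := by
      intro k hk
      apply Subgroup.centralizer_le_normalizer
      rw [Subgroup.mem_centralizer_iff]
      intro b hb
      have := (Subgroup.mem_centralizer_iff.1 (Subgroup.mem_inf.1 hb).2) k hk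
      exact this.symm
    obtain ⟨a, ha, b, hb, rfl⟩ := Helper22.exists_mul_of_mem_sup' hKn hyK
    have hbD : b ∈ ⁅M, M⁆ := hσD (Subgroup.mem_inf.1 hb).1
    have haD : a ∈ ⁅M, M⁆ := by
      have := Subgroup.mul_mem _ hyD (Subgroup.inv_mem _ hbD)
      simpa using this
    have ha1 : a = 1 := by
      have : a ∈ ⁅M, M⁆ ⊓ K := Subgroup.mem_inf.2 ⟨haD, ha⟩
      rw [hDK] at this
      exact Subgroup.mem_bot.1 this
    rw [ha1, one_mul]
    exact hb
  · intro y hy
    obtain ⟨hyS, hyC⟩ := Subgroup.mem_inf.1 hy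
    refine Subgroup.mem_inf.2 ⟨hσD hyS, ?_⟩
    rw [Subgroup.mem_centralizer_iff]
    intro z hz
    rw [Set.mem_singleton_iff] at hz
    rw [hz]
    exact (Subgroup.mem_centralizer_iff.1 hyC) x hx

end Cfsg.Agent.Helper91
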