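import Cfsg.Statements.S1383
import Cfsg.Agent.S1403
import Cfsg.Agent.S1420
import Cfsg.Agent.Helper49.OddCyclic
import Cfsg.Agent.Helper22.BG10b
import Cfsg.Agent.Helper22.BG11a
import Cfsg.Agent.Helper23.FittingHall

/-!
# CALL BG83 piece CEN (helper91)
-/

set_option autoImplicit false

namespace Cfsg.Agent.Helper91

open Cfsg Subgroup

universe u

variable {G : Type u} [Group G] [Finite G]

/-- CEN. (`q ∉ σ(N)` as `Q ≤ M ∩ N`, `Q ≠ 1`; `Q` abelian noncyclic: `¬ PRankLE q 1 ↥N`;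
`PRankLE q 2 ↥N` since `α(N) ⊆ σ(N)` (`Helper22.bg10_alpha_sub_sigma`): `q ∈ τ₂(N)`;
`b ∈ sigmaHat N` by `hfix`; S1420 clause 4 for `N` (with `E = M ⊓ N`).) -/
theorem bg83_cent_le (hG : IsMinSimpleOddOrder G) {M N : Subgroup G} (hN : IsCoatom N)
    (hc : IsComplIn (M ⊓ N) (sigmaCore N) N) {q : ℕ} (hq : q.Prime) (Q : Subgroup G)
    (hQ : Q ≤ M ⊓ N) (hQq : IsPGroup q Q) (hQab : ∀ a ∈ Q, ∀ b ∈ Q, a * b = b * a)
    (hQnc : ¬ IsCyclic ↥Q) {b : G} (hb : b ∈ Q) (hb1 : b ≠ 1)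
    (hfix : sigmaCore N ⊓ centralizer ({b} : Set G) ≠ ⊥) : centralizer ({b} : Set G) ≤ N := by
  haveI : IsSimpleGroup G := hG.2.1
  haveI := Fact.mk hq
  have hUq : Helper22.BGUniq G := fun K hK h1 h2 => Cfsg.Agent.S1403.result hG K hK h1 h2
  obtain ⟨⟨hσle, -, hσidx⟩, -, -⟩ := Helper22.bg10_sigma_hall hG hUq hN
  have hQN : Q ≤ N := hQ.trans inf_le_right
  have hbN : b ∈ N := hQN hb
  have hQ1 : Q ≠ ⊥ := by
    intro h
    rw [h] at hb
    exact hb1 (Subgroup.mem_bot.mp hb)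
  have hqQ : q ∣ Nat.card Q := Helper22.bg11_dvd_card_of_isPGroup hQq hQ1
  -- `q ∉ σ(N)`
  have hqσ : q ∉ sigma N := by
    intro hqσ
    apply hσidx q hq hqσ
    have hcard : Nat.card N = Nat.card ↥(M ⊓ N) * Nat.card (sigmaCore N) :=
      Helper23.card_of_isComplIn _ _ _ hc
    have hrel : Nat.card (sigmaCore N) * (sigmaCore N).relIndex N = Nat.card N := by
      have h2 := Subgroup.relIndex_mul_relIndex ⊥ (sigmaCore N) N bot_le hσle
      rwa [Subgroup.relIndex_bot_left, Subgroup.relIndex_bot_left] at h2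
    have hri : (sigmaCore N).relIndex N = Nat.card ↥(M ⊓ N) := by
      have hpos : 0 < Nat.card (sigmaCore N) := Nat.card_pos
      apply Nat.eq_of_mul_eq_mul_left hpos
      rw [hrel, hcard, mul_comm]
    rw [hri]
    exact hqQ.trans (Subgroup.card_dvd_of_le hQ)
  -- `q` is odd
  have hodd : q ≠ 2 := by
    intro h2
    have h3 : q ∣ Nat.card G := hqQ.trans (Subgroup.card_subgroup_dvd_card Q)
    rw [h2] at h3
    exact (Nat.not_even_iff_odd.mpr hG.1) (even_iff_two_dvd.mpr h3)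
  -- rank
  have hrk1 : ¬ PRankLE q 1 ↥N := by
    intro hrk
    apply hQnc
    have h1 : IsPGroup q ↥(Q.subgroupOf N) := hQq.comap_subtype
    have h2 : IsCyclic ↥(Q.subgroupOf N) :=
      Helper49.isCyclic_of_pRankLE_one hodd h1 (Helper49.pRankLE_subgroup hrk _)
    exact isCyclic_of_surjective (Subgroup.subgroupOfEquivOfLe hQN).toMonoidHom
      (Subgroup.subgroupOfEquivOfLe hQN).surjective
  have hrk2 : PRankLE q 2 ↥N :=
    Helper22.bg10_pRank_of_not_alpha N q hq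
      (fun hα => hqσ (Helper22.bg10_alpha_sub_sigma hG hUq hN hα))
  have hτ : q ∈ tau2 N := ⟨hq, hqσ, hrk2, hrk1⟩
  have hbq : ∀ p : ℕ, p.Prime → p ∣ orderOf b → p ∈ tau2 N := by
    intro p hp hpb
    obtain ⟨k, hk⟩ := hQq ⟨b, hb⟩
    have h1 : orderOf b ∣ q ^ k := by
      apply orderOf_dvd_of_pow_eq_one
      have h2 := congrArg Subtype.val hk
      simpa using h2
    have hpq : p = q := (Nat.prime_dvd_prime_iff_eq hp hq).mp (hp.dvd_of_dvd_pow (hpb.trans h1))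
    rw [hpq]
    exact hτ
  have hhat : b ∈ sigmaHat N := by
    obtain ⟨y, hy⟩ := (Subgroup.ne_bot_iff_exists_ne_one).mp hfix
    have hy' := Subgroup.mem_inf.1 y.2
    refine ⟨hbN, (y : G), hy'.1, ?_, ?_⟩
    · intro h
      apply hy
      exact Subtype.ext h
    · exact (Subgroup.mem_centralizer_iff.1 hy'.2) b rfl
  exact ((Cfsg.Agent.S1420.result hG N hN (M ⊓ N) hc).2.2.2 b hbN hb1 hbq hhat).1

end Cfsg.Agent.Helper91
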