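import Mathlib
import Cfsg.Agent.Helper52.U7920Defs

set_option autoImplicit false

namespace Cfsg.Agent.Helper91

open Cfsg.Agent.Helper52

variable {G : Type*} [Group G] [Finite G]

-- PIECE P2a
theorem u7920_central_invol (h : U7920Hyp G) (R : Sylow 3 G)
    (hC : Nat.card ↥(Subgroup.centralizer ((R : Subgroup G) : Set G)) ≠ 9) :
    ∃ z : G, orderOf z = 2 ∧
      Subgroup.normalizer ((R : Subgroup G) : Set G) ≤ Subgroup.centralizer ({z} : Set G) := by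
  classical
  haveI : Fact (Nat.Prime 2) := ⟨Nat.prime_two⟩
  obtain ⟨C, hCdef⟩ : ∃ C : Subgroup G, C = Subgroup.centralizer ((R : Subgroup G) : Set G) :=
    ⟨_, rfl⟩
  obtain ⟨N, hNdef⟩ : ∃ N : Subgroup G, N = Subgroup.normalizer ((R : Subgroup G) : Set G) :=
    ⟨_, rfl⟩
  rw [← hCdef] at hC
  rw [← hNdef]
  have hmemC : ∀ c, c ∈ C ↔ ∀ r ∈ (R : Subgroup G), r * c = c * r := by
    intro c
    rw [hCdef, Subgroup.mem_centralizer_iff]
    rfl
  have hRC : (R : Subgroup G) ≤ C := by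
    intro r hr
    rw [hmemC]
    intro r' hr'
    exact (h.syl3 R).2 r' hr' r hr
  have hCN : C ≤ N := by
    rw [hCdef, hNdef]
    exact Subgroup.centralizer_le_normalizer _
  have hRN : (R : Subgroup G) ≤ N := hRC.trans hCN
  have hR9 : Nat.card ↥(R : Subgroup G) = 9 := (h.syl3 R).1
  have hN144 : Nat.card ↥N = 144 := by
    rw [hNdef]
    exact h.n3 R
  -- |C| is even
  have h2C : 2 ∣ Nat.card ↥C := by
    have h1 : 9 ∣ Nat.card ↥C := by
      rw [← hR9]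
      exact Subgroup.card_dvd_of_le hRC
    have h2 : Nat.card ↥C ∣ 144 := by
      rw [← hN144]
      exact Subgroup.card_dvd_of_le hCN
    obtain ⟨m, hm⟩ := h1
    rw [hm] at h2 hC
    have h3 : m ∣ 16 := Nat.dvd_of_mul_dvd_mul_left (by norm_num : 0 < 9) (by simpa using h2)
    have h4 : m ≤ 16 := Nat.le_of_dvd (by norm_num) h3
    rw [hm]
    interval_cases m <;> omega
  -- an involution of C
  obtain ⟨c₀', hc₀'⟩ := exists_prime_orderOf_dvd_card' (G := ↥C) 2 h2C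
  obtain ⟨c₀, hc₀C, hc₀⟩ : ∃ c₀ : G, c₀ ∈ C ∧ orderOf c₀ = 2 :=
    ⟨c₀'.1, c₀'.2, by rw [← hc₀', Subgroup.orderOf_coe]⟩
  have hc₀N : c₀ ∈ N := hCN hc₀C
  have hc₀1 : c₀ ≠ 1 := by
    intro h1
    rw [h1, orderOf_one] at hc₀
    omega
  -- a Sylow 2-subgroup of N containing c₀
  have hzp : IsPGroup 2 ↥(Subgroup.zpowers (⟨c₀, hc₀N⟩ : ↥N)) := by
    apply IsPGroup.of_card (n := 1)
    rw [Nat.card_zpowers, Subgroup.orderOf_mk, hc₀, pow_one]
  obtain ⟨Q, hQ⟩ := hzp.exists_le_sylow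
  obtain ⟨T, hTdef⟩ : ∃ T : Subgroup G, T = (Q : Subgroup ↥N).map N.subtype := ⟨_, rfl⟩
  have hTN : T ≤ N := by
    rw [hTdef]
    exact Subgroup.map_subtype_le _
  have hTp : IsPGroup 2 ↥T := by
    rw [hTdef]
    exact Q.isPGroup'.map N.subtype
  have hT16 : 16 ∣ Nat.card ↥T := by
    rw [hTdef, Subgroup.card_map_of_injective N.subtype_injective]
    have h1 : 2 ^ 4 ∣ Nat.card ↥N := by
      rw [hN144]
      norm_num
    exact Q.pow_dvd_card_of_pow_dvd_card h1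
  have hc₀T : c₀ ∈ T := by
    rw [hTdef]
    exact ⟨⟨c₀, hc₀N⟩, hQ (Subgroup.mem_zpowers _), rfl⟩
  -- P = T ⊓ C, acted on by T by conjugation
  obtain ⟨P, hPdef⟩ : ∃ P : Subgroup G, P = T ⊓ C := ⟨_, rfl⟩
  have hPmem : ∀ g, g ∈ P ↔ g ∈ T ∧ g ∈ C := by
    intro g
    rw [hPdef]
    exact Subgroup.mem_inf
  have hPT : P ≤ T := by
    rw [hPdef]
    exact inf_le_left
  have hPC : P ≤ C := by
    rw [hPdef]
    exact inf_le_right
  have hconjC : ∀ t ∈ N, ∀ x ∈ C, t * x * t⁻¹ ∈ C := by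
    intro t ht x hx
    rw [hmemC] at hx ⊢
    intro r hr
    have h1 : t⁻¹ * r * t ∈ (R : Subgroup G) := by
      rw [hNdef] at ht
      have h2 := (Subgroup.mem_normalizer_iff.1 (inv_mem ht) r).1 hr
      simpa using h2
    have h3 := hx _ h1
    calc r * (t * x * t⁻¹) = t * ((t⁻¹ * r * t) * x) * t⁻¹ := by group
      _ = t * (x * (t⁻¹ * r * t)) * t⁻¹ := by rw [h3]
      _ = t * x * t⁻¹ * r := by group
  have hmemP : ∀ (t : ↥T) (x : ↥P), (t : G) * (x : G) * (t : G)⁻¹ ∈ P := by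
    intro t x
    exact (hPmem _).2
      ⟨mul_mem (mul_mem t.2 (hPT x.2)) (inv_mem t.2), hconjC _ (hTN t.2) _ (hPC x.2)⟩
  letI : MulAction ↥T ↥P :=
    { smul := fun t x => ⟨(t : G) * (x : G) * (t : G)⁻¹, hmemP t x⟩
      one_smul := fun x => Subtype.ext (by
        show ((1 : ↥T) : G) * (x : G) * ((1 : ↥T) : G)⁻¹ = x
        simp)
      mul_smul := fun s t x => Subtype.ext (by
        show ((s * t : ↥T) : G) * (x : G) * ((s * t : ↥T) : G)⁻¹ =
          (s : G) * ((t : G) * (x : G) * (t : G)⁻¹) * (s : G)⁻¹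
        simp [mul_assoc]) }
  have hsmul : ∀ (t : ↥T) (x : ↥P), ((t • x : ↥P) : G) = (t : G) * (x : G) * (t : G)⁻¹ :=
    fun _ _ => rfl
  have hfix := hTp.card_modEq_card_fixedPoints ↥P
  have hPp : IsPGroup 2 ↥P := hTp.to_le hPT
  have hP2 : 2 ∣ Nat.card ↥P := by
    refine hPp.card_eq_or_dvd.resolve_left ?_
    intro h1
    haveI : Subsingleton ↥P := (Nat.card_eq_one_iff_unique.1 h1).1
    have h2 : (⟨c₀, (hPmem c₀).2 ⟨hc₀T, hc₀C⟩⟩ : ↥P) = 1 := Subsingleton.elim _ _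
    exact hc₀1 (congrArg Subtype.val h2)
  have hF2 : 2 ∣ Nat.card ↥(MulAction.fixedPoints ↥T ↥P) :=
    (Nat.modEq_zero_iff_dvd.1 (hfix.symm.trans (Nat.modEq_zero_iff_dvd.2 hP2)))
  obtain ⟨z₀, hz₀fix, hz₀1⟩ : ∃ z₀ : ↥P, (∀ t : ↥T, t • z₀ = z₀) ∧ z₀ ≠ 1 := by
    by_contra hcon
    push_neg at hcon
    have h1 : Nat.card ↥(MulAction.fixedPoints ↥T ↥P) = 1 := by
      rw [Nat.card_eq_one_iff_unique]
      refine ⟨⟨?_⟩, ⟨⟨1, fun t => Subtype.ext (by rw [hsmul]; simp)⟩⟩⟩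
      rintro ⟨a, ha⟩ ⟨b, hb⟩
      apply Subtype.ext
      show a = b
      rw [hcon a ha, hcon b hb]
    rw [h1] at hF2
    omega
  have hz₀G1 : (z₀ : G) ≠ 1 := fun h1 => hz₀1 (Subtype.ext h1)
  have hz₀conj : ∀ t ∈ T, t * (z₀ : G) * t⁻¹ = z₀ := by
    intro t ht
    have h1 := hz₀fix ⟨t, ht⟩
    have h2 := congrArg Subtype.val h1
    rw [hsmul] at h2
    exact h2
  -- an involution in ⟨z₀⟩
  obtain ⟨k, hk⟩ := (IsPGroup.iff_orderOf.1 hTp) ⟨(z₀ : G), hPT z₀.2⟩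
  rw [Subgroup.orderOf_mk] at hk
  have hk0 : k ≠ 0 := by
    intro h0
    rw [h0, pow_zero, orderOf_eq_one_iff] at hk
    exact hz₀G1 hk
  have h2ord : 2 ∣ orderOf (z₀ : G) := by
    rw [hk]
    exact dvd_pow_self 2 hk0
  obtain ⟨z, hzdef⟩ : ∃ z : G, z = (z₀ : G) ^ (orderOf (z₀ : G) / 2) := ⟨_, rfl⟩
  have hz2 : orderOf z = 2 := by
    rw [hzdef]
    exact orderOf_pow_orderOf_div (orderOf_pos _).ne' h2ord
  have hzC : z ∈ C := by
    rw [hzdef]
    exact pow_mem (hPC z₀.2) _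
  have hzT : ∀ t ∈ T, t * z * t⁻¹ = z := by
    intro t ht
    rw [hzdef, ← conj_pow, hz₀conj t ht]
  refine ⟨z, hz2, ?_⟩
  obtain ⟨K, hKdef⟩ : ∃ K : Subgroup G, K = Subgroup.centralizer ({z} : Set G) ⊓ N := ⟨_, rfl⟩
  have hmemZ : ∀ g, g ∈ Subgroup.centralizer ({z} : Set G) ↔ z * g = g * z := by
    intro g
    rw [Subgroup.mem_centralizer_iff]
    constructor
    · intro h1
      exact h1 z rfl
    · intro h1 y hy
      rw [Set.mem_singleton_iff.1 hy]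
      exact h1
  have hRK : (R : Subgroup G) ≤ K := by
    intro r hr
    rw [hKdef]
    exact Subgroup.mem_inf.2 ⟨(hmemZ r).2 ((hmemC z).1 hzC r hr).symm, hRN hr⟩
  have hTK : T ≤ K := by
    intro t ht
    rw [hKdef]
    have h1 := hzT t ht
    rw [mul_inv_eq_iff_eq_mul] at h1
    exact Subgroup.mem_inf.2 ⟨(hmemZ t).2 h1.symm, hTN ht⟩
  have hKN : K ≤ N := by
    rw [hKdef]
    exact inf_le_right
  have h144 : 144 ∣ Nat.card ↥K := by
    have h9 : 9 ∣ Nat.card ↥K := by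
      rw [← hR9]
      exact Subgroup.card_dvd_of_le hRK
    have h16 : 16 ∣ Nat.card ↥K := hT16.trans (Subgroup.card_dvd_of_le hTK)
    have hcop : Nat.Coprime 9 16 := by norm_num
    exact hcop.mul_dvd_of_dvd_of_dvd h9 h16
  have hKeq : K = N := by
    apply Subgroup.eq_of_le_of_card_ge hKN
    rw [hN144]
    exact Nat.le_of_dvd Nat.card_pos h144
  rw [← hKeq, hKdef]
  exact inf_le_left

end Cfsg.Agent.Helper91
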