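/-
Helper91: kernel-cheap loops (written with recursors and plain `Nat` functions) over products of tables.
A permutation is packed into one `Nat`, five bits per point.
-/
import Cfsg.Agent.Helper91.Mathieu

set_option autoImplicit false

namespace Cfsg.Agent.Helper91

open Cfsg

/-- `List.all`, by the recursor. -/
def allL {α : Type} (l : List α) (f : α → Bool) : Bool :=
  List.rec (motive := fun _ => Bool) true (fun x _ ih => Bool.and (f x) ih) l

/-- `List.any`, by the recursor. -/
def anyL {α : Type} (l : List α) (f : α → Bool) : Bool :=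
  List.rec (motive := fun _ => Bool) false (fun x _ ih => Bool.or (f x) ih) l

theorem allL_eq {α : Type} (l : List α) (f : α → Bool) : allL l f = l.all f := by
  induction l with
  | nil => rfl
  | cons x l ih => rw [List.all_cons, ← ih]; rfl

theorem anyL_eq {α : Type} (l : List α) (f : α → Bool) : anyL l f = l.any f := by
  induction l with
  | nil => rfl
  | cons x l ih => rw [List.any_cons, ← ih]; rfl

/-- Digit `i` (five bits) of a packed table. -/
def dg (P i : Nat) : Nat := Nat.land (Nat.shiftRight P (Nat.mul 5 i)) 31

/-- Pack the composition `P ∘ T` (digit `i` is digit `T[i]` of `P`). -/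
def compP (P : Nat) (T : List Nat) : Nat :=
  List.rec (motive := fun _ => Nat) 0 (fun j _ ih => Nat.add (dg P j) (Nat.mul 32 ih)) T

theorem dg_lt (P i : Nat) : dg P i < 32 := by
  have : dg P i = (P >>> (5 * i)) % 2 ^ 5 := Nat.and_two_pow_sub_one_eq_mod _ 5
  rw [this]
  exact Nat.mod_lt _ (by norm_num)

theorem dg_cons_zero {d n : Nat} (hd : d < 32) : dg (d + 32 * n) 0 = d := by
  have : dg (d + 32 * n) 0 = ((d + 32 * n) >>> (5 * 0)) % 2 ^ 5 := Nat.and_two_pow_sub_one_eq_mod _ 5
  rw [this]
  simp only [Nat.mul_zero, Nat.shiftRight_zero]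
  omega

theorem dg_cons_succ {d n : Nat} (hd : d < 32) (i : Nat) : dg (d + 32 * n) (i + 1) = dg n i := by
  have h1 : dg (d + 32 * n) (i + 1) = ((d + 32 * n) >>> (5 * (i + 1))) % 2 ^ 5 :=
    Nat.and_two_pow_sub_one_eq_mod _ 5
  have h2 : dg n i = (n >>> (5 * i)) % 2 ^ 5 := Nat.and_two_pow_sub_one_eq_mod _ 5
  rw [h1, h2, show 5 * (i + 1) = 5 + 5 * i by ring, Nat.shiftRight_add, Nat.shiftRight_eq_div_pow (d + 32 * n) 5]
  have : (d + 32 * n) / 2 ^ 5 = n := by omega
  rw [this]

theorem compP_cons (P j : Nat) (T : List Nat) : compP P (j :: T) = dg P j + 32 * compP P T := rfl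

theorem dg_compP (P : Nat) (T : List Nat) {i : Nat} (hi : i < T.length) :
    dg (compP P T) i = dg P (T.getD i 0) := by
  induction T generalizing i with
  | nil => simp at hi
  | cons j T ih =>
    rw [compP_cons]
    cases i with
    | zero => rw [dg_cons_zero (dg_lt P j)]; rfl
    | succ i =>
      rw [dg_cons_succ (dg_lt P j), ih (by simpa using hi)]; rfl

/-- The packed table `P` represents the map `g`. -/
def Rep (P : Nat) (g : GolayPt → GolayPt) : Prop := ∀ i, i < 24 → dg P i = idx (g (pt i))

/-- The packed identity. -/
def pkId : Nat := 984818244535754528103549039458486304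

theorem Rep_pkId : Rep pkId id := by
  unfold Rep
  decide +kernel

theorem Rep.comp {P : Nat} {g : GolayPt → GolayPt} (h : Rep P g) {T : List Nat} (hT : validTab T = true) :
    Rep (compP P T) (g ∘ tabFun T) := by
  intro i hi
  rw [dg_compP P T (by rw [validTab_length hT]; exact hi), h _ (validTab_lt hT i), Function.comp_apply,
    tabFun, idx_pt hi]

theorem Rep.apply {P : Nat} {g : GolayPt → GolayPt} (h : Rep P g) (p : GolayPt) :
    dg P (idx p) = idx (g p) := by
  rw [h _ (idx_lt p), pt_idx]

/-- `f` holds on the packed products of tables, one from each list, multiplied on the right of `acc`. -/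
def allProdP (f : Nat → Bool) (Us : List (List (List Nat))) : Nat → Bool :=
  List.rec (motive := fun _ => Nat → Bool) (fun acc => f acc)
    (fun U _ ih acc => allL U (fun T => ih (compP acc T))) Us

theorem allProdP_nil (f : Nat → Bool) (acc : Nat) : allProdP f [] acc = f acc := rfl

theorem allProdP_cons (f : Nat → Bool) (U : List (List Nat)) (Us : List (List (List Nat))) (acc : Nat) :
    allProdP f (U :: Us) acc = U.all (fun T => allProdP f Us (compP acc T)) := by
  rw [← allL_eq]; rfl

theorem allProdP_spec (f : Nat → Bool) :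
    ∀ (Us : List (List (List Nat))) (acc : Nat) (g0 : GolayPt → GolayPt), Rep acc g0 →
      allProdP f Us acc = true → ∀ h : GolayPt → GolayPt, IsChainProd Us h →
        ∃ P, f P = true ∧ Rep P (g0 ∘ h) := by
  intro Us
  induction Us with
  | nil =>
    intro acc g0 hrep hall h hh
    simp only [IsChainProd] at hh
    subst hh
    exact ⟨acc, hall, hrep⟩
  | cons U Us ih =>
    intro acc g0 hrep hall h hh
    obtain ⟨T0, hT0, hv, h', hh', rfl⟩ := hh
    rw [allProdP_cons, List.all_eq_true] at hall
    exact ih (compP acc T0) (g0 ∘ tabFun T0) (hrep.comp hv) (hall T0 hT0) h' hh'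

/-- If `f` holds on all packed products of the transversal tables then every product of tables is
represented by a packed table satisfying `f`. -/
theorem forall_of_allProdP {Us : List (List (List Nat))} {f : Nat → Bool}
    (hall : allProdP f Us pkId = true) {g : GolayPt → GolayPt} (hg : IsChainProd Us g) :
    ∃ P, f P = true ∧ Rep P g :=
  allProdP_spec f Us pkId id Rep_pkId hall g hg

end Cfsg.Agent.Helper91
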