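import Mathlib
import Cfsg.Agent.Helper82.ExcCoherence

set_option autoImplicit false

namespace Cfsg.Agent.Helper91.D1AC

open scoped ComplexConjugate

variable {p : ℕ} [Fact p.Prime]

/-- `e x = ζ ^ x.val` -/
noncomputable def ee (ζ : ℂ) (x : ZMod p) : ℂ := ζ ^ x.val

theorem ee_add (ζ : ℂ) (hζ : IsPrimitiveRoot ζ p) (x y : ZMod p) :
    ee ζ (x + y) = ee ζ x * ee ζ y := by
  unfold ee
  rw [ZMod.val_add, ← pow_add, ← pow_eq_pow_mod _ hζ.pow_eq_one]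

theorem ee_zero (ζ : ℂ) : ee ζ (0 : ZMod p) = 1 := by
  unfold ee
  rw [ZMod.val_zero, pow_zero]

theorem ee_neg (ζ : ℂ) (hζ : IsPrimitiveRoot ζ p) (x : ZMod p) :
    ee ζ (-x) = (ee ζ x)⁻¹ := by
  have h : ee ζ (-x) * ee ζ x = 1 := by
    rw [← ee_add ζ hζ, neg_add_cancel, ee_zero]
  exact eq_inv_of_mul_eq_one_left h

theorem ee_conj (ζ : ℂ) (hζ : IsPrimitiveRoot ζ p) (x : ZMod p) :
    conj (ee ζ x) = ee ζ (-x) := by
  have hp : p ≠ 0 := (Fact.out : p.Prime).ne_zero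
  have hn : ‖ζ‖ = 1 := hζ.norm'_eq_one hp
  have hn2 : ‖ee ζ x‖ = 1 := by
    unfold ee
    rw [norm_pow, hn, one_pow]
  rw [ee_neg ζ hζ]
  exact (Complex.inv_eq_conj hn2).symm

theorem ee_sum_one (ζ : ℂ) (hζ : IsPrimitiveRoot ζ p) : ∑ x : ZMod p, ee ζ x = 0 := by
  have hp : 1 < p := (Fact.out : p.Prime).one_lt
  have h := hζ.geom_sum_eq_zero hp
  rw [← h]
  unfold ee
  apply Finset.sum_nbij' (fun x : ZMod p => x.val) (fun k : ℕ => (k : ZMod p))
  · intro x _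
    exact Finset.mem_range.2 (ZMod.val_lt x)
  · intro k _
    exact Finset.mem_univ _
  · intro x _
    exact ZMod.natCast_zmod_val x
  · intro k hk
    exact ZMod.val_natCast_of_lt (Finset.mem_range.1 hk)
  · intro x _
    rfl

theorem ee_sum (ζ : ℂ) (hζ : IsPrimitiveRoot ζ p) (y : ZMod p) :
    ∑ x : ZMod p, ee ζ (x * y) = if y = 0 then (p : ℂ) else 0 := by
  split_ifs with h
  · subst h
    simp only [mul_zero, ee_zero, Finset.sum_const, Finset.card_univ, ZMod.card, nsmul_eq_mul,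
      mul_one]
  · rw [← ee_sum_one ζ hζ]
    exact Equiv.sum_comp (Equiv.mulRight₀ y h) (fun x => ee ζ x)

/-- `D i = ∑ l, a l * e (i * l)` -/
noncomputable def DD (ζ : ℂ) (a : ZMod p → ℤ) (i : ZMod p) : ℂ :=
  ∑ l : ZMod p, (a l : ℂ) * ee ζ (i * l)

/-- Fourier inversion for differences. -/
theorem DD_inv (ζ : ℂ) (hζ : IsPrimitiveRoot ζ p) (a : ZMod p → ℤ) (l l' : ZMod p) :
    ∑ i : ZMod p, DD ζ a i * (ee ζ (-(i * l)) - ee ζ (-(i * l'))) =
      (p : ℂ) * ((a l : ℂ) - a l') := by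
  unfold DD
  simp_rw [Finset.sum_mul]
  rw [Finset.sum_comm]
  have h1 : ∀ k : ZMod p, ∑ i : ZMod p, (a k : ℂ) * ee ζ (i * k) *
      (ee ζ (-(i * l)) - ee ζ (-(i * l'))) =
      (a k : ℂ) * ((if k = l then (p : ℂ) else 0) - (if k = l' then (p : ℂ) else 0)) := by
    intro k
    have e1 : ∀ i : ZMod p, (a k : ℂ) * ee ζ (i * k) * (ee ζ (-(i * l)) - ee ζ (-(i * l'))) =
        (a k : ℂ) * (ee ζ (i * (k - l)) - ee ζ (i * (k - l'))) := by
      intro i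
      rw [mul_assoc, mul_sub, ← ee_add ζ hζ, ← ee_add ζ hζ]
      congr 3 <;> ring
    rw [Finset.sum_congr rfl (fun i _ => e1 i), ← Finset.mul_sum, Finset.sum_sub_distrib,
      ee_sum ζ hζ, ee_sum ζ hζ]
    simp only [sub_eq_zero]
  rw [Finset.sum_congr rfl (fun k _ => h1 k)]
  simp only [mul_sub, Finset.sum_sub_distrib, mul_ite, mul_zero, Finset.sum_ite_eq',
    Finset.mem_univ, if_true]
  ring

theorem DD_inv_conj (ζ : ℂ) (hζ : IsPrimitiveRoot ζ p) (a : ZMod p → ℤ) (m m' : ZMod p) :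
    ∑ i : ZMod p, conj (DD ζ a i) * (ee ζ (i * m) - ee ζ (i * m')) =
      (p : ℂ) * ((a m : ℂ) - a m') := by
  have h := congrArg conj (DD_inv ζ hζ a m m')
  simp only [map_sum, map_mul, map_sub, ee_conj ζ hζ, neg_neg, map_natCast, map_intCast] at h
  exact h

open Classical in
theorem ker_sum (E : Subgroup (ZMod p)ˣ) (i : ZMod p) (hi : i ≠ 0) (ψ : ZMod p → ℂ) (c : ℂ) :
    ∑ j : ZMod p, ψ j * (if ∃ s ∈ E, j = ((s : (ZMod p)ˣ) : ZMod p) * i then c else 0) =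
      c * ∑ s : (ZMod p)ˣ, if s ∈ E then ψ ((s : ZMod p) * i) else 0 := by
  have h1 : ∀ j : ZMod p, ψ j * (if ∃ s ∈ E, j = ((s : (ZMod p)ˣ) : ZMod p) * i then c else 0)
      = if j ∈ (Finset.univ.filter (· ∈ E)).image (fun s : (ZMod p)ˣ => (s : ZMod p) * i)
          then ψ j * c else 0 := by
    intro j
    by_cases h : ∃ s ∈ E, j = ((s : (ZMod p)ˣ) : ZMod p) * i
    · rw [if_pos h, if_pos]
      obtain ⟨s, hs, rfl⟩ := h
      exact Finset.mem_image.2 ⟨s, Finset.mem_filter.2 ⟨Finset.mem_univ _, hs⟩, rfl⟩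
    · rw [if_neg h, mul_zero, if_neg]
      intro hj
      obtain ⟨s, hs, rfl⟩ := Finset.mem_image.1 hj
      exact h ⟨s, (Finset.mem_filter.1 hs).2, rfl⟩
  rw [Finset.sum_congr rfl (fun j _ => h1 j), Finset.sum_ite_mem, Finset.univ_inter,
    Finset.sum_image, Finset.sum_filter, Finset.mul_sum]
  · apply Finset.sum_congr rfl
    intro s _
    split_ifs
    · ring
    · ring
  · intro s _ s' _ h
    exact Units.ext (mul_right_cancel₀ hi h)

theorem four_sum (ζ : ℂ) (hζ : IsPrimitiveRoot ζ p) (l l' m m' s : ZMod p) :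
    ∑ i : ZMod p, (ee ζ (-(i * l)) - ee ζ (-(i * l'))) *
        (ee ζ (s * i * m) - ee ζ (s * i * m')) =
      (p : ℂ) * ((if s * m = l then (1 : ℂ) else 0) - (if s * m' = l then 1 else 0) -
        (if s * m = l' then 1 else 0) + (if s * m' = l' then 1 else 0)) := by
  have e1 : ∀ i : ZMod p, (ee ζ (-(i * l)) - ee ζ (-(i * l'))) *
        (ee ζ (s * i * m) - ee ζ (s * i * m')) =
      ee ζ (i * (s * m - l)) - ee ζ (i * (s * m' - l)) - ee ζ (i * (s * m - l')) +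
        ee ζ (i * (s * m' - l')) := by
    intro i
    have a1 : ee ζ (-(i * l)) * ee ζ (s * i * m) = ee ζ (i * (s * m - l)) := by
      rw [← ee_add ζ hζ]; congr 1; ring
    have a2 : ee ζ (-(i * l)) * ee ζ (s * i * m') = ee ζ (i * (s * m' - l)) := by
      rw [← ee_add ζ hζ]; congr 1; ring
    have a3 : ee ζ (-(i * l')) * ee ζ (s * i * m) = ee ζ (i * (s * m - l')) := by
      rw [← ee_add ζ hζ]; congr 1; ring
    have a4 : ee ζ (-(i * l')) * ee ζ (s * i * m') = ee ζ (i * (s * m' - l')) := by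
      rw [← ee_add ζ hζ]; congr 1; ring
    rw [sub_mul, mul_sub, mul_sub, a1, a2, a3, a4]
    ring
  rw [Finset.sum_congr rfl (fun i _ => e1 i)]
  simp only [Finset.sum_add_distrib, Finset.sum_sub_distrib, ee_sum ζ hζ, sub_eq_zero]
  split_ifs <;> ring

open Classical in
/-- The Gram relations. -/
theorem gram (ζ : ℂ) (hζ : IsPrimitiveRoot ζ p) {ι : Type*} (T : Finset ι)
    (a : ι → ZMod p → ℤ) (E : Subgroup (ZMod p)ˣ)
    (horth : ∀ i i' : ZMod p, i ≠ 0 → i' ≠ 0 →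
      ∑ χ ∈ T, DD ζ (a χ) i * conj (DD ζ (a χ) i') =
        if (∃ s ∈ E, i' = ((s : (ZMod p)ˣ) : ZMod p) * i) then (p : ℂ) else 0)
    (l l' m m' : ZMod p) :
    ∑ χ ∈ T, ((a χ l : ℂ) - a χ l') * ((a χ m : ℂ) - a χ m') =
      ∑ s : (ZMod p)ˣ, if s ∈ E then
        ((if (s : ZMod p) * m = l then (1 : ℂ) else 0) - (if (s : ZMod p) * m' = l then 1 else 0) -
          (if (s : ZMod p) * m = l' then 1 else 0) + (if (s : ZMod p) * m' = l' then 1 else 0))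
        else 0 := by
  have hp0 : (p : ℂ) ≠ 0 := Nat.cast_ne_zero.2 (Fact.out : p.Prime).ne_zero
  apply mul_left_cancel₀ (mul_ne_zero hp0 hp0)
  have hL : (p : ℂ) * p * ∑ χ ∈ T, ((a χ l : ℂ) - a χ l') * ((a χ m : ℂ) - a χ m') =
      ∑ i : ZMod p, ∑ j : ZMod p,
        (ee ζ (-(i * l)) - ee ζ (-(i * l'))) * (ee ζ (j * m) - ee ζ (j * m')) *
          ∑ χ ∈ T, DD ζ (a χ) i * conj (DD ζ (a χ) j) := by
    rw [Finset.mul_sum]
    have e1 : ∀ χ ∈ T, (p : ℂ) * p * (((a χ l : ℂ) - a χ l') * ((a χ m : ℂ) - a χ m')) =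
        ∑ i : ZMod p, ∑ j : ZMod p, (DD ζ (a χ) i * (ee ζ (-(i * l)) - ee ζ (-(i * l')))) *
          (conj (DD ζ (a χ) j) * (ee ζ (j * m) - ee ζ (j * m'))) := by
      intro χ _
      rw [← Finset.sum_mul_sum, DD_inv ζ hζ, DD_inv_conj ζ hζ]
      ring
    rw [Finset.sum_congr rfl e1, Finset.sum_comm]
    apply Finset.sum_congr rfl
    intro i _
    rw [Finset.sum_comm]
    apply Finset.sum_congr rfl
    intro j _
    rw [Finset.mul_sum]
    apply Finset.sum_congr rfl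
    intro χ _
    ring
  rw [hL]
  have hK : ∀ i j : ZMod p,
      (ee ζ (-(i * l)) - ee ζ (-(i * l'))) * (ee ζ (j * m) - ee ζ (j * m')) *
        ∑ χ ∈ T, DD ζ (a χ) i * conj (DD ζ (a χ) j) =
      (ee ζ (-(i * l)) - ee ζ (-(i * l'))) * ((ee ζ (j * m) - ee ζ (j * m')) *
        (if (∃ s ∈ E, j = ((s : (ZMod p)ˣ) : ZMod p) * i) then (p : ℂ) else 0)) := by
    intro i j
    by_cases hi : i = 0
    · subst hi
      simp only [zero_mul, neg_zero, sub_self]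
    by_cases hj : j = 0
    · subst hj
      simp only [zero_mul, sub_self, mul_zero]
    rw [horth i j hi hj]
    ring
  have hJ : ∀ i : ZMod p, ∑ j : ZMod p,
      (ee ζ (-(i * l)) - ee ζ (-(i * l'))) * ((ee ζ (j * m) - ee ζ (j * m')) *
        (if (∃ s ∈ E, j = ((s : (ZMod p)ˣ) : ZMod p) * i) then (p : ℂ) else 0)) =
      (p : ℂ) * ∑ s : (ZMod p)ˣ, if s ∈ E then
        (ee ζ (-(i * l)) - ee ζ (-(i * l'))) *
          (ee ζ ((s : ZMod p) * i * m) - ee ζ ((s : ZMod p) * i * m')) else 0 := by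
    intro i
    by_cases hi : i = 0
    · subst hi
      simp only [zero_mul, neg_zero, sub_self, mul_zero, ite_self, Finset.sum_const_zero]
    rw [← Finset.mul_sum, ker_sum E i hi (fun j => ee ζ (j * m) - ee ζ (j * m')) p,
      mul_left_comm, Finset.mul_sum]
    congr 1
    apply Finset.sum_congr rfl
    intro s _
    split_ifs
    · rfl
    · rw [mul_zero]
  rw [Finset.sum_congr rfl (fun i _ => Finset.sum_congr rfl (fun j _ => hK i j)),
    Finset.sum_congr rfl (fun i _ => hJ i), ← Finset.mul_sum, Finset.sum_comm, mul_assoc]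
  congr 1
  rw [Finset.mul_sum]
  apply Finset.sum_congr rfl
  intro s _
  by_cases hs : s ∈ E
  · simp only [if_pos hs]
    rw [four_sum ζ hζ]
  · simp only [if_neg hs]
    rw [Finset.sum_const_zero, mul_zero]

/-- Sum over `ZMod p` splits as the zero term plus the sum over units. -/
theorem sum_units {M : Type*} [AddCommMonoid M] (f : ZMod p → M) :
    ∑ l : ZMod p, f l = f 0 + ∑ u : (ZMod p)ˣ, f (u : ZMod p) := by
  rw [← Finset.add_sum_erase Finset.univ f (Finset.mem_univ 0)]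
  congr 1
  symm
  apply Finset.sum_bij (fun (u : (ZMod p)ˣ) _ => (u : ZMod p))
  · intro u _
    exact Finset.mem_erase.2 ⟨u.ne_zero, Finset.mem_univ _⟩
  · intro u _ v _ h
    exact Units.ext h
  · intro l hl
    exact ⟨Units.mk0 l (Finset.mem_erase.1 hl).1, Finset.mem_univ _, rfl⟩
  · intro u _
    rfl

theorem ee_sum_units (ζ : ℂ) (hζ : IsPrimitiveRoot ζ p) (i : ZMod p) (hi : i ≠ 0) :
    ∑ u : (ZMod p)ˣ, ee ζ (i * (u : ZMod p)) = -1 := by
  have h := ee_sum ζ hζ i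
  rw [if_neg hi, sum_units, zero_mul, ee_zero] at h
  have h2 : ∑ u : (ZMod p)ˣ, ee ζ (i * (u : ZMod p)) =
      ∑ u : (ZMod p)ˣ, ee ζ ((u : ZMod p) * i) :=
    Finset.sum_congr rfl (fun u _ => by rw [mul_comm])
  rw [h2]
  linear_combination h

theorem DD_units (ζ : ℂ) (hζ : IsPrimitiveRoot ζ p) (a : ZMod p → ℤ) (i : ZMod p) (hi : i ≠ 0) :
    DD ζ a i = ∑ u : (ZMod p)ˣ, ((a (u : ZMod p) : ℂ) - a 0) * ee ζ (i * (u : ZMod p)) := by
  unfold DD
  rw [sum_units, mul_zero, ee_zero, mul_one]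
  simp only [sub_mul, Finset.sum_sub_distrib, ← Finset.mul_sum, ee_sum_units ζ hζ i hi]
  ring

open Classical in
/-- number of `s ∈ E` with `s * m = l` -/
noncomputable def NN (E : Subgroup (ZMod p)ˣ) (l m : ZMod p) : ℤ :=
  ∑ s : (ZMod p)ˣ, if s ∈ E then (if (s : ZMod p) * m = l then 1 else 0) else 0

open Classical in
theorem NN_units (E : Subgroup (ZMod p)ˣ) (l m : (ZMod p)ˣ) :
    NN E (l : ZMod p) (m : ZMod p) = if l * m⁻¹ ∈ E then 1 else 0 := by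
  unfold NN
  have h : ∀ s : (ZMod p)ˣ,
      (if s ∈ E then (if (s : ZMod p) * m = l then (1 : ℤ) else 0) else 0) =
      if s = l * m⁻¹ then (if l * m⁻¹ ∈ E then 1 else 0) else 0 := by
    intro s
    have e : ((s : ZMod p) * m = l) ↔ s = l * m⁻¹ := by
      rw [eq_mul_inv_iff_mul_eq, ← Units.val_mul, Units.val_inj]
    by_cases hs : s = l * m⁻¹
    · subst hs
      rw [if_pos rfl, if_pos (e.2 rfl)]
    · rw [if_neg hs, if_neg (fun h => hs (e.1 h)), ite_self]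
  rw [Finset.sum_congr rfl (fun s _ => h s), Finset.sum_ite_eq', if_pos (Finset.mem_univ _)]

open Classical in
theorem NN_zero_zero (E : Subgroup (ZMod p)ˣ) : NN E 0 0 = (Nat.card E : ℤ) := by
  unfold NN
  simp only [mul_zero, if_true]
  rw [Finset.sum_boole, Nat.card_eq_fintype_card, Fintype.card_subtype]

open Classical in
theorem NN_unit_zero (E : Subgroup (ZMod p)ˣ) (l : (ZMod p)ˣ) : NN E (l : ZMod p) 0 = 0 := by
  unfold NN
  apply Finset.sum_eq_zero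
  intro s _
  rw [mul_zero, if_neg (show ¬ ((0 : ZMod p) = (l : ZMod p)) from fun h => l.ne_zero h.symm),
    ite_self]

open Classical in
theorem NN_zero_unit (E : Subgroup (ZMod p)ˣ) (m : (ZMod p)ˣ) : NN E 0 (m : ZMod p) = 0 := by
  unfold NN
  apply Finset.sum_eq_zero
  intro s _
  rw [if_neg (mul_ne_zero s.ne_zero m.ne_zero), ite_self]

open Classical in
/-- The Gram relations over the integers. -/
theorem gramZ (ζ : ℂ) (hζ : IsPrimitiveRoot ζ p) {ι : Type*} (T : Finset ι)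
    (a : ι → ZMod p → ℤ) (E : Subgroup (ZMod p)ˣ)
    (horth1 : ∀ i i' : ZMod p, i ≠ 0 → i' ≠ 0 →
      (∃ s ∈ E, i' = ((s : (ZMod p)ˣ) : ZMod p) * i) →
      ∑ χ ∈ T, DD ζ (a χ) i * conj (DD ζ (a χ) i') = (p : ℂ))
    (horth0 : ∀ i i' : ZMod p, i ≠ 0 → i' ≠ 0 →
      (¬ ∃ s ∈ E, i' = ((s : (ZMod p)ˣ) : ZMod p) * i) →
      ∑ χ ∈ T, DD ζ (a χ) i * conj (DD ζ (a χ) i') = 0)
    (l l' m m' : ZMod p) :
    ∑ χ ∈ T, (a χ l - a χ l') * (a χ m - a χ m') =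
      NN E l m - NN E l m' - NN E l' m + NN E l' m' := by
  have horth : ∀ i i' : ZMod p, i ≠ 0 → i' ≠ 0 →
      ∑ χ ∈ T, DD ζ (a χ) i * conj (DD ζ (a χ) i') =
        if (∃ s ∈ E, i' = ((s : (ZMod p)ˣ) : ZMod p) * i) then (p : ℂ) else 0 := by
    intro i i' hi hi'
    by_cases h : ∃ s ∈ E, i' = ((s : (ZMod p)ˣ) : ZMod p) * i
    · rw [if_pos h]
      exact horth1 i i' hi hi' h
    · rw [if_neg h]
      exact horth0 i i' hi hi' h
  have h := gram ζ hζ T a E horth l l' m m'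
  have hc : ((∑ χ ∈ T, (a χ l - a χ l') * (a χ m - a χ m') : ℤ) : ℂ) =
      ((NN E l m - NN E l m' - NN E l' m + NN E l' m' : ℤ) : ℂ) := by
    push_cast
    rw [h]
    unfold NN
    push_cast
    rw [← Finset.sum_sub_distrib, ← Finset.sum_sub_distrib, ← Finset.sum_add_distrib]
    apply Finset.sum_congr rfl
    intro s _
    by_cases hs : s ∈ E
    · simp only [if_pos hs]
    · simp only [if_neg hs]
      ring
  exact_mod_cast hc

theorem exists_not_mem (E : Subgroup (ZMod p)ˣ) (hEtop : E ≠ ⊤) : ∃ w : (ZMod p)ˣ, w ∉ E := by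
  by_contra h
  push_neg at h
  exact hEtop ((Subgroup.eq_top_iff' E).2 h)

/-- Application of the coherence lemma. -/
theorem coh {ι : Type*} [DecidableEq ι] (T : Finset ι) (a : ι → ZMod p → ℤ)
    (E : Subgroup (ZMod p)ˣ) (hEtop : E ≠ ⊤)
    (hE : ∀ χ ∈ T, ∀ s ∈ E, ∀ l : ZMod p, a χ ((s : ZMod p) * l) = a χ l)
    (deg : ι → ℤ) (hdeg : ∀ χ ∈ T, 0 < deg χ)
    (hdeg0 : ∀ l l' : ZMod p, ∑ χ ∈ T, (a χ l - a χ l') * deg χ = 0)
    (hgram : ∀ l l' m m' : ZMod p, ∑ χ ∈ T, (a χ l - a χ l') * (a χ m - a χ m') =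
      NN E l m - NN E l m' - NN E l' m + NN E l' m') :
    ∃ (δ d : ℤ) (b : ι → ℤ) (η : (ZMod p)ˣ → ι), (δ = 1 ∨ δ = -1) ∧ (∀ l, η l ∈ T) ∧
      (∀ l l', η l = η l' ↔ l' * l⁻¹ ∈ E) ∧
      (∀ l : (ZMod p)ˣ, ∀ χ ∈ T,
        a χ (l : ZMod p) - a χ 0 = (if χ = η l then δ else 0) - b χ) ∧
      (∀ l, b (η l) = d) ∧
      (∀ l, (d - δ) ^ 2 + ∑ χ ∈ T.erase (η l), b χ ^ 2 = (Nat.card E : ℤ) + 1) := by
  obtain ⟨w, hw⟩ := exists_not_mem E hEtop
  have hNN1 : ∀ l : (ZMod p)ˣ, NN E (l : ZMod p) (l : ZMod p) = 1 := by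
    intro l
    rw [NN_units, mul_inv_cancel, if_pos E.one_mem]
  have hNN0 : ∀ l l' : (ZMod p)ˣ, l' * l⁻¹ ∉ E →
      NN E (l : ZMod p) (l' : ZMod p) = 0 ∧ NN E (l' : ZMod p) (l : ZMod p) = 0 := by
    intro l l' h
    constructor
    · rw [NN_units, if_neg]
      intro h2
      apply h
      have h3 := E.inv_mem h2
      rwa [mul_inv_rev, inv_inv] at h3
    · rw [NN_units, if_neg h]
  have hR0 : ∀ l l' : (ZMod p)ˣ, l' * l⁻¹ ∈ E → ∀ χ ∈ T,
      a χ (l : ZMod p) = a χ (l' : ZMod p) := by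
    intro l l' hR χ hχ
    have h3 := hE χ hχ _ hR (l : ZMod p)
    rw [← Units.val_mul, inv_mul_cancel_right] at h3
    exact h3.symm
  have h2 : ∀ l l' : (ZMod p)ˣ, l' * l⁻¹ ∉ E →
      ∑ χ ∈ T, (a χ (l : ZMod p) - a χ (l' : ZMod p)) ^ 2 = 2 := by
    intro l l' hR
    have h3 := hgram l l' l l'
    rw [hNN1, hNN1, (hNN0 l l' hR).1, (hNN0 l l' hR).2] at h3
    simp only [sq]
    rw [h3]
    norm_num
  have h1 : ∀ l l' l'' : (ZMod p)ˣ, l' * l⁻¹ ∉ E → l'' * l⁻¹ ∉ E → l'' * l'⁻¹ ∉ E →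
      ∑ χ ∈ T, (a χ (l : ZMod p) - a χ (l' : ZMod p)) *
        (a χ (l : ZMod p) - a χ (l'' : ZMod p)) = 1 := by
    intro l l' l'' hR hR' hR''
    have h3 := hgram l l' l l''
    rw [hNN1, (hNN0 l l'' hR').1, (hNN0 l l' hR).2, (hNN0 l' l'' hR'').1] at h3
    rw [h3]
    norm_num
  have h4 : ∀ l : (ZMod p)ˣ,
      ∑ χ ∈ T, (a χ (l : ZMod p) - a χ 0) ^ 2 = (Nat.card E : ℤ) + 1 := by
    intro l
    have h3 := hgram l 0 l 0
    rw [hNN1, NN_unit_zero, NN_zero_unit, NN_zero_zero] at h3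
    simp only [sq]
    rw [h3]
    ring
  have h5 : ∀ l l' : (ZMod p)ˣ, l' * l⁻¹ ∉ E →
      ∑ χ ∈ T, (a χ (l : ZMod p) - a χ (l' : ZMod p)) * (a χ (l : ZMod p) - a χ 0) = 1 := by
    intro l l' hR
    have h3 := hgram l l' l 0
    rw [hNN1, NN_unit_zero, (hNN0 l l' hR).2, NN_unit_zero] at h3
    rw [h3]
    norm_num
  exact Cfsg.Agent.Helper82.excCoh_full T (fun (l : (ZMod p)ˣ) χ => a χ (l : ZMod p))
    (fun χ => a χ 0) deg (Nat.card E : ℤ) hdeg (fun l l' => hdeg0 l l')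
    (fun l l' => l' * l⁻¹ ∈ E) hR0 h2 h1 h4 h5 1 w (by simpa using hw)

/-- Galois equivariance of the coherent decomposition. -/
theorem galB {ι : Type*} [DecidableEq ι] (T : Finset ι) (a : ι → ZMod p → ℤ)
    (E : Subgroup (ZMod p)ˣ) (hEtop : E ≠ ⊤)
    (gal : (ZMod p)ˣ → ι → ι) (hgalT : ∀ u, ∀ χ ∈ T, gal u χ ∈ T)
    (hgal : ∀ u, ∀ χ ∈ T, ∀ l : ZMod p, a (gal u χ) ((u : ZMod p) * l) = a χ l)
    (δ : ℤ) (b : ι → ℤ) (η : (ZMod p)ˣ → ι) (hδ : δ = 1 ∨ δ = -1)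
    (hη : ∀ l l', η l = η l' ↔ l' * l⁻¹ ∈ E)
    (hab : ∀ l : (ZMod p)ˣ, ∀ χ ∈ T,
      a χ (l : ZMod p) - a χ 0 = (if χ = η l then δ else 0) - b χ) :
    ∀ u, ∀ χ ∈ T, b (gal u χ) = b χ ∧ ∀ l, (χ = η l ↔ gal u χ = η (u * l)) := by
  obtain ⟨w, hw⟩ := exists_not_mem E hEtop
  intro u χ hχ
  have hδ0 : δ ≠ 0 := by rcases hδ with h | h <;> rw [h] <;> norm_num
  have key : ∀ l : (ZMod p)ˣ, (if gal u χ = η (u * l) then δ else 0) - b (gal u χ) =
      (if χ = η l then δ else 0) - b χ := by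
    intro l
    rw [← hab l χ hχ, ← hab (u * l) (gal u χ) (hgalT u χ hχ), Units.val_mul, hgal u χ hχ]
    have h0 := hgal u χ hχ 0
    rw [mul_zero] at h0
    rw [h0]
  have hiff : ∀ l, (χ = η l ↔ gal u χ = η (u * l)) := by
    intro l
    by_contra hcon
    by_cases h1 : χ = η l
    · have h2 : gal u χ ≠ η (u * l) := fun h2 => hcon ⟨fun _ => h2, fun _ => h1⟩
      have k := key l
      rw [if_pos h1, if_neg h2] at k
      have hall : ∀ l', χ = η l' := by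
        intro l'
        by_contra h3
        have k' := key l'
        rw [if_neg h3] at k'
        by_cases h4 : gal u χ = η (u * l')
        · rw [if_pos h4] at k'
          apply hδ0
          linarith
        · rw [if_neg h4] at k'
          apply hδ0
          linarith
      apply hw
      have h5 := (hη 1 w).1 ((hall 1).symm.trans (hall w))
      simpa using h5
    · have h2 : gal u χ = η (u * l) := by
        by_contra h2
        exact hcon ⟨fun h => absurd h h1, fun h => absurd h h2⟩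
      have k := key l
      rw [if_neg h1, if_pos h2] at k
      have hall : ∀ l', gal u χ = η (u * l') := by
        intro l'
        by_contra h3
        have k' := key l'
        rw [if_neg h3] at k'
        by_cases h4 : χ = η l'
        · rw [if_pos h4] at k'
          apply hδ0
          linarith
        · rw [if_neg h4] at k'
          apply hδ0
          linarith
      apply hw
      have h5 := (hη (u * 1) (u * w)).1 ((hall 1).symm.trans (hall w))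
      have e : u * w * (u * 1)⁻¹ = w := by
        rw [mul_one, mul_comm u w, mul_inv_cancel_right]
      rwa [e] at h5
  refine ⟨?_, hiff⟩
  have k := key 1
  by_cases h1 : χ = η 1
  · rw [if_pos h1, if_pos ((hiff 1).1 h1)] at k
    linarith
  · rw [if_neg h1, if_neg (fun h => h1 ((hiff 1).2 h))] at k
    linarith

/-- The values `D χ i` in terms of the coherent decomposition. -/
theorem DD_form (ζ : ℂ) (hζ : IsPrimitiveRoot ζ p) {ι : Type*} [DecidableEq ι] (T : Finset ι)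
    (a : ι → ZMod p → ℤ) (δ : ℤ) (b : ι → ℤ) (η : (ZMod p)ˣ → ι)
    (hab : ∀ l : (ZMod p)ˣ, ∀ χ ∈ T,
      a χ (l : ZMod p) - a χ 0 = (if χ = η l then δ else 0) - b χ)
    (χ : ι) (hχ : χ ∈ T) (i : ZMod p) (hi : i ≠ 0) :
    DD ζ (a χ) i = (b χ : ℂ) +
      δ * ∑ l : (ZMod p)ˣ, if χ = η l then ee ζ (i * (l : ZMod p)) else 0 := by
  rw [DD_units ζ hζ _ i hi]
  have h : ∀ l : (ZMod p)ˣ, ((a χ (l : ZMod p) : ℂ) - a χ 0) * ee ζ (i * (l : ZMod p)) =
      (δ : ℂ) * (if χ = η l then ee ζ (i * (l : ZMod p)) else 0) -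
        (b χ : ℂ) * ee ζ (i * (l : ZMod p)) := by
    intro l
    have h3 := congrArg (Int.cast : ℤ → ℂ) (hab l χ hχ)
    push_cast at h3
    rw [h3]
    split_ifs <;> ring
  rw [Finset.sum_congr rfl (fun l _ => h l), Finset.sum_sub_distrib, ← Finset.mul_sum,
    ← Finset.mul_sum, ee_sum_units ζ hζ i hi]
  ring

/-- Sum over a fibre of `η` as a sum over `E`. -/
theorem coset_sum (E : Subgroup (ZMod p)ˣ) {ι : Type*} [DecidableEq ι] (η : (ZMod p)ˣ → ι)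
    (hη : ∀ l l', η l = η l' ↔ l' * l⁻¹ ∈ E) (f : ZMod p → ℂ) (l₀ : (ZMod p)ˣ) :
    ∑ l : (ZMod p)ˣ, (if η l₀ = η l then f (l : ZMod p) else 0) =
      ∑ᶠ s ∈ (E : Set (ZMod p)ˣ), f ((s : ZMod p) * (l₀ : ZMod p)) := by
  classical
  have h1 := (Equiv.sum_comp (Equiv.mulRight l₀)
    (fun l : (ZMod p)ˣ => if η l₀ = η l then f (l : ZMod p) else 0)).symm
  rw [h1, finsum_mem_def, finsum_eq_sum_of_fintype]
  have key : ∀ s : (ZMod p)ˣ,
      (if η l₀ = η (s * l₀) then f ((s * l₀ : (ZMod p)ˣ) : ZMod p) else 0) =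
        Set.indicator (E : Set (ZMod p)ˣ) (fun s => f ((s : ZMod p) * (l₀ : ZMod p))) s := by
    intro s
    have e : (η l₀ = η (s * l₀)) ↔ s ∈ E := by rw [hη, mul_inv_cancel_right]
    rw [Set.indicator_apply, Units.val_mul]
    by_cases hs : s ∈ E
    · rw [if_pos (e.2 hs), if_pos (SetLike.mem_coe.2 hs)]
    · rw [if_neg (fun h => hs (e.1 h)), if_neg (fun h => hs (SetLike.mem_coe.1 h))]
  exact Finset.sum_congr rfl (fun s _ => key s)

/-- A Galois orbit on which the (nonzero integer) value is constant is a fixed point. -/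
theorem orbit_fix {ι : Type*} [DecidableEq ι] (gal : (ZMod p)ˣ → ι → ι) (χ : ι)
    (hgal1 : gal 1 χ = χ) (f : ι → ℂ) (c : ℤ) (hc : c ≠ 0)
    (hconst : ∀ u, f (gal u χ) = c)
    (hF : ‖∑ χ' ∈ Finset.univ.image (fun u : (ZMod p)ˣ => gal u χ), f χ'‖ ≤ 1) :
    (c = 1 ∨ c = -1) ∧ ∀ u, gal u χ = χ := by
  obtain ⟨O, hO⟩ : ∃ O : Finset ι, O = Finset.univ.image (fun u : (ZMod p)ˣ => gal u χ) :=
    ⟨_, rfl⟩
  rw [← hO] at hF
  have hmem : ∀ u, gal u χ ∈ O := by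
    intro u
    rw [hO]
    exact Finset.mem_image_of_mem _ (Finset.mem_univ u)
  have hχO : χ ∈ O := by
    have h := hmem 1
    rwa [hgal1] at h
  have hsum : ∑ χ' ∈ O, f χ' = (((O.card : ℤ) * c : ℤ) : ℂ) := by
    have h : ∀ χ' ∈ O, f χ' = (c : ℂ) := by
      intro χ' hχ'
      rw [hO] at hχ'
      obtain ⟨u, _, rfl⟩ := Finset.mem_image.1 hχ'
      exact hconst u
    rw [Finset.sum_congr rfl h, Finset.sum_const, nsmul_eq_mul]
    push_cast
    ring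
  rw [hsum, Complex.norm_intCast] at hF
  have hF' : |(O.card : ℤ) * c| ≤ 1 := by exact_mod_cast hF
  have hpos : (1 : ℤ) ≤ O.card := by
    have h : 0 < O.card := Finset.card_pos.2 ⟨χ, hχO⟩
    exact_mod_cast h
  rw [abs_mul, abs_of_nonneg (by linarith : (0 : ℤ) ≤ O.card)] at hF'
  have hcabs : 1 ≤ |c| := Int.one_le_abs hc
  have h1 : (O.card : ℤ) = 1 := by nlinarith
  have h2 : |c| = 1 := by nlinarith
  refine ⟨?_, ?_⟩
  · rcases abs_eq (by norm_num : (0 : ℤ) ≤ 1) |>.1 h2 with h | h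
    · exact Or.inl h
    · exact Or.inr h
  · intro u
    have h3 : O.card ≤ 1 := by
      have : (O.card : ℤ) ≤ 1 := h1.le
      exact_mod_cast this
    exact Finset.card_le_one.1 h3 _ (hmem u) _ hχO

/-- The conclusion of `d1_act`. -/
def Concl (ζ : ℂ) {ι : Type*} [DecidableEq ι] (T : Finset ι) (a : ι → ZMod p → ℤ)
    (E : Subgroup (ZMod p)ˣ) (gal : (ZMod p)ˣ → ι → ι) (W : Set (ι → ℂ)) : Prop :=
  ∃ (X Y : Finset ι) (c : ι → ℤ) (ε : ℤ),
      X ∪ Y = T ∧ Disjoint X Y ∧ X.card = Nat.card E ∧ Y.card * Nat.card E = p - 1 ∧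
      (∀ χ ∈ X, c χ = 1 ∨ c χ = -1) ∧ (ε = 1 ∨ ε = -1) ∧
      (∀ χ ∈ X, ∀ i : ZMod p, i ≠ 0 → DD ζ (a χ) i = (c χ : ℂ)) ∧
      (∀ ψ ∈ Y, ∃ l₀ : ZMod p, l₀ ≠ 0 ∧ ∀ i : ZMod p, i ≠ 0 →
        DD ζ (a ψ) i
          = (ε : ℂ) * ∑ᶠ s ∈ (E : Set (ZMod p)ˣ), ee ζ (i * (s : ZMod p) * l₀)) ∧
      (∀ u, ∀ χ ∈ X, gal u χ = χ) ∧
      (∀ u, ∀ ψ ∈ Y, gal u ψ ∈ Y) ∧
      (∀ ψ ∈ Y, ∀ ψ' ∈ Y, ∃ u : (ZMod p)ˣ, gal u ψ = ψ') ∧
      (∀ w ∈ W, ∀ ψ ∈ Y, ∑ χ ∈ X, (c χ : ℂ) * w χ = (ε : ℂ) * w ψ)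

end Cfsg.Agent.Helper91.D1AC
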