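import Mathlib
import Cfsg.Agent.Helper91.D1ACLib

set_option autoImplicit false

namespace Cfsg.Agent.Helper91.D1AC

open scoped ComplexConjugate

variable {p : ℕ} [Fact p.Prime]

/-- The case `E = ⊤`. -/
theorem d1_top (ζ : ℂ) (hζ : IsPrimitiveRoot ζ p) {ι : Type*} [DecidableEq ι] (T : Finset ι)
    (a : ι → ZMod p → ℤ) (E : Subgroup (ZMod p)ˣ) (hEtop : E = ⊤)
    (hT : ∀ χ ∈ T, DD ζ (a χ) 1 ≠ 0)
    (hE : ∀ χ ∈ T, ∀ s ∈ E, ∀ l : ZMod p, a χ ((s : ZMod p) * l) = a χ l)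
    (horth11 : ∑ χ ∈ T, DD ζ (a χ) 1 * conj (DD ζ (a χ) 1) = (p : ℂ))
    (gal : (ZMod p)ˣ → ι → ι) (hgalT : ∀ u, ∀ χ ∈ T, gal u χ ∈ T)
    (hgal1 : ∀ χ ∈ T, gal 1 χ = χ)
    (hgal : ∀ u, ∀ χ ∈ T, ∀ l : ZMod p, a (gal u χ) ((u : ZMod p) * l) = a χ l)
    (hF : ∀ χ ∈ T, ‖∑ χ' ∈ Finset.univ.image (fun u : (ZMod p)ˣ => gal u χ),
        DD ζ (a χ') 1‖ ≤ 1)
    (W : Set (ι → ℂ))
    (hW : ∀ w ∈ W, ∀ l l' : ZMod p, ∑ χ ∈ T, ((a χ l : ℂ) - (a χ l' : ℂ)) * w χ = 0) :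
    Concl ζ T a E gal W := by
  subst hEtop
  have hp : 0 < p := (Fact.out : p.Prime).pos
  have ha1 : ∀ χ ∈ T, ∀ l : (ZMod p)ˣ, a χ (l : ZMod p) = a χ 1 := by
    intro χ hχ l
    have h := hE χ hχ l (Subgroup.mem_top l) 1
    rwa [mul_one] at h
  obtain ⟨c, hc⟩ : ∃ c : ι → ℤ, ∀ χ, c χ = a χ 0 - a χ 1 := ⟨fun χ => a χ 0 - a χ 1, fun _ => rfl⟩
  have hD : ∀ χ ∈ T, ∀ i : ZMod p, i ≠ 0 → DD ζ (a χ) i = (c χ : ℂ) := by
    intro χ hχ i hi
    rw [DD_units ζ hζ _ i hi]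
    have h : ∀ l : (ZMod p)ˣ, ((a χ (l : ZMod p) : ℂ) - a χ 0) * ee ζ (i * (l : ZMod p)) =
        ((a χ 1 : ℂ) - a χ 0) * ee ζ (i * (l : ZMod p)) := by
      intro l
      rw [ha1 χ hχ l]
    rw [Finset.sum_congr rfl (fun l _ => h l), ← Finset.mul_sum, ee_sum_units ζ hζ i hi, hc]
    push_cast
    ring
  have hcgal : ∀ u, ∀ χ ∈ T, c (gal u χ) = c χ := by
    intro u χ hχ
    have h0 := hgal u χ hχ 0
    have h1 := hgal u χ hχ 1
    rw [mul_zero] at h0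
    rw [mul_one, ha1 _ (hgalT u χ hχ) u] at h1
    rw [hc, hc, h0, h1]
  have hfix : ∀ χ ∈ T, (c χ = 1 ∨ c χ = -1) ∧ ∀ u, gal u χ = χ := by
    intro χ hχ
    apply orbit_fix gal χ (hgal1 χ hχ) (fun χ' => DD ζ (a χ') 1) (c χ)
    · intro h0
      apply hT χ hχ
      rw [hD χ hχ 1 one_ne_zero, h0, Int.cast_zero]
    · intro u
      show DD ζ (a (gal u χ)) 1 = _
      rw [hD _ (hgalT u χ hχ) 1 one_ne_zero, hcgal u χ hχ]
    · exact hF χ hχ
  have hTcard : T.card = p := by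
    have h : ∀ χ ∈ T, DD ζ (a χ) 1 * conj (DD ζ (a χ) 1) = 1 := by
      intro χ hχ
      rw [hD χ hχ 1 one_ne_zero, map_intCast]
      rcases (hfix χ hχ).1 with h | h <;> rw [h] <;> norm_num
    rw [Finset.sum_congr rfl h, Finset.sum_const, nsmul_eq_mul, mul_one] at horth11
    exact_mod_cast horth11
  obtain ⟨ψ, hψ⟩ : T.Nonempty := Finset.card_pos.1 (by rw [hTcard]; exact hp)
  have hUcard : Nat.card (⊤ : Subgroup (ZMod p)ˣ) = p - 1 := by
    rw [Subgroup.card_top, Nat.card_eq_fintype_card, ZMod.card_units]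
  have hcψ := (hfix ψ hψ).1
  refine ⟨T.erase ψ, {ψ}, c, -c ψ, ?_, ?_, ?_, ?_, ?_, ?_, ?_, ?_, ?_, ?_, ?_, ?_⟩
  · ext χ
    simp only [Finset.mem_union, Finset.mem_erase, Finset.mem_singleton]
    constructor
    · rintro (⟨_, h⟩ | rfl)
      · exact h
      · exact hψ
    · intro h
      by_cases hχ : χ = ψ
      · exact Or.inr hχ
      · exact Or.inl ⟨hχ, h⟩
  · exact Finset.disjoint_singleton_right.2 (Finset.notMem_erase ψ T)
  · rw [Finset.card_erase_of_mem hψ, hTcard, hUcard]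
  · rw [Finset.card_singleton, one_mul, hUcard]
  · intro χ hχ
    exact (hfix χ (Finset.mem_of_mem_erase hχ)).1
  · rcases hcψ with h | h <;> rw [h] <;> norm_num
  · intro χ hχ i hi
    exact hD χ (Finset.mem_of_mem_erase hχ) i hi
  · intro ψ' hψ'
    rw [Finset.mem_singleton] at hψ'
    subst hψ'
    refine ⟨1, one_ne_zero, fun i hi => ?_⟩
    rw [hD ψ' hψ i hi, Subgroup.coe_top, finsum_mem_univ, finsum_eq_sum_of_fintype]
    simp only [mul_one]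
    rw [ee_sum_units ζ hζ i hi]
    push_cast
    ring
  · intro u χ hχ
    exact (hfix χ (Finset.mem_of_mem_erase hχ)).2 u
  · intro u ψ' hψ'
    rw [Finset.mem_singleton] at hψ' ⊢
    subst hψ'
    exact (hfix ψ' hψ).2 u
  · intro ψ' hψ' ψ'' hψ''
    rw [Finset.mem_singleton] at hψ' hψ''
    subst hψ' hψ''
    exact ⟨1, hgal1 ψ'' hψ⟩
  · intro w hw ψ' hψ'
    rw [Finset.mem_singleton] at hψ'
    subst hψ'
    have h := hW w hw 1 0
    have h1 : ∀ χ ∈ T, ((a χ 1 : ℂ) - (a χ 0 : ℂ)) * w χ = -((c χ : ℂ) * w χ) := by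
      intro χ _
      rw [hc]
      push_cast
      ring
    rw [Finset.sum_congr rfl h1, Finset.sum_neg_distrib, neg_eq_zero,
      ← Finset.add_sum_erase T _ hψ] at h
    push_cast
    linear_combination h

/-- The case `E ≠ ⊤`, given the coherent decomposition. -/
theorem d1_core (ζ : ℂ) (hζ : IsPrimitiveRoot ζ p) {ι : Type*} [DecidableEq ι] (T : Finset ι)
    (a : ι → ZMod p → ℤ) (E : Subgroup (ZMod p)ˣ) (hEtop : E ≠ ⊤)
    (hT : ∀ χ ∈ T, DD ζ (a χ) 1 ≠ 0)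
    (gal : (ZMod p)ˣ → ι → ι) (hgalT : ∀ u, ∀ χ ∈ T, gal u χ ∈ T)
    (hgal1 : ∀ χ ∈ T, gal 1 χ = χ)
    (hgal : ∀ u, ∀ χ ∈ T, ∀ l : ZMod p, a (gal u χ) ((u : ZMod p) * l) = a χ l)
    (hF : ∀ χ ∈ T, ‖∑ χ' ∈ Finset.univ.image (fun u : (ZMod p)ˣ => gal u χ),
        DD ζ (a χ') 1‖ ≤ 1)
    (W : Set (ι → ℂ))
    (hW : ∀ w ∈ W, ∀ l l' : ZMod p, ∑ χ ∈ T, ((a χ l : ℂ) - (a χ l' : ℂ)) * w χ = 0)
    (δ d : ℤ) (b : ι → ℤ) (η : (ZMod p)ˣ → ι) (hδ : δ = 1 ∨ δ = -1) (hηT : ∀ l, η l ∈ T)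
    (hη : ∀ l l', η l = η l' ↔ l' * l⁻¹ ∈ E)
    (hab : ∀ l : (ZMod p)ˣ, ∀ χ ∈ T,
      a χ (l : ZMod p) - a χ 0 = (if χ = η l then δ else 0) - b χ)
    (hbd : ∀ l, b (η l) = d)
    (hnorm : ∀ l, (d - δ) ^ 2 + ∑ χ ∈ T.erase (η l), b χ ^ 2 = (Nat.card E : ℤ) + 1) :
    Concl ζ T a E gal W := by
  obtain ⟨w0, hw0⟩ := exists_not_mem E hEtop
  have hG := galB T a E hEtop gal hgalT hgal δ b η hδ hη hab
  have hD := DD_form ζ hζ T a δ b η hab
  obtain ⟨Y, hY⟩ : ∃ Y : Finset ι, Y = Finset.univ.image η := ⟨_, rfl⟩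
  obtain ⟨X, hX⟩ : ∃ X : Finset ι, X = T \ Y := ⟨_, rfl⟩
  have hmemY : ∀ ψ, ψ ∈ Y ↔ ∃ l, η l = ψ := by
    intro ψ
    rw [hY, Finset.mem_image]
    constructor
    · rintro ⟨l, _, h⟩
      exact ⟨l, h⟩
    · rintro ⟨l, h⟩
      exact ⟨l, Finset.mem_univ _, h⟩
  have hηY : ∀ l, η l ∈ Y := fun l => (hmemY _).2 ⟨l, rfl⟩
  have hmemX : ∀ χ, χ ∈ X ↔ χ ∈ T ∧ χ ∉ Y := by
    intro χ
    rw [hX, Finset.mem_sdiff]
  have hYT : Y ⊆ T := by
    intro ψ hψ
    obtain ⟨l, rfl⟩ := (hmemY ψ).1 hψ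
    exact hηT l
  have hXY : X ∪ Y = T := by
    rw [hX]
    exact Finset.sdiff_union_of_subset hYT
  have hdis : Disjoint X Y := by
    rw [hX]
    exact Finset.sdiff_disjoint
  -- X facts
  have hDX : ∀ χ ∈ X, ∀ i : ZMod p, i ≠ 0 → DD ζ (a χ) i = (b χ : ℂ) := by
    intro χ hχ i hi
    obtain ⟨hχT, hχY⟩ := (hmemX χ).1 hχ
    rw [hD χ hχT i hi, Finset.sum_eq_zero, mul_zero, add_zero]
    intro l _
    rw [if_neg]
    intro h
    exact hχY (h ▸ hηY l)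
  have hgalX : ∀ u, ∀ χ ∈ X, gal u χ ∈ X := by
    intro u χ hχ
    obtain ⟨hχT, hχY⟩ := (hmemX χ).1 hχ
    refine (hmemX _).2 ⟨hgalT u χ hχT, fun h => ?_⟩
    obtain ⟨l, hl⟩ := (hmemY _).1 h
    apply hχY
    have h3 := ((hG u χ hχT).2 (u⁻¹ * l)).2 (by rw [mul_inv_cancel_left]; exact hl.symm)
    rw [h3]
    exact hηY _
  have hXfix : ∀ χ ∈ X, (b χ = 1 ∨ b χ = -1) ∧ ∀ u, gal u χ = χ := by
    intro χ hχ
    have hχT := ((hmemX χ).1 hχ).1
    apply orbit_fix gal χ (hgal1 χ hχT) (fun χ' => DD ζ (a χ') 1) (b χ)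
    · intro h0
      apply hT χ hχT
      rw [hDX χ hχ 1 one_ne_zero, h0, Int.cast_zero]
    · intro u
      show DD ζ (a (gal u χ)) 1 = _
      rw [hDX _ (hgalX u χ hχ) 1 one_ne_zero, (hG u χ hχT).1]
    · exact hF χ hχT
  -- Y facts
  have hgalη : ∀ u l, gal u (η l) = η (u * l) := fun u l => ((hG u (η l) (hηT l)).2 l).1 rfl
  have hgalY : ∀ u, ∀ ψ ∈ Y, gal u ψ ∈ Y := by
    intro u ψ hψ
    obtain ⟨l, rfl⟩ := (hmemY ψ).1 hψ
    rw [hgalη]
    exact hηY _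
  have htrans : ∀ ψ ∈ Y, ∀ ψ' ∈ Y, ∃ u : (ZMod p)ˣ, gal u ψ = ψ' := by
    intro ψ hψ ψ' hψ'
    obtain ⟨l, rfl⟩ := (hmemY ψ).1 hψ
    obtain ⟨l', rfl⟩ := (hmemY ψ').1 hψ'
    exact ⟨l' * l⁻¹, by rw [hgalη, inv_mul_cancel_right]⟩
  have hDY : ∀ l₀ : (ZMod p)ˣ, ∀ i : ZMod p, i ≠ 0 → DD ζ (a (η l₀)) i =
      (d : ℂ) + δ * ∑ᶠ s ∈ (E : Set (ZMod p)ˣ), ee ζ (i * (s : ZMod p) * (l₀ : ZMod p)) := by
    intro l₀ i hi
    rw [hD _ (hηT l₀) i hi, hbd, coset_sum E η hη (fun x => ee ζ (i * x)) l₀]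
    simp only [mul_assoc]
  have hYsum : ∀ i : ZMod p, i ≠ 0 →
      ∑ ψ ∈ Y, DD ζ (a ψ) i = (((Y.card : ℤ) * d - δ : ℤ) : ℂ) := by
    intro i hi
    have h1 : ∀ ψ ∈ Y, DD ζ (a ψ) i = (d : ℂ) +
        δ * ∑ l : (ZMod p)ˣ, if ψ = η l then ee ζ (i * (l : ZMod p)) else 0 := by
      intro ψ hψ
      rw [hD ψ (hYT hψ) i hi]
      obtain ⟨l, rfl⟩ := (hmemY ψ).1 hψ
      rw [hbd]
    rw [Finset.sum_congr rfl h1, Finset.sum_add_distrib, Finset.sum_const, ← Finset.mul_sum,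
      Finset.sum_comm]
    have h2 : ∀ l : (ZMod p)ˣ, ∑ ψ ∈ Y, (if ψ = η l then ee ζ (i * (l : ZMod p)) else 0) =
        ee ζ (i * (l : ZMod p)) := by
      intro l
      rw [Finset.sum_ite_eq', if_pos (hηY l)]
    rw [Finset.sum_congr rfl (fun l _ => h2 l), ee_sum_units ζ hζ i hi]
    push_cast
    rw [nsmul_eq_mul]
    ring
  have horbY : Finset.univ.image (fun u : (ZMod p)ˣ => gal u (η 1)) = Y := by
    ext ψ
    rw [hmemY, Finset.mem_image]
    constructor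
    · rintro ⟨u, _, rfl⟩
      exact ⟨u * 1, (hgalη u 1).symm⟩
    · rintro ⟨l, rfl⟩
      exact ⟨l, Finset.mem_univ _, by rw [hgalη, mul_one]⟩
  have hFY : |(Y.card : ℤ) * d - δ| ≤ 1 := by
    have h := hF (η 1) (hηT 1)
    rw [horbY, hYsum 1 one_ne_zero, Complex.norm_intCast] at h
    exact_mod_cast h
  have ht : 1 < Y.card :=
    Finset.one_lt_card.2 ⟨η 1, hηY 1, η w0, hηY w0,
      fun h => hw0 (by simpa using (hη 1 w0).1 h)⟩
  have hcase : d = 0 ∨ (Y.card = 2 ∧ d = δ) := by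
    by_cases hd : d = 0
    · exact Or.inl hd
    · right
      have ht' : (2 : ℤ) ≤ Y.card := by exact_mod_cast ht
      rw [abs_le] at hFY
      rcases hδ with h | h
      · subst h
        have hd1 : 1 ≤ d := by
          by_contra hneg
          have h3 : d ≤ -1 := by omega
          nlinarith
        have h4 : (Y.card : ℤ) = 2 ∧ d = 1 := by constructor <;> nlinarith
        exact ⟨by exact_mod_cast h4.1, h4.2⟩
      · subst h
        have hd1 : d ≤ -1 := by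
          by_contra hneg
          have h3 : 1 ≤ d := by omega
          nlinarith
        have h4 : (Y.card : ℤ) = 2 ∧ d = -1 := by constructor <;> nlinarith
        exact ⟨by exact_mod_cast h4.1, h4.2⟩
  have hδ2 : δ ^ 2 = 1 := by rcases hδ with h | h <;> rw [h] <;> norm_num
  -- cardinalities
  have hXc : X.card = Nat.card E := by
    have e1 : ∑ χ ∈ T, b χ ^ 2 = ∑ χ ∈ X, b χ ^ 2 + ∑ χ ∈ Y, b χ ^ 2 := by
      rw [← hXY, Finset.sum_union hdis]
    have e2 : ∑ χ ∈ T, b χ ^ 2 = b (η 1) ^ 2 + ∑ χ ∈ T.erase (η 1), b χ ^ 2 :=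
      (Finset.add_sum_erase T _ (hηT 1)).symm
    have e3 : ∑ χ ∈ Y, b χ ^ 2 = (Y.card : ℤ) * d ^ 2 := by
      have h : ∀ ψ ∈ Y, b ψ ^ 2 = d ^ 2 := by
        intro ψ hψ
        obtain ⟨l, rfl⟩ := (hmemY ψ).1 hψ
        rw [hbd]
      rw [Finset.sum_congr rfl h, Finset.sum_const, nsmul_eq_mul]
    have e4 : ∑ χ ∈ X, b χ ^ 2 = (X.card : ℤ) := by
      have h : ∀ χ ∈ X, b χ ^ 2 = 1 := by
        intro χ hχ
        rcases (hXfix χ hχ).1 with h | h <;> rw [h] <;> norm_num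
      rw [Finset.sum_congr rfl h, Finset.sum_const, nsmul_eq_mul, mul_one]
    have e5 := hnorm 1
    rw [hbd] at e2
    have h6 : (X.card : ℤ) = Nat.card E := by
      rcases hcase with hd0 | ⟨ht2, hdδ⟩
      · rw [hd0] at e2 e3 e5
        nlinarith
      · rw [ht2, hdδ] at e3
        rw [hdδ] at e2 e5
        push_cast at e3
        nlinarith
    exact_mod_cast h6
  have hYc : Y.card * Nat.card E = p - 1 := by
    have hfib : ∀ l : (ZMod p)ˣ,
        (Finset.univ.filter (fun l' => η l' = η l)).card = Nat.card E := by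
      intro l
      classical
      rw [Nat.card_eq_fintype_card, Fintype.card_subtype]
      apply Finset.card_nbij' (fun l' => l' * l⁻¹) (fun s => s * l)
      · intro l' hl'
        simp only [Finset.coe_filter, Finset.mem_univ, true_and, Set.mem_setOf_eq] at hl' ⊢
        exact (hη l l').1 hl'.symm
      · intro s hs
        simp only [Finset.coe_filter, Finset.mem_univ, true_and, Set.mem_setOf_eq] at hs ⊢
        exact ((hη l (s * l)).2 (by rwa [mul_inv_cancel_right])).symm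
      · intro l' _
        exact inv_mul_cancel_right l' l
      · intro s _
        exact mul_inv_cancel_right s l
    have h1 := Finset.card_eq_sum_card_fiberwise (f := η) (s := Finset.univ) (t := Y)
      (fun l _ => hηY l)
    have h2 : ∀ ψ ∈ Y, (Finset.univ.filter (fun l' => η l' = ψ)).card = Nat.card E := by
      intro ψ hψ
      obtain ⟨l, rfl⟩ := (hmemY ψ).1 hψ
      exact hfib l
    rw [Finset.sum_congr rfl h2, Finset.sum_const, smul_eq_mul, Finset.card_univ,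
      ZMod.card_units] at h1
    exact h1.symm
  -- weights
  have hWl : ∀ w ∈ W, ∀ l : (ZMod p)ˣ,
      ∑ χ ∈ X, (b χ : ℂ) * w χ + d * ∑ ψ ∈ Y, w ψ = δ * w (η l) := by
    intro w hw l
    have h := hW w hw (l : ZMod p) 0
    have h1 : ∀ χ ∈ T, ((a χ (l : ZMod p) : ℂ) - (a χ 0 : ℂ)) * w χ =
        (if χ = η l then (δ : ℂ) * w χ else 0) - (b χ : ℂ) * w χ := by
      intro χ hχ
      have h3 := congrArg (Int.cast : ℤ → ℂ) (hab l χ hχ)
      push_cast at h3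
      rw [h3]
      split_ifs <;> ring
    rw [Finset.sum_congr rfl h1, Finset.sum_sub_distrib, Finset.sum_ite_eq', if_pos (hηT l),
      ← hXY, Finset.sum_union hdis] at h
    have h2 : ∑ ψ ∈ Y, (b ψ : ℂ) * w ψ = d * ∑ ψ ∈ Y, w ψ := by
      rw [Finset.mul_sum]
      apply Finset.sum_congr rfl
      intro ψ hψ
      obtain ⟨l', rfl⟩ := (hmemY ψ).1 hψ
      rw [hbd]
    rw [h2] at h
    linear_combination -h
  rcases hcase with hd0 | ⟨ht2, hdδ⟩
  · refine ⟨X, Y, b, δ, hXY, hdis, hXc, hYc, fun χ hχ => (hXfix χ hχ).1, hδ, hDX, ?_,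
      fun u χ hχ => (hXfix χ hχ).2 u, hgalY, htrans, ?_⟩
    · intro ψ hψ
      obtain ⟨l, rfl⟩ := (hmemY ψ).1 hψ
      refine ⟨(l : ZMod p), l.ne_zero, fun i hi => ?_⟩
      rw [hDY l i hi, hd0, Int.cast_zero, zero_add]
    · intro w hw ψ hψ
      obtain ⟨l, rfl⟩ := (hmemY ψ).1 hψ
      have h := hWl w hw l
      rw [hd0, Int.cast_zero, zero_mul, add_zero] at h
      exact h
  · obtain ⟨x, y, hxy, hYxy⟩ := Finset.card_eq_two.1 ht2
    have hxY : x ∈ Y := by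
      rw [hYxy]
      exact Finset.mem_insert_self _ _
    have hyY : y ∈ Y := by
      rw [hYxy]
      exact Finset.mem_insert_of_mem (Finset.mem_singleton_self _)
    obtain ⟨lx, hlx⟩ := (hmemY x).1 hxY
    obtain ⟨ly, hly⟩ := (hmemY y).1 hyY
    have hsum2 : ∀ i : ZMod p, i ≠ 0 → DD ζ (a x) i + DD ζ (a y) i = (δ : ℂ) := by
      intro i hi
      have h := hYsum i hi
      rw [ht2, hdδ] at h
      rw [hYxy, Finset.sum_pair hxy] at h
      rw [h]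
      push_cast
      ring
    refine ⟨X, Y, b, -δ, hXY, hdis, hXc, hYc, fun χ hχ => (hXfix χ hχ).1, ?_, hDX, ?_,
      fun u χ hχ => (hXfix χ hχ).2 u, hgalY, htrans, ?_⟩
    · rcases hδ with h | h <;> rw [h] <;> norm_num
    · intro ψ hψ
      rw [hYxy, Finset.mem_insert, Finset.mem_singleton] at hψ
      rcases hψ with h | h
      · refine ⟨(ly : ZMod p), ly.ne_zero, fun i hi => ?_⟩
        have h1 := hsum2 i hi
        have h2 := hDY ly i hi
        rw [hly, hdδ] at h2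
        rw [h]
        push_cast
        linear_combination h1 - h2
      · refine ⟨(lx : ZMod p), lx.ne_zero, fun i hi => ?_⟩
        have h1 := hsum2 i hi
        have h2 := hDY lx i hi
        rw [hlx, hdδ] at h2
        rw [h]
        push_cast
        linear_combination h1 - h2
    · intro w hw ψ hψ
      rw [hYxy, Finset.mem_insert, Finset.mem_singleton] at hψ
      have hx := hWl w hw lx
      have hy := hWl w hw ly
      rw [hlx, hYxy, Finset.sum_pair hxy, hdδ] at hx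
      rw [hly, hYxy, Finset.sum_pair hxy, hdδ] at hy
      rcases hψ with h | h
      · rw [h]
        push_cast
        linear_combination hy
      · rw [h]
        push_cast
        linear_combination hx

end Cfsg.Agent.Helper91.D1AC
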