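import Mathlib
import Cfsg.Agent.Helper77.D1Defs2
import Cfsg.Agent.Helper82.ExcCoherence
import Cfsg.Agent.Helper91.D1ACLib
import Cfsg.Agent.Helper91.D1ACLib2

universe u

set_option autoImplicit false

namespace Cfsg.Agent.Helper91

open Cfsg Cfsg.Agent.Helper77
open scoped ComplexConjugate

theorem d1_act (p : ℕ) [Fact p.Prime] {ι : Type*} [DecidableEq ι] (T : Finset ι)
    (a : ι → ZMod p → ℤ) (E : Subgroup (ZMod p)ˣ) (ζ : ℂ) (hζ : IsPrimitiveRoot ζ p)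
    (hT : ∀ χ ∈ T, ∑ l : ZMod p, (a χ l : ℂ) * ζ ^ l.val ≠ 0)
    (hE : ∀ χ ∈ T, ∀ s ∈ E, ∀ l : ZMod p, a χ ((s : ZMod p) * l) = a χ l)
    (horth1 : ∀ i i' : ZMod p, i ≠ 0 → i' ≠ 0 → (∃ s ∈ E, i' = (s : ZMod p) * i) →
      ∑ χ ∈ T, (∑ l : ZMod p, (a χ l : ℂ) * ζ ^ (i * l).val)
          * conj (∑ l : ZMod p, (a χ l : ℂ) * ζ ^ (i' * l).val) = (p : ℂ))
    (horth0 : ∀ i i' : ZMod p, i ≠ 0 → i' ≠ 0 → (¬ ∃ s ∈ E, i' = (s : ZMod p) * i) →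
      ∑ χ ∈ T, (∑ l : ZMod p, (a χ l : ℂ) * ζ ^ (i * l).val)
          * conj (∑ l : ZMod p, (a χ l : ℂ) * ζ ^ (i' * l).val) = 0)
    (gal : (ZMod p)ˣ → ι → ι) (hgalT : ∀ u, ∀ χ ∈ T, gal u χ ∈ T)
    (hgal1 : ∀ χ ∈ T, gal 1 χ = χ)
    (hgal : ∀ u, ∀ χ ∈ T, ∀ l : ZMod p, a (gal u χ) ((u : ZMod p) * l) = a χ l)
    (hF : ∀ χ ∈ T, ‖∑ χ' ∈ Finset.univ.image (fun u : (ZMod p)ˣ => gal u χ),
        ∑ l : ZMod p, (a χ' l : ℂ) * ζ ^ l.val‖ ≤ 1)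
    (deg : ι → ℤ) (hdeg : ∀ χ ∈ T, 0 < deg χ)
    (W : Set (ι → ℂ)) (hdegW : (fun χ => (deg χ : ℂ)) ∈ W)
    (hW : ∀ w ∈ W, ∀ l l' : ZMod p, ∑ χ ∈ T, ((a χ l : ℂ) - (a χ l' : ℂ)) * w χ = 0) :
    ∃ (X Y : Finset ι) (c : ι → ℤ) (ε : ℤ),
      X ∪ Y = T ∧ Disjoint X Y ∧ X.card = Nat.card E ∧ Y.card * Nat.card E = p - 1 ∧
      (∀ χ ∈ X, c χ = 1 ∨ c χ = -1) ∧ (ε = 1 ∨ ε = -1) ∧
      (∀ χ ∈ X, ∀ i : ZMod p, i ≠ 0 →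
        ∑ l : ZMod p, (a χ l : ℂ) * ζ ^ (i * l).val = (c χ : ℂ)) ∧
      (∀ ψ ∈ Y, ∃ l₀ : ZMod p, l₀ ≠ 0 ∧ ∀ i : ZMod p, i ≠ 0 →
        ∑ l : ZMod p, (a ψ l : ℂ) * ζ ^ (i * l).val
          = (ε : ℂ) * ∑ᶠ s ∈ (E : Set (ZMod p)ˣ), ζ ^ (i * (s : ZMod p) * l₀).val) ∧
      (∀ u, ∀ χ ∈ X, gal u χ = χ) ∧
      (∀ u, ∀ ψ ∈ Y, gal u ψ ∈ Y) ∧
      (∀ ψ ∈ Y, ∀ ψ' ∈ Y, ∃ u : (ZMod p)ˣ, gal u ψ = ψ') ∧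
      (∀ w ∈ W, ∀ ψ ∈ Y, ∑ χ ∈ X, (c χ : ℂ) * w χ = (ε : ℂ) * w ψ) := by
  have hDD1 : ∀ χ, ∑ l : ZMod p, (a χ l : ℂ) * ζ ^ l.val = D1AC.DD ζ (a χ) 1 := by
    intro χ
    unfold D1AC.DD D1AC.ee
    simp only [one_mul]
  simp only [hDD1] at hT hF
  have hconcl : D1AC.Concl ζ T a E gal W := by
    by_cases hEtop : E = ⊤
    · exact D1AC.d1_top ζ hζ T a E hEtop hT hE
        (horth1 1 1 one_ne_zero one_ne_zero ⟨1, E.one_mem, by simp⟩)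
        gal hgalT hgal1 hgal hF W hW
    · have hgram := D1AC.gramZ ζ hζ T a E horth1 horth0
      have hdeg0 : ∀ l l' : ZMod p, ∑ χ ∈ T, (a χ l - a χ l') * deg χ = 0 := by
        intro l l'
        have h := hW _ hdegW l l'
        exact_mod_cast h
      obtain ⟨δ, d, b, η, hδ, hηT, hη, hab, hbd, hnorm⟩ :=
        D1AC.coh T a E hEtop hE deg hdeg hdeg0 hgram
      exact D1AC.d1_core ζ hζ T a E hEtop hT gal hgalT hgal1 hgal hF W hW δ d b η hδ hηT hη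
        hab hbd hnorm
  exact hconcl

end Cfsg.Agent.Helper91
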