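/-
Helper91: PIECE F2 of CALL S5156 (helper85): a model of a fusion system which is its own residual of
index prime to `p`, all of whose automorphisms of `p`-power order are induced by `p`-elements, is
generated by its `p`-elements.
-/
import Mathlib
import Cfsg.Agent.Helper87.AxMax
import Cfsg.Agent.Helper84.FusionAut

set_option autoImplicit false
universe u
open Cfsg Cfsg.FusionSystem

namespace Cfsg.Agent.Helper91

variable {Ω : Type*} [Group Ω] {S : Subgroup Ω}

theorem s5156_model_pprime [Finite S] {p : ℕ} [Fact p.Prime] (hS : IsPGroup p S) (E : FusionSystem S)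
    (hmin : E.IsPPrimeResidual p E) {H : Type*} [Group H] (ι : S →* H) (hM : E.IsModel p H ι)
    (hpp : ∀ (P : Subgroup Ω) (hP : P ≤ S) (a : MulAut P), a ∈ E.autGroup P → (∃ k : ℕ, orderOf a = p ^ k) →
      ∃ g : H, (∃ k : ℕ, orderOf g = p ^ k) ∧
        ∀ x : P, ι ⟨(a x : P), hP (a x).2⟩ = g * ι ⟨x, hP x.2⟩ * g⁻¹) :
    Subgroup.closure {g : H | ∃ k : ℕ, orderOf g = p ^ k} = ⊤ := by
  have hRle := Helper84.model_pCore_le_range E hM
  obtain ⟨hfin, hreal, ⟨T, hT⟩, hcen⟩ := hM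
  have hinj := hreal.1
  -- the subgroup generated by the `p`-elements contains the image of `S`
  have hH₀ : ι.range ≤ Subgroup.closure {g : H | ∃ k : ℕ, orderOf g = p ^ k} := by
    rintro _ ⟨s, rfl⟩
    apply Subgroup.subset_closure
    obtain ⟨k, hk⟩ := (IsPGroup.iff_orderOf.1 hS) s
    exact ⟨k, by rw [orderOf_injective ι hinj s, hk]⟩
  have hsub := Helper87.axSubSystem_isSubsystemOf E ι _ hH₀
  have hrealH := Helper87.axSubSystem_realized E hreal _ hH₀
  have hTH : (T : Subgroup H) ≤ Subgroup.closure {g : H | ∃ k : ℕ, orderOf g = p ^ k} := hT ▸ hH₀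
  have hsat : (Helper87.axSubSystem E ι _ hH₀).IsSaturated p := by
    refine Helper85.saturated_of_realized _ _ hrealH (T.subtype hTH) ?_
    rw [Sylow.coe_subtype, hT]
    ext ⟨y, hy⟩
    rw [Subgroup.mem_subgroupOf]
    constructor
    · rintro ⟨s, hs⟩
      exact ⟨s, Subtype.ext hs⟩
    · rintro ⟨s, hs⟩
      exact ⟨s, congrArg Subtype.val hs⟩
  have hidx : (Helper87.axSubSystem E ι _ hH₀).HasPrimeToPIndexIn E p := by
    refine ⟨hsub, fun P hP => ?_⟩
    rw [Subgroup.map_le_iff_le_comap, Subgroup.closure_le]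
    rintro α ⟨k, hk⟩
    show ((α : MulAut P)) ∈ (Helper87.axSubSystem E ι _ hH₀).autGroup P
    obtain ⟨g, hgp, hg⟩ := hpp P hP (α : MulAut P) α.2 ⟨k, by rw [Subgroup.orderOf_coe, hk]⟩
    apply Subgroup.subset_closure
    exact ⟨(Helper84.mem_autGroup_iff E hP (α : MulAut P)).1 α.2, hP, fun x => hP ((α : MulAut P) x).2,
      g, Subgroup.subset_closure hgp, fun x => hg x⟩
  have hsubE : E.IsSubsystemOf (Helper87.axSubSystem E ι _ hH₀) := hmin.2.2 _ hsat hidx
  have hOS := Helper84.corePre_le (S := S) p ι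
  have hcn : (pCore p H).Normal := Cfsg.pCore_normal p H
  have hOconj : ∀ (g : H) (y : ↥(Helper84.corePre p ι)), g * ι ⟨y, hOS y.2⟩ * g⁻¹ ∈ ι.range := by
    intro g y
    exact hRle (hcn.conj_mem _ ((Helper84.mem_corePre_iff p ι ⟨y, hOS y.2⟩).mp y.2) g)
  have hkey : ∀ g k : H,
      (∀ y : ↥(Helper84.corePre p ι), g * ι ⟨y, hOS y.2⟩ * g⁻¹ = k * ι ⟨y, hOS y.2⟩ * k⁻¹) →
      k⁻¹ * g ∈ pCore p H := by
    intro g k h
    apply hcen
    rw [Subgroup.mem_centralizer_iff]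
    intro o ho
    obtain ⟨s, rfl⟩ := hRle ho
    have h1 := h ⟨s, (Helper84.mem_corePre_iff p ι s).mpr ho⟩
    have h2 : ι ⟨((⟨(s : Ω), (Helper84.mem_corePre_iff p ι s).mpr ho⟩ : ↥(Helper84.corePre p ι)) : Ω),
        hOS ((Helper84.mem_corePre_iff p ι s).mpr ho)⟩ = ι s := rfl
    rw [h2] at h1
    calc ι s * (k⁻¹ * g) = k⁻¹ * (k * ι s * k⁻¹) * g := by group
      _ = k⁻¹ * (g * ι s * g⁻¹) * g := by rw [h1]
      _ = k⁻¹ * g * ι s := by group
  rw [eq_top_iff]
  intro g _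
  obtain ⟨ψ, hψ, hψι⟩ := Helper84.exists_conj_hom E hreal hOS g (hOconj g)
  obtain ⟨_, hP, hφ, h, hh, hc⟩ := hsubE _ hψ
  have h1 : h⁻¹ * g ∈ pCore p H := by
    apply hkey
    intro y
    obtain ⟨hx, h2⟩ := hψι y
    rw [← h2]
    exact hc y
  have h2 : g = h * (h⁻¹ * g) := by group
  rw [h2]
  exact Subgroup.mul_mem _ hh (hH₀ (hRle h1))

end Cfsg.Agent.Helper91
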