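/-
Helper91: explicit data for `Cfsg.M24`: transversal tables for the base 23, 0, 1, 2, 3 (five-fold transitivity),
a rigidity certificate for the seven points 23, 0, 1, 2, 3, 5, 4, and non-identity elements fixing six points.
-/
import Cfsg.Agent.Helper91.Trans

set_option autoImplicit false

namespace Cfsg.Agent.Helper91

open Cfsg

/-- Rigidity certificate for the seven points of indices 23, 0, 1, 2, 3, 5, 4. -/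

def cert7 : List Step :=
  [.sub 0, .compl 0, .sub 8388671, .compl 8388671, .cw 12656663 [8388544], .compl 12656663,
   .and 8388544 12656663, .and 8388544 4120552, .cw 14688364 [4268032, 4120512], .compl 14688364,
   .and 4268032 14688364, .and 4268032 2088851, .fix 16, .and 4120512 14688364, .and 4120512 2088851,
   .cw 15335473 [4202496, 2097216, 2023296], .compl 15335473, .and 4202496 15335473, .and 4202496 1441742,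
   .fix 22, .fix 13, .and 2097216 15335473, .and 2097216 1441742, .fix 21, .fix 6, .and 2023296 15335473,
   .and 2023296 1441742, .cw 11100169 [655360, 1367936], .compl 11100169, .and 655360 11100169,
   .and 655360 5677046, .fix 19, .fix 17, .and 1367936 11100169, .and 1367936 5677046, .fix 14,
   .cw 14762146 [1351552], .compl 14762146, .and 1351552 14762146, .and 1351552 2015069, .fix 7,
   .cw 16262146 [1351424], .compl 16262146, .and 1351424 16262146, .and 1351424 515069,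
   .cw 16056344 [1049600, 301824], .compl 16056344, .and 1049600 16056344, .and 1049600 720871, .fix 20,
   .fix 10, .and 301824 16056344, .and 301824 720871, .fix 18, .cw 15864000 [39680], .compl 15864000,
   .and 39680 15864000, .and 39680 913215, .fix 12, .cw 15762208 [35584], .compl 15762208, .and 35584 15762208,
   .and 35584 1015007, .fix 11, .cw 15515712 [33536], .compl 15515712, .and 33536 15515712, .and 33536 1261503,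
   .fix 15, .cw 15274244 [768], .compl 15274244, .and 768 15274244, .and 768 1502971, .fix 8, .fix 9]

/-- Transversal tables for the first five levels of the stabilizer chain of `M24` along the base
23, 0, 1, 2, 3. -/

def lev5 : List (Nat × List (List Nat)) :=
  [(23,
    [[23, 22, 11, 15, 17, 9, 19, 13, 20, 5, 16, 2, 21, 7, 18, 3, 10, 4, 14, 6, 8, 12, 1, 0],
     [23, 0, 12, 16, 18, 10, 20, 14, 21, 6, 17, 3, 22, 8, 19, 4, 11, 5, 15, 7, 9, 13, 2, 1],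
     [23, 1, 13, 17, 19, 11, 21, 15, 22, 7, 18, 4, 0, 9, 20, 5, 12, 6, 16, 8, 10, 14, 3, 2],
     [23, 2, 14, 18, 20, 12, 22, 16, 0, 8, 19, 5, 1, 10, 21, 6, 13, 7, 17, 9, 11, 15, 4, 3],
     [23, 0, 16, 9, 2, 5, 7, 11, 10, 18, 19, 3, 17, 13, 14, 6, 22, 20, 15, 21, 8, 12, 1, 4],
     [23, 0, 19, 11, 22, 14, 20, 13, 15, 1, 12, 3, 6, 17, 7, 10, 21, 18, 9, 8, 16, 2, 4, 5],
     [23, 18, 9, 11, 22, 19, 20, 15, 14, 5, 4, 2, 0, 12, 10, 21, 8, 1, 13, 16, 7, 17, 3, 6],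
     [0, 23, 18, 20, 6, 17, 19, 5, 16, 21, 22, 9, 1, 15, 4, 13, 10, 2, 3, 11, 8, 14, 12, 7],
     [23, 0, 9, 20, 3, 11, 1, 22, 16, 10, 17, 15, 13, 21, 7, 5, 4, 6, 12, 14, 18, 19, 2, 8],
     [23, 0, 11, 4, 10, 18, 1, 5, 17, 20, 6, 19, 2, 12, 22, 8, 14, 15, 16, 13, 7, 21, 3, 9],
     [23, 1, 11, 13, 21, 12, 18, 9, 7, 14, 5, 22, 0, 2, 15, 8, 16, 4, 17, 19, 20, 6, 3, 10],
     [0, 22, 7, 4, 6, 2, 12, 3, 1, 13, 14, 17, 23, 5, 8, 9, 21, 19, 10, 20, 16, 18, 15, 11],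
     [0, 23, 15, 6, 14, 18, 13, 16, 22, 20, 11, 21, 1, 19, 10, 17, 2, 7, 3, 8, 5, 9, 4, 12],
     [23, 1, 14, 16, 15, 9, 19, 6, 7, 18, 11, 20, 0, 8, 10, 22, 21, 17, 12, 5, 3, 4, 2, 13],
     [0, 23, 20, 7, 17, 13, 16, 4, 8, 22, 2, 15, 18, 10, 1, 11, 6, 12, 3, 9, 21, 5, 19, 14],
     [0, 11, 18, 14, 8, 21, 1, 10, 23, 20, 6, 9, 22, 16, 12, 19, 7, 13, 4, 5, 2, 3, 17, 15],
     [23, 0, 13, 8, 11, 9, 6, 17, 19, 1, 4, 3, 14, 18, 12, 2, 20, 15, 21, 5, 22, 7, 10, 16],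
     [23, 11, 8, 9, 7, 15, 10, 6, 4, 22, 20, 13, 0, 21, 3, 19, 5, 1, 14, 12, 18, 16, 2, 17],
     [23, 0, 8, 13, 4, 7, 10, 17, 20, 1, 11, 3, 14, 16, 22, 2, 19, 21, 15, 5, 12, 9, 6, 18],
     [0, 23, 4, 18, 14, 6, 9, 10, 20, 22, 21, 11, 1, 12, 16, 17, 2, 8, 3, 7, 5, 13, 15, 19],
     [23, 0, 13, 6, 9, 4, 1, 14, 5, 10, 18, 8, 2, 22, 21, 16, 17, 15, 19, 7, 11, 12, 3, 20],
     [0, 23, 16, 9, 18, 6, 14, 3, 17, 4, 7, 20, 1, 15, 22, 11, 2, 10, 8, 19, 12, 13, 5, 21],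
     [0, 23, 21, 10, 14, 16, 8, 18, 12, 19, 4, 15, 1, 20, 6, 17, 2, 9, 3, 13, 5, 7, 11, 22],
     [0, 1, 2, 3, 4, 5, 6, 7, 8, 9, 10, 11, 12, 13, 14, 15, 16, 17, 18, 19, 20, 21, 22, 23]]),
   (0,
    [[0, 1, 2, 3, 4, 5, 6, 7, 8, 9, 10, 11, 12, 13, 14, 15, 16, 17, 18, 19, 20, 21, 22, 23],
     [1, 2, 3, 4, 5, 6, 7, 8, 9, 10, 11, 12, 13, 14, 15, 16, 17, 18, 19, 20, 21, 22, 0, 23],
     [2, 3, 4, 5, 6, 7, 8, 9, 10, 11, 12, 13, 14, 15, 16, 17, 18, 19, 20, 21, 22, 0, 1, 23],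
     [3, 4, 5, 6, 7, 8, 9, 10, 11, 12, 13, 14, 15, 16, 17, 18, 19, 20, 21, 22, 0, 1, 2, 23],
     [4, 1, 3, 6, 20, 18, 21, 13, 8, 5, 22, 16, 12, 11, 15, 9, 19, 2, 14, 7, 10, 17, 0, 23],
     [5, 4, 3, 10, 18, 1, 8, 17, 16, 14, 21, 19, 2, 13, 9, 11, 12, 22, 7, 20, 15, 6, 0, 23],
     [6, 3, 2, 21, 1, 5, 16, 12, 7, 19, 8, 9, 17, 15, 13, 11, 4, 22, 10, 20, 14, 0, 18, 23],
     [7, 19, 22, 12, 16, 1, 21, 11, 13, 10, 5, 14, 17, 15, 4, 8, 20, 18, 2, 9, 6, 3, 0, 23],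
     [8, 2, 15, 5, 6, 10, 14, 21, 18, 11, 4, 9, 19, 22, 12, 20, 17, 3, 7, 1, 16, 13, 0, 23],
     [9, 3, 19, 8, 15, 20, 13, 12, 7, 18, 14, 11, 21, 5, 16, 4, 6, 10, 22, 1, 17, 2, 0, 23],
     [10, 3, 22, 8, 4, 14, 19, 2, 20, 12, 16, 11, 6, 9, 17, 13, 5, 21, 15, 18, 7, 0, 1, 23],
     [11, 17, 2, 13, 19, 1, 22, 12, 21, 18, 15, 5, 8, 16, 6, 14, 9, 20, 7, 3, 10, 4, 0, 23],
     [12, 3, 22, 16, 15, 10, 9, 8, 5, 4, 17, 19, 20, 21, 13, 2, 1, 7, 14, 18, 11, 6, 0, 23],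
     [13, 2, 20, 22, 17, 18, 5, 8, 3, 9, 21, 14, 4, 6, 12, 16, 11, 15, 10, 19, 7, 0, 1, 23],
     [14, 9, 6, 8, 21, 10, 13, 2, 5, 12, 7, 11, 22, 3, 15, 19, 20, 4, 17, 18, 16, 0, 1, 23],
     [15, 18, 20, 2, 7, 13, 17, 16, 14, 5, 10, 8, 3, 11, 12, 4, 21, 22, 0, 9, 19, 6, 1, 23],
     [16, 10, 3, 2, 15, 1, 5, 18, 22, 9, 20, 13, 7, 17, 21, 8, 4, 11, 12, 6, 19, 14, 0, 23],
     [17, 2, 13, 19, 1, 22, 12, 21, 18, 15, 5, 8, 16, 6, 14, 9, 20, 7, 3, 10, 4, 0, 11, 23],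
     [18, 6, 3, 2, 21, 1, 5, 16, 12, 7, 19, 8, 9, 17, 15, 13, 11, 4, 22, 10, 20, 14, 0, 23],
     [19, 7, 4, 3, 22, 2, 6, 17, 13, 8, 20, 9, 10, 18, 16, 14, 12, 5, 0, 11, 21, 15, 1, 23],
     [20, 3, 8, 16, 15, 10, 7, 22, 11, 4, 17, 13, 12, 14, 19, 6, 18, 9, 21, 1, 5, 2, 0, 23],
     [21, 3, 10, 4, 7, 6, 11, 16, 15, 22, 14, 13, 9, 5, 12, 8, 20, 19, 18, 1, 17, 2, 0, 23],
     [22, 20, 3, 2, 9, 1, 5, 12, 16, 15, 10, 4, 21, 17, 7, 11, 13, 8, 18, 19, 6, 14, 0, 23]]),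
   (1,
    [[0, 1, 2, 3, 4, 5, 6, 7, 8, 9, 10, 11, 12, 13, 14, 15, 16, 17, 18, 19, 20, 21, 22, 23],
     [0, 2, 3, 21, 19, 9, 15, 11, 16, 14, 5, 6, 12, 18, 8, 17, 22, 4, 20, 7, 1, 13, 10, 23],
     [0, 3, 22, 8, 2, 16, 1, 12, 6, 17, 13, 4, 14, 10, 11, 20, 19, 5, 7, 21, 9, 15, 18, 23],
     [0, 4, 1, 3, 6, 20, 18, 21, 13, 8, 5, 22, 16, 12, 11, 15, 9, 19, 2, 14, 7, 10, 17, 23],
     [0, 5, 4, 3, 10, 18, 1, 8, 17, 16, 14, 21, 19, 2, 13, 9, 11, 12, 22, 7, 20, 15, 6, 23],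
     [0, 6, 1, 3, 18, 10, 4, 12, 7, 16, 14, 21, 19, 22, 13, 15, 20, 8, 2, 17, 11, 9, 5, 23],
     [0, 7, 19, 22, 12, 16, 1, 21, 11, 13, 10, 5, 14, 17, 15, 4, 8, 20, 18, 2, 9, 6, 3, 23],
     [0, 8, 2, 15, 5, 6, 10, 14, 21, 18, 11, 4, 9, 19, 22, 12, 20, 17, 3, 7, 1, 16, 13, 23],
     [0, 9, 3, 19, 8, 15, 20, 13, 12, 7, 18, 14, 11, 21, 5, 16, 4, 6, 10, 22, 1, 17, 2, 23],
     [0, 10, 20, 19, 3, 17, 9, 15, 4, 11, 13, 22, 12, 7, 6, 16, 21, 14, 8, 2, 18, 1, 5, 23],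
     [0, 11, 17, 2, 13, 19, 1, 22, 12, 21, 18, 15, 5, 8, 16, 6, 14, 9, 20, 7, 3, 10, 4, 23],
     [0, 12, 3, 22, 16, 15, 10, 9, 8, 5, 4, 17, 19, 20, 21, 13, 2, 1, 7, 14, 18, 11, 6, 23],
     [0, 13, 5, 2, 7, 8, 1, 21, 22, 12, 4, 15, 14, 16, 19, 18, 17, 20, 10, 11, 3, 9, 6, 23],
     [0, 14, 5, 13, 9, 15, 3, 17, 21, 11, 19, 6, 12, 16, 22, 7, 4, 10, 8, 2, 18, 1, 20, 23],
     [0, 15, 8, 19, 18, 10, 9, 12, 6, 4, 5, 17, 22, 3, 21, 7, 14, 11, 2, 13, 1, 16, 20, 23],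
     [0, 16, 10, 3, 2, 15, 1, 5, 18, 22, 9, 20, 13, 7, 17, 21, 8, 4, 11, 12, 6, 19, 14, 23],
     [0, 17, 20, 3, 10, 9, 1, 8, 5, 7, 2, 15, 11, 14, 13, 18, 19, 22, 12, 16, 4, 21, 6, 23],
     [0, 18, 6, 3, 2, 21, 1, 5, 16, 12, 7, 19, 8, 9, 17, 15, 13, 11, 4, 22, 10, 20, 14, 23],
     [0, 19, 1, 3, 13, 11, 9, 22, 6, 10, 5, 21, 7, 15, 20, 12, 18, 4, 2, 14, 16, 8, 17, 23],
     [0, 20, 3, 8, 16, 15, 10, 7, 22, 11, 4, 17, 13, 12, 14, 19, 6, 18, 9, 21, 1, 5, 2, 23],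
     [0, 21, 3, 10, 4, 7, 6, 11, 16, 15, 22, 14, 13, 9, 5, 12, 8, 20, 19, 18, 1, 17, 2, 23],
     [0, 22, 20, 3, 2, 9, 1, 5, 12, 16, 15, 10, 4, 21, 17, 7, 11, 13, 8, 18, 19, 6, 14, 23]]),
   (2,
    [[0, 1, 2, 3, 4, 5, 6, 7, 8, 9, 10, 11, 12, 13, 14, 15, 16, 17, 18, 19, 20, 21, 22, 23],
     [0, 1, 3, 2, 7, 5, 20, 4, 15, 13, 10, 21, 12, 9, 17, 8, 16, 14, 22, 19, 6, 11, 18, 23],
     [0, 1, 4, 8, 17, 5, 19, 3, 14, 13, 22, 21, 18, 9, 7, 2, 6, 15, 10, 20, 16, 11, 12, 23],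
     [0, 1, 5, 9, 16, 13, 6, 22, 4, 14, 17, 7, 15, 12, 21, 2, 19, 11, 8, 18, 3, 20, 10, 23],
     [0, 1, 6, 3, 12, 13, 11, 14, 20, 2, 19, 22, 18, 4, 10, 7, 17, 8, 5, 15, 21, 16, 9, 23],
     [0, 1, 7, 2, 12, 19, 17, 10, 5, 9, 3, 8, 4, 14, 21, 16, 20, 6, 15, 11, 18, 22, 13, 23],
     [0, 1, 8, 3, 21, 10, 19, 14, 4, 2, 11, 15, 7, 20, 13, 18, 17, 6, 5, 22, 12, 9, 16, 23],
     [0, 1, 9, 8, 21, 14, 7, 18, 4, 2, 15, 17, 6, 5, 22, 10, 11, 19, 12, 16, 20, 3, 13, 23],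
     [0, 1, 10, 3, 22, 8, 4, 14, 19, 2, 20, 12, 16, 11, 6, 9, 17, 13, 5, 21, 15, 18, 7, 23],
     [0, 1, 11, 10, 15, 7, 13, 5, 8, 19, 3, 2, 18, 6, 22, 4, 16, 17, 12, 9, 20, 21, 14, 23],
     [0, 1, 12, 3, 13, 22, 19, 16, 4, 18, 11, 6, 17, 20, 21, 2, 7, 15, 9, 10, 8, 5, 14, 23],
     [0, 1, 13, 2, 20, 22, 17, 18, 5, 8, 3, 9, 21, 14, 4, 6, 12, 16, 11, 15, 10, 19, 7, 23],
     [0, 1, 14, 9, 6, 8, 21, 10, 13, 2, 5, 12, 7, 11, 22, 3, 15, 19, 20, 4, 17, 18, 16, 23],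
     [0, 1, 15, 3, 14, 21, 7, 4, 18, 20, 9, 17, 13, 16, 22, 10, 11, 12, 19, 5, 2, 8, 6, 23],
     [0, 1, 16, 3, 20, 7, 15, 14, 12, 2, 22, 19, 10, 21, 18, 13, 17, 9, 5, 11, 4, 6, 8, 23],
     [0, 1, 17, 20, 18, 16, 12, 9, 7, 2, 14, 22, 11, 13, 21, 3, 15, 8, 10, 6, 5, 4, 19, 23],
     [0, 1, 18, 3, 19, 9, 21, 14, 22, 2, 12, 20, 6, 15, 16, 8, 17, 7, 5, 4, 11, 10, 13, 23],
     [0, 1, 19, 3, 18, 4, 8, 14, 10, 2, 6, 16, 12, 13, 20, 21, 17, 11, 5, 9, 7, 22, 15, 23],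
     [0, 1, 20, 3, 7, 19, 22, 6, 21, 10, 15, 16, 17, 12, 4, 2, 13, 11, 8, 18, 9, 5, 14, 23],
     [0, 1, 21, 4, 9, 14, 15, 22, 8, 2, 7, 17, 20, 5, 18, 19, 13, 10, 16, 12, 6, 3, 11, 23],
     [0, 1, 22, 3, 10, 21, 9, 14, 18, 2, 16, 6, 20, 7, 12, 4, 17, 15, 5, 8, 13, 19, 11, 23]]),
   (3,
    [[0, 1, 2, 3, 4, 5, 6, 7, 8, 9, 10, 11, 12, 13, 14, 15, 16, 17, 18, 19, 20, 21, 22, 23],
     [0, 1, 2, 4, 15, 16, 18, 11, 14, 19, 21, 5, 17, 10, 22, 6, 20, 13, 3, 8, 7, 12, 9, 23],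
     [0, 1, 2, 5, 12, 14, 4, 13, 7, 9, 15, 19, 6, 8, 3, 20, 11, 17, 21, 16, 10, 22, 18, 23],
     [0, 1, 2, 6, 18, 21, 15, 10, 14, 13, 16, 5, 17, 11, 7, 4, 8, 19, 3, 20, 22, 9, 12, 23],
     [0, 1, 2, 7, 15, 19, 12, 18, 13, 3, 14, 4, 22, 20, 6, 17, 9, 21, 16, 8, 5, 11, 10, 23],
     [0, 1, 2, 8, 7, 12, 22, 13, 14, 10, 9, 5, 17, 19, 18, 20, 6, 11, 3, 4, 15, 16, 21, 23],
     [0, 1, 2, 9, 21, 20, 22, 16, 8, 3, 14, 11, 12, 19, 10, 17, 7, 15, 18, 13, 5, 4, 6, 23],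
     [0, 1, 2, 10, 16, 15, 21, 6, 14, 8, 18, 5, 17, 4, 9, 11, 13, 20, 3, 19, 12, 7, 22, 23],
     [0, 1, 2, 11, 15, 8, 22, 4, 7, 3, 17, 6, 21, 10, 18, 5, 20, 12, 19, 16, 14, 13, 9, 23],
     [0, 1, 2, 12, 20, 18, 4, 22, 6, 3, 17, 7, 19, 9, 8, 5, 15, 11, 21, 13, 14, 16, 10, 23],
     [0, 1, 2, 13, 9, 22, 12, 8, 14, 6, 7, 5, 17, 20, 16, 19, 10, 4, 3, 11, 21, 18, 15, 23],
     [0, 1, 2, 14, 13, 17, 21, 19, 18, 9, 10, 12, 11, 4, 3, 15, 22, 5, 8, 7, 20, 6, 16, 23],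
     [0, 1, 2, 15, 17, 9, 16, 4, 6, 8, 11, 19, 21, 14, 10, 12, 5, 20, 7, 13, 18, 22, 3, 23],
     [0, 1, 2, 16, 11, 22, 21, 7, 17, 9, 20, 14, 5, 8, 4, 10, 18, 13, 3, 6, 15, 19, 12, 23],
     [0, 1, 2, 17, 7, 5, 12, 8, 4, 20, 9, 22, 13, 6, 3, 15, 21, 14, 16, 11, 10, 18, 19, 23],
     [0, 1, 2, 18, 22, 11, 21, 7, 10, 3, 14, 20, 15, 4, 8, 17, 16, 12, 9, 6, 5, 19, 13, 23],
     [0, 1, 2, 19, 12, 7, 9, 20, 14, 4, 22, 5, 17, 8, 21, 13, 11, 6, 3, 10, 16, 15, 18, 23],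
     [0, 1, 2, 20, 12, 10, 21, 19, 16, 3, 17, 13, 22, 8, 9, 5, 11, 15, 4, 7, 14, 6, 18, 23],
     [0, 1, 2, 21, 9, 6, 18, 12, 4, 3, 14, 13, 16, 10, 19, 17, 15, 7, 22, 11, 5, 8, 20, 23],
     [0, 1, 2, 22, 18, 13, 9, 15, 19, 3, 14, 6, 7, 8, 4, 17, 12, 16, 21, 20, 5, 10, 11, 23]])]

/-- Non-identity elements of `M24` fixing the points 23, 0, 1, 2, 3 and one further point. -/

def wTabs : List (List Nat) :=
  [[0, 1, 2, 3, 4, 14, 15, 10, 21, 8, 12, 19, 7, 22, 17, 18, 13, 5, 6, 20, 11, 9, 16, 23],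
   [0, 1, 2, 3, 21, 5, 16, 13, 9, 8, 18, 15, 20, 7, 14, 11, 6, 17, 10, 22, 12, 4, 19, 23],
   [0, 1, 2, 3, 18, 14, 6, 21, 10, 22, 13, 9, 20, 8, 17, 4, 12, 5, 15, 7, 16, 19, 11, 23],
   [0, 1, 2, 3, 12, 14, 19, 7, 20, 16, 4, 15, 10, 11, 17, 13, 18, 5, 9, 21, 22, 6, 8, 23],
   [0, 1, 2, 3, 9, 14, 13, 22, 8, 21, 6, 18, 11, 10, 17, 19, 15, 5, 12, 16, 7, 4, 20, 23],
   [0, 1, 2, 3, 8, 17, 22, 16, 21, 9, 15, 6, 19, 12, 5, 20, 18, 14, 7, 13, 10, 4, 11, 23],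
   [0, 1, 2, 3, 7, 14, 8, 12, 13, 15, 10, 16, 4, 6, 17, 20, 21, 5, 22, 18, 9, 11, 19, 23],
   [0, 1, 2, 3, 20, 14, 22, 13, 12, 6, 21, 11, 18, 15, 17, 7, 10, 5, 8, 4, 19, 16, 9, 23],
   [0, 1, 2, 3, 10, 14, 16, 4, 18, 19, 7, 8, 12, 9, 17, 21, 20, 5, 11, 13, 6, 22, 15, 23],
   [0, 1, 2, 3, 16, 14, 10, 15, 6, 12, 8, 7, 19, 13, 17, 11, 22, 5, 21, 9, 18, 20, 4, 23],
   [0, 1, 2, 3, 6, 14, 18, 11, 16, 20, 9, 13, 22, 7, 17, 15, 19, 5, 4, 8, 10, 12, 21, 23],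
   [0, 1, 2, 3, 22, 14, 20, 9, 19, 18, 11, 21, 6, 4, 17, 8, 16, 5, 7, 15, 12, 10, 13, 23],
   [0, 1, 2, 3, 15, 14, 4, 16, 11, 7, 19, 12, 8, 20, 17, 6, 9, 5, 18, 22, 21, 13, 10, 23],
   [0, 1, 2, 3, 11, 14, 21, 6, 15, 13, 22, 20, 9, 12, 17, 16, 8, 5, 10, 19, 4, 7, 18, 23],
   [0, 1, 2, 3, 19, 14, 12, 8, 22, 10, 15, 4, 16, 21, 17, 9, 6, 5, 13, 11, 20, 18, 7, 23],
   [0, 1, 2, 3, 8, 14, 7, 19, 9, 4, 16, 10, 15, 18, 17, 22, 11, 5, 20, 6, 13, 21, 12, 23],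
   [0, 1, 2, 3, 13, 14, 9, 20, 7, 11, 18, 6, 21, 16, 17, 12, 4, 5, 19, 10, 8, 15, 22, 23]]

theorem cert7_ok : rigidCert 8388671 [] cert7 = true := by decide +kernel

theorem lev5_ok : transOK [] ALL 0 lev5 = true := by decide +kernel

/-- `M24` is 5-transitive: any five distinct points are the images of the points of indices 23, 0, 1, 2, 3. -/
theorem m24_five_trans (ys : List GolayPt) (hlen : ys.length = 5) (hnd : ys.Nodup) :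
    ∃ u ∈ M24, ys = [u (pt 23), u (pt 0), u (pt 1), u (pt 2), u (pt 3)] := by
  obtain ⟨u, hu, -, -, -, h⟩ := multi_trans [] ALL lev5 0 lev5_ok ys (by rw [hlen]; rfl) hnd
    (fun y _ => ⟨testBit_ALL_idx y, Nat.zero_testBit _⟩)
  exact ⟨u, hu, h⟩

/-- An element of `M24` fixing the points of indices 23, 0, 1, 2, 3, 5, 4 is the identity. -/
theorem m24_rigid7 {g : Equiv.Perm GolayPt} (hg : g ∈ M24) (h : FixOn g 8388671) : g = 1 :=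
  rigid_sound hg h (fun _ hI => absurd hI (List.not_mem_nil)) cert7_ok

theorem wTabs_ok : wTabs.all (fun T => tabOK 8388623 [] T && (List.range 24).any (fun i => T.getD i 0 != i)) = true
    ∧ (List.range 24).all (fun i => (8388623 : Nat).testBit i || wTabs.any (fun T => T.getD i 0 == i)) = true := by
  decide +kernel

theorem wTabs_spec {T : List Nat} (hT : T ∈ wTabs) :
    ∃ w ∈ M24, w ≠ 1 ∧ FixOn w 8388623 ∧ ∀ y, T.getD (idx y) 0 = idx y → w y = y := by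
  have h1 := wTabs_ok.1
  rw [List.all_eq_true] at h1
  have hok := h1 _ hT
  rw [Bool.and_eq_true, List.any_eq_true] at hok
  obtain ⟨hok1, i, hi, hne⟩ := hok
  obtain ⟨h24, hfix, -⟩ := tabOK_spec hok1
  refine ⟨_, h24, ?_, hfix, ?_⟩
  · intro e
    have := congrArg (fun f : Equiv.Perm GolayPt => idx (f (pt i))) e
    simp only [permT_apply, Equiv.Perm.one_apply] at this
    rw [idx_tabFun (tabOK_valid hok1), idx_pt (List.mem_range.1 hi)] at this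
    rw [bne_iff_ne] at hne
    exact hne this
  · intro y hy
    rw [permT_apply, tabFun, hy, pt_idx]

/-- For every point `y` some non-identity element of `M24` fixes the points of indices 23, 0, 1, 2, 3
and `y`. -/
theorem m24_six_stab (y : GolayPt) :
    ∃ w ∈ M24, w ≠ 1 ∧ FixOn w 8388623 ∧ w y = y := by
  by_cases hy : (8388623 : Nat).testBit (idx y) = true
  · obtain ⟨T, hT⟩ : ∃ T, T ∈ wTabs := ⟨_, List.mem_cons_self⟩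
    obtain ⟨w, hw, hne, hfix, -⟩ := wTabs_spec hT
    exact ⟨w, hw, hne, hfix, hfix y hy⟩
  · have h2 := wTabs_ok.2
    rw [List.all_eq_true] at h2
    have := h2 (idx y) (List.mem_range.2 (idx_lt y))
    rw [Bool.or_eq_true, List.any_eq_true] at this
    rcases this with h | ⟨T, hT, hTy⟩
    · exact absurd h hy
    · obtain ⟨w, hw, hne, hfix, hwy⟩ := wTabs_spec hT
      exact ⟨w, hw, hne, hfix, hwy y (beq_iff_eq.1 hTy)⟩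

end Cfsg.Agent.Helper91
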