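/-
Helper91: transport of configurations by elements of `M24`; `M24` is transitive on the octads, and the
stabilizer of an octad is transitive on the octads meeting it in a given number of points.
-/
import Cfsg.Agent.Helper91.OctData

set_option autoImplicit false

namespace Cfsg.Agent.Helper91

open Cfsg
open scoped Pointwise

/-! ## Transport -/

theorem smul_mem_octads {u : Equiv.Perm GolayPt} (hu : u ∈ M24) {s : Finset GolayPt}
    (hs : s ∈ octads) : u • s ∈ octads :=
  ⟨smul_mem_supports hu hs.1, by rw [Finset.card_smul_finset]; exact hs.2⟩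

theorem smul_mem_dodecads {u : Equiv.Perm GolayPt} (hu : u ∈ M24) {s : Finset GolayPt}
    (hs : s ∈ dodecads) : u • s ∈ dodecads :=
  ⟨smul_mem_supports hu hs.1, by rw [Finset.card_smul_finset]; exact hs.2⟩

theorem smul_mem_octads_iff {u : Equiv.Perm GolayPt} (hu : u ∈ M24) {s : Finset GolayPt} :
    u • s ∈ octads ↔ s ∈ octads :=
  ⟨fun h => by simpa using smul_mem_octads (inv_mem hu) h, smul_mem_octads hu⟩

theorem smul_mem_dodecads_iff {u : Equiv.Perm GolayPt} (hu : u ∈ M24) {s : Finset GolayPt} :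
    u • s ∈ dodecads ↔ s ∈ dodecads :=
  ⟨fun h => by simpa using smul_mem_dodecads (inv_mem hu) h, smul_mem_dodecads hu⟩

theorem card_smul_inter (u : Equiv.Perm GolayPt) (a b : Finset GolayPt) :
    (u • a ∩ u • b).card = (a ∩ b).card := by
  rw [← Finset.smul_finset_inter, Finset.card_smul_finset]

theorem card_inter_inv_smul (u : Equiv.Perm GolayPt) (a b : Finset GolayPt) :
    (a ∩ u⁻¹ • b).card = (u • a ∩ b).card := by
  rw [← card_smul_inter u a (u⁻¹ • b), smul_inv_smul]

theorem card_inter_setM {I : Nat} (hI : I < 2 ^ 24) (s : Finset GolayPt) :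
    (setM I ∩ s).card = Helper26.pc24 (Nat.land I (Helper26.enc s)) := by
  rw [Helper26.card_eq_pc24, Helper26.enc_inter, enc_setM hI]; rfl

/-- Conjugation: the conjugate of `g` by `u` moves `u • a` as `g` moves `a`. -/
theorem conj_smul {α : Type*} [MulAction (Equiv.Perm GolayPt) α] (u g : Equiv.Perm GolayPt) (a : α) :
    (u * g * u⁻¹) • (u • a) = u • (g • a) := by
  rw [mul_smul, mul_smul, inv_smul_smul]

theorem conj_apply (u g : Equiv.Perm GolayPt) (p : GolayPt) : (u * g * u⁻¹) (u p) = u (g p) := by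
  simp

/-! ## Octads -/

theorem oct0_lt : oct0 < 2 ^ 24 := by decide

theorem setM_oct0_mem : setM oct0 ∈ octads := by
  rw [Helper26.mem_octads_iff, enc_setM oct0_lt, Helper26.card_eq_pc24, enc_setM oct0_lt]
  decide +kernel

/-- `M24` is transitive on the octads. -/
theorem exists_m24_smul_octad {o o' : Finset GolayPt} (ho : o ∈ octads) (ho' : o' ∈ octads) :
    ∃ u ∈ M24, u • o = o' := by
  obtain ⟨g, hg, e⟩ := trans_of_certs m24OctGens_ok m24OctCerts_ok m24Oct_cover ho.1 ho'.1
    ((Helper26.mem_octL_iff o).2 ho) ((Helper26.mem_octL_iff o').2 ho') rfl rfl rfl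
  exact ⟨g, hg.1, e⟩

theorem exists_m24_oct0 {o : Finset GolayPt} (ho : o ∈ octads) : ∃ u ∈ M24, u • setM oct0 = o :=
  exists_m24_smul_octad setM_oct0_mem ho

theorem mem_stabSub_zero_single {I : Nat} {g : Equiv.Perm GolayPt} :
    g ∈ stabSub 0 [I] ↔ g ∈ M24 ∧ g • setM I = setM I := by
  rw [mem_stabSub, smul_setM_eq_iff]
  constructor
  · rintro ⟨h1, -, h3⟩
    exact ⟨h1, h3 I (List.mem_singleton.2 rfl)⟩
  · rintro ⟨h1, h2⟩
    refine ⟨h1, fun p hp => by rw [Nat.zero_testBit] at hp; exact Bool.noConfusion hp, ?_⟩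
    intro J hJ
    rw [List.mem_singleton] at hJ
    subst hJ; exact h2

/-- The stabilizer of the octad `oct0` is transitive on the octads meeting it in a given number of points. -/
theorem octStab_trans {s s' : Finset GolayPt} (hs : s ∈ octads) (hs' : s' ∈ octads)
    (h : (setM oct0 ∩ s).card = (setM oct0 ∩ s').card) :
    ∃ g ∈ M24, g • setM oct0 = setM oct0 ∧ g • s = s' := by
  obtain ⟨g, hg, e⟩ := trans_of_certs octStabGens_ok octStabCerts_ok octStab_cover hs.1 hs'.1
    ((Helper26.mem_octL_iff s).2 hs) ((Helper26.mem_octL_iff s').2 hs') rfl rfl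
    (by
      show Helper26.pc24 (Nat.land oct0 (Helper26.enc s)) = Helper26.pc24 (Nat.land oct0 (Helper26.enc s'))
      rw [← card_inter_setM oct0_lt, ← card_inter_setM oct0_lt, h])
  rw [mem_stabSub_zero_single] at hg
  exact ⟨g, hg.1, hg.2, e⟩

end Cfsg.Agent.Helper91
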