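/-
Helper91: generic lemmas for statements about configurations of points, octads and dodecads: counting by
masks, transport of cardinalities along elements of `M24`.
-/
import Cfsg.Agent.Helper91.OctTrans

set_option autoImplicit false

namespace Cfsg.Agent.Helper91

open Cfsg
open scoped Pointwise

theorem pt_eq26 (i : Nat) : pt i = Helper26.pt i := rfl

/-- Membership of the point of index `i` as a bit test. -/
theorem pt_mem_iff_testBit {i : Nat} (hi : i < 24) (s : Finset GolayPt) :
    pt i ∈ s ↔ (Helper26.enc s).testBit i = true := by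
  rw [Helper26.testBit_enc, ← pt_eq26]
  simp [hi]

theorem pt_not_mem_iff_testBit {i : Nat} (hi : i < 24) (s : Finset GolayPt) :
    pt i ∉ s ↔ (!(Helper26.enc s).testBit i) = true := by
  rw [pt_mem_iff_testBit hi]; simp

/-- Counting octads by a Boolean test on masks. -/
theorem ncard_octads_filter (P : Finset GolayPt → Prop) (Pb : Nat → Bool)
    (h : ∀ s, P s ↔ Pb (Helper26.enc s) = true) :
    {s | s ∈ octads ∧ P s}.ncard = Helper26.countL Pb Helper26.octL := by
  rw [← Helper26.card_filter_octF, ← Set.ncard_coe_finset]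
  congr 1
  ext s
  simp only [Set.mem_ofPred_eq, Finset.coe_filter, Helper26.mem_octF, h]

/-- Counting dodecads by a Boolean test on masks. -/
theorem ncard_dodecads_filter (P : Finset GolayPt → Prop) (Pb : Nat → Bool)
    (h : ∀ s, P s ↔ Pb (Helper26.enc s) = true) :
    {s | s ∈ dodecads ∧ P s}.ncard = Helper26.countL Pb Helper26.dodL := by
  rw [← Helper26.card_filter_dodF, ← Set.ncard_coe_finset]
  congr 1
  ext s
  simp only [Set.mem_ofPred_eq, Finset.coe_filter, Helper26.mem_dodF, h]

/-- Transport of a cardinality along the action of a group element. -/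
theorem ncard_smul_set {α : Type*} [MulAction (Equiv.Perm GolayPt) α] (u : Equiv.Perm GolayPt)
    (P Q : α → Prop) (h : ∀ s, P (u • s) ↔ Q s) : {s | P s}.ncard = {s | Q s}.ncard := by
  have e : {s | P s} = (fun s => u • s) '' {s | Q s} := by
    ext s
    simp only [Set.mem_ofPred_eq, Set.mem_image]
    constructor
    · intro hs
      exact ⟨u⁻¹ • s, (h _).1 (by rwa [smul_inv_smul]), smul_inv_smul u s⟩
    · rintro ⟨t, ht, rfl⟩
      exact (h t).2 ht
  rw [e, Set.ncard_image_of_injective _ (MulAction.injective u)]

theorem mem_smul_setM_iff (u : Equiv.Perm GolayPt) (x : GolayPt) (m : Nat) :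
    x ∈ u • setM m ↔ m.testBit (idx (u⁻¹ x)) = true := by
  rw [← Finset.inv_smul_mem_iff, mem_setM]; rfl

theorem not_mem_setM_iff (m : Nat) (p : GolayPt) :
    p ∉ setM m ↔ (ALL ^^^ m).testBit (idx p) = true := by
  rw [mem_setM, Nat.testBit_xor, testBit_ALL_idx]
  cases m.testBit (idx p) <;> simp

theorem Inv_compl_iff (g : GolayPt → GolayPt) (m : Nat) : Inv g (ALL ^^^ m) ↔ Inv g m := by
  constructor
  · intro h p
    have := h p
    rw [Nat.testBit_xor, Nat.testBit_xor, testBit_ALL_idx, testBit_ALL_idx] at this
    simpa using this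
  · intro h
    exact (Inv_ALL g).xor h

end Cfsg.Agent.Helper91
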