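import Mathlib
import Cfsg.Agent.Helper22.BG10b
import Cfsg.Agent.Helper23.Trans
import Cfsg.Agent.S1403

/-!
# CALL S1438 piece CX (helper91, doubling)
-/

set_option autoImplicit false

namespace Cfsg.Agent.Helper91

open Cfsg Subgroup

universe u

variable {G : Type u} [Group G] [Finite G]

/-- CX. Schur–Zassenhaus: `M_σ ∩ C(H)` is a normal Hall `σ(M)`-subgroup of `M ∩ C(H)`
(`Helper22.bg10_sigma_hall`: `M_σ` is a normal Hall `σ(M)`-subgroup of `M`), so it has a complement
`X` (Mathlib `Subgroup.exists_right_complement'_of_coprime` inside `↥(M ⊓ C(H))`), and `|X|` is the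
index, a `σ(M)'`-number. -/
theorem bg157_compl (hG : IsMinSimpleOddOrder G) {M : Subgroup G} (hM : IsCoatom M)
    (H : Subgroup G) :
    ∃ X : Subgroup G, X ≤ M ⊓ centralizer (H : Set G) ∧
      M ⊓ centralizer (H : Set G) = (sigmaCore M ⊓ centralizer (H : Set G)) ⊔ X ∧
      ∀ p : ℕ, p.Prime → p ∣ Nat.card X → p ∉ sigma M := by
  have hU : Cfsg.Agent.Helper22.BGUniq G :=
    fun K hK h1 h2 => Cfsg.Agent.S1403.result hG K hK h1 h2
  obtain ⟨hhall, -, -⟩ := Cfsg.Agent.Helper22.bg10_sigma_hall hG hU hM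
  have hSM : sigmaCore M ≤ M := hhall.1
  have hSn : M ≤ normalizer (sigmaCore M : Set G) :=
    Cfsg.Agent.Helper23.le_normalizer_piCoreOf (sigma M) M
  obtain ⟨C, hC⟩ : ∃ C : Subgroup G, C = M ⊓ centralizer (H : Set G) := ⟨_, rfl⟩
  obtain ⟨N, hN⟩ : ∃ N : Subgroup G, N = sigmaCore M ⊓ centralizer (H : Set G) := ⟨_, rfl⟩
  have hCM : C ≤ M := by rw [hC]; exact inf_le_left
  have hNC : N ≤ C := by
    rw [hN, hC]
    exact inf_le_inf_right _ hSM
  have hNeq : N = sigmaCore M ⊓ C := by
    rw [hN, hC, ← inf_assoc, inf_of_le_left hSM]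
  -- the index of `N` in `C` divides the index of `M_σ` in `M`
  have hidx : N.relIndex C ∣ (sigmaCore M).relIndex M := by
    rw [hNeq, Subgroup.inf_relIndex_right, ← Subgroup.relIndex_subgroupOf hCM]
    haveI : ((sigmaCore M).subgroupOf M).Normal := Subgroup.normal_subgroupOf_of_le_normalizer hSn
    exact Subgroup.relIndex_dvd_index_of_normal _ _
  have hprime : ∀ p : ℕ, p.Prime → p ∣ N.relIndex C → p ∉ sigma M := by
    intro p hp hdvd hpσ
    exact hhall.2.2 p hp hpσ (hdvd.trans hidx)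
  have hCn : C ≤ normalizer (N : Set G) := by
    intro c hc
    have hcM : c ∈ M := hCM hc
    have hcZ : c ∈ centralizer (H : Set G) := by
      rw [hC] at hc
      exact (Subgroup.mem_inf.1 hc).2
    rw [mem_normalizer_iff]
    intro n
    rw [hN, Subgroup.mem_inf, Subgroup.mem_inf]
    rw [← mem_normalizer_iff.1 (hSn hcM) n, ← mem_normalizer_iff.1 (le_normalizer hcZ) n]
  haveI hNn : (N.subgroupOf C).Normal := Subgroup.normal_subgroupOf_of_le_normalizer hCn
  have hcop : (Nat.card (N.subgroupOf C)).Coprime (N.subgroupOf C).index := by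
    rw [Nat.card_congr (Subgroup.subgroupOfEquivOfLe hNC).toEquiv]
    by_contra hcon
    obtain ⟨p, hp, h1, h2⟩ := Nat.Prime.not_coprime_iff_dvd.1 hcon
    have hpσ : p ∈ sigma M := by
      apply hhall.2.1 p hp
      exact h1.trans (Subgroup.card_dvd_of_le (by rw [hN]; exact inf_le_left))
    exact hprime p hp h2 hpσ
  obtain ⟨H', hH'⟩ := Subgroup.exists_right_complement'_of_coprime hcop
  refine ⟨H'.map C.subtype, ?_, ?_, ?_⟩
  · rw [← hC]
    exact Subgroup.map_subtype_le H'
  · rw [← hC, ← hN]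
    apply le_antisymm
    · intro l hl
      obtain ⟨⟨r, h⟩, hrh⟩ := hH'.2 ⟨l, hl⟩
      have e : ((r : C) : G) * ((h : C) : G) = l := congrArg Subtype.val hrh
      rw [← e]
      exact Subgroup.mul_mem_sup (Subgroup.mem_subgroupOf.mp r.2) (Subgroup.mem_map_of_mem _ h.2)
    · exact sup_le hNC (Subgroup.map_subtype_le H')
  · intro p hp hdvd
    apply hprime p hp
    rw [Subgroup.card_map_of_injective C.subtype_injective, ← hH'.symm.index_eq_card] at hdvd
    exact hdvd

end Cfsg.Agent.Helper91
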