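import Cfsg.Agent.Helper22.Transitivity
import Cfsg.Agent.Helper23.FittingHall
import Cfsg.Agent.Helper1.BG15C1
import Cfsg.Agent.Helper68.BG14R30
import Cfsg.Agent.S1365

/-!
# CALL BG17 piece WC (helper91, doubling)
-/

set_option autoImplicit false

namespace Cfsg.Agent.Helper91

open Cfsg Subgroup

universe u

variable {G : Type u} [Group G] [Finite G]

/-- WC. `K` is a complement of `M' = U M_σ` (S1365) in `M`.
(`M = U (K M_σ)`; `M' ∩ K = 1` by orders: `K` is a Hall subgroup, `|M'| = |U| |M_σ|`;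
see `Helper68.bg14r_U_hall`.) -/
theorem bg17_W1_compl (hG : IsMinSimpleOddOrder G) {M K U : Subgroup G} (hM : IsCoatom M)
    (hKU : IsSigmaDecomposition M K U) (hK1 : K ≠ ⊥) : IsComplIn ⁅M, M⁆ K M := by
  have hD := (Cfsg.Agent.S1365.result hG M hM K U hKU hK1).1
  have hσD : sigmaCore M ≤ ⁅M, M⁆ := Helper1.bg15_sigma_le_comm hG M hM
  have hUD : U ≤ ⁅M, M⁆ := by
    rw [hD]
    exact le_sup_left
  have hDM : ⁅M, M⁆ ≤ M :=
    Subgroup.commutator_le.mpr (fun a ha b hb => by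
      rw [commutatorElement_def]
      exact M.mul_mem (M.mul_mem (M.mul_mem ha hb) (M.inv_mem ha)) (M.inv_mem hb))
  have hKM : K ≤ M := hKU.hall.1
  have hUhall := Helper68.bg14r_U_hall hG hM hKU
  have hcU : (Nat.card U).Coprime (Nat.card K) := by
    apply Nat.coprime_of_dvd
    intro q hq hqU hqK
    exact (hUhall.2.1 q hq hqU).2.1 (hKU.hall.2.1 q hq hqK)
  have hcS : (Nat.card (sigmaCore M)).Coprime (Nat.card K) := by
    apply Nat.coprime_of_dvd
    intro q hq hqS hqK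
    exact (hKU.hall.2.1 q hq hqK).2.2.1 (Helper23.mem_of_dvd_card_piCoreOf (sigma M) M hq hqS)
  have hMn : M ≤ normalizer (sigmaCore M : Set G) := Helper23.le_normalizer_piCoreOf (sigma M) M
  have hUn : U ≤ normalizer (sigmaCore M : Set G) := hKU.compl.1.trans hMn
  have hcard := Helper22.card_sup_dvd_of_le_normalizer hUn
  have hcD : (Nat.card (⁅M, M⁆ : Subgroup G)).Coprime (Nat.card K) := by
    rw [hD]
    exact Nat.Coprime.coprime_dvd_left hcard (Nat.Coprime.mul_left hcU hcS)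
  have hDK : ⁅M, M⁆ ⊓ K = ⊥ := Subgroup.inf_eq_bot_of_coprime hcD
  refine ⟨hDM, hKM, hDK, ?_⟩
  intro m hm
  obtain ⟨u, hu, c, hc, rfl⟩ := hKU.compl.2.2.2 m hm
  obtain ⟨k, hk, s, hs, rfl⟩ := Helper22.exists_mul_of_mem_sup' (hKM.trans hMn) hc
  refine ⟨u * (k * s * k⁻¹), ?_, k, hk, by group⟩
  refine Subgroup.mul_mem _ (hUD hu) (hσD ?_)
  exact (Subgroup.mem_normalizer_iff.mp (hMn (hKM hk)) s).mp hs

end Cfsg.Agent.Helper91
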