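import Cfsg.Agent.Helper68.BG63Defs
import Cfsg.Agent.Helper23.BGPMain

/-!
# CALL S1363 piece REG (helper91)
-/

set_option autoImplicit false

namespace Cfsg.Agent.Helper91

open Cfsg Subgroup

universe u

variable {G : Type u} [Group G] [Finite G]

/-- REG. `K` acts regularly on `U`. -/
theorem bg63_reg (hG : IsMinSimpleOddOrder G) {M K U : Subgroup G} (hM : IsCoatom M)
    (hKU : IsSigmaDecomposition M K U) (hK1 : K ≠ ⊥) :
    ∀ k ∈ K, k ≠ 1 → ∀ a ∈ U, k * a = a * k → a = 1 := by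
  intro k hk hk1 a ha hka
  have hpkg := (Cfsg.Agent.Helper23.bg14_pkg hG hM hKU hK1).2.2.2.2.1 k hk hk1
  have h1 : a ∈ M ⊓ centralizer ({k} : Set G) := by
    refine Subgroup.mem_inf.2 ⟨hKU.compl.1 ha, ?_⟩
    rw [Subgroup.mem_centralizer_iff]
    intro h hh
    rw [Set.mem_singleton_iff] at hh
    rw [hh]
    exact hka
  rw [hpkg] at h1
  have h2 : a ∈ K ⊔ sigmaCore M := (sup_le_sup_left inf_le_left K) h1
  have h3 : a ∈ U ⊓ (K ⊔ sigmaCore M) := Subgroup.mem_inf.2 ⟨ha, h2⟩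
  rw [hKU.compl.2.2.1] at h3
  exact Subgroup.mem_bot.1 h3

end Cfsg.Agent.Helper91
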