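import Cfsg.Agent.Helper23.BG65Defs
import Cfsg.Agent.S1367
import Cfsg.Agent.S1368
import Cfsg.Agent.S1432

/-!
# CALL S1435 piece FIX (helper91, doubling)
-/

set_option autoImplicit false

namespace Cfsg.Agent.Helper91

open Cfsg Subgroup Cfsg.Agent.Helper23

universe u

variable {G : Type u} [Group G] [Finite G] {M K U Mstar H : Subgroup G}

/-- FIX. An element `a` of order `r ∉ σ(M*)` centralizing `k ∈ K#` cannot commute with an
element `x ∈ U` of order `r`: `a ∈ C_G(K) ≤ M*` (S1367 (2), `|K|` prime by S1372); by S1432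
for `(M*, k, a)` either `r ∈ κ(M*)`, so `r ∣ |K*|` and `r ∈ σ(M)` (impossible, `r ∣ |U|`,
`Helper68.bg14r_U_hall`), or `C_G(a) ≤ M*`, so `x ∈ M ∩ M* = K K*` (S1368), `x ∈ U ∩ K M_σ = 1`. -/
theorem bg65_fix_false (c : BG65Ctx M K U Mstar) {r : ℕ} (hr : r.Prime) (hrσ : r ∉ sigma Mstar)
    {k a x : G} (hk : k ∈ K) (hk1 : k ≠ 1) (ha : orderOf a = r) (hka : k * a = a * k)
    (hxU : x ∈ U) (hxr : orderOf x = r) (hax : a * x = x * a) : False := by
  obtain ⟨hG, hM, hKU, hK1, hU1, hMstar, hKst, hKstH⟩ := c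
  haveI : IsSimpleGroup G := hG.2.1
  have hKp : (Nat.card K).Prime := (Cfsg.Agent.S1372.result hG M hM K U hKU hK1 hU1).1
  -- `a` centralizes `K`
  have hKz : ∀ y ∈ K, y * a = a * y := by
    intro y hy
    haveI := Fact.mk hKp
    have hmem : (⟨y, hy⟩ : K) ∈ Subgroup.zpowers (⟨k, hk⟩ : K) :=
      mem_zpowers_of_prime_card rfl (fun h => hk1 (by simpa using congrArg Subtype.val h))
    obtain ⟨n, hn⟩ := Subgroup.mem_zpowers_iff.mp hmem
    have hy' : y = k ^ n := by
      have := congrArg Subtype.val hn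
      simpa using this.symm
    rw [hy']
    exact ((Commute.zpow_left (show Commute k a from hka) n)).eq
  have haC : a ∈ centralizer (K : Set G) := by
    rw [Subgroup.mem_centralizer_iff]
    intro y hy
    exact hKz y hy
  have hCK :=
    ((Cfsg.Agent.S1367.result hG M hM K U hKU hK1 Mstar hMstar hKst hKstH).2 K le_rfl hKp).1
  have haMs : a ∈ Mstar := hCK haC
  have hkσ : k ∈ sigmaCore Mstar := (hKst.le.trans inf_le_left) hk
  have ha1 : a ≠ 1 := by
    intro h
    rw [h, orderOf_one] at ha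
    exact hr.one_lt.ne ha
  have haC' : a ∈ Mstar ⊓ centralizer ({k} : Set G) := by
    refine Subgroup.mem_inf.2 ⟨haMs, ?_⟩
    rw [Subgroup.mem_centralizer_iff]
    intro y hy
    rw [Set.mem_singleton_iff] at hy
    rw [hy]
    exact hka
  have hσ' : ∀ p : ℕ, p.Prime → p ∣ orderOf a → p ∉ sigma Mstar := by
    intro p hp hpa
    rw [ha] at hpa
    rw [(Nat.prime_dvd_prime_iff_eq hp hr).mp hpa]
    exact hrσ
  have hxM : x ∈ M := hKU.compl.1 hxU
  have hx1 : x ≠ 1 := by
    intro h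
    rw [h, orderOf_one] at hxr
    exact hr.one_lt.ne hxr
  rcases Cfsg.Agent.S1432.result hG Mstar hMstar k hkσ hk1 a haC' ha1 hσ' with
    ⟨hκ, -⟩ | ⟨-, -, hCa, -⟩
  · -- `r ∈ κ(M*)`
    have hrκ : r ∈ kappa Mstar := hκ r hr (by rw [ha])
    have hrMs : r ∣ Nat.card Mstar := by
      rw [← ha]
      exact Subgroup.orderOf_dvd_natCard Mstar haMs
    have hrKs : r ∣ Nat.card (sigmaCore M ⊓ centralizer (K : Set G) : Subgroup G) := by
      have h2 := Subgroup.relIndex_mul_relIndex ⊥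
        (sigmaCore M ⊓ centralizer (K : Set G) : Subgroup G) Mstar bot_le hKstH.1
      rw [Subgroup.relIndex_bot_left, Subgroup.relIndex_bot_left] at h2
      rw [← h2] at hrMs
      rcases (Nat.Prime.dvd_mul hr).mp hrMs with h | h
      · exact h
      · exact absurd h (hKstH.2.2 r hr hrκ)
    have hrσM : r ∈ sigma M :=
      Helper23.mem_of_dvd_card_piCoreOf (sigma M) M hr
        (hrKs.trans (Subgroup.card_dvd_of_le inf_le_left))
    have hrU : r ∣ Nat.card U := by
      rw [← hxr]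
      exact Subgroup.orderOf_dvd_natCard U hxU
    exact ((Helper68.bg14r_U_hall hG hM hKU).2.1 r hr hrU).2.2 hrσM
  · -- `C_G(a) ≤ M*`
    have hxMs : x ∈ Mstar := by
      apply hCa
      rw [Subgroup.mem_centralizer_iff]
      intro y hy
      rw [Set.mem_singleton_iff] at hy
      rw [hy]
      exact hax
    have hxI : x ∈ M ⊓ Mstar := Subgroup.mem_inf.2 ⟨hxM, hxMs⟩
    rw [(Cfsg.Agent.S1368.result hG M hM K U hKU hK1 Mstar hMstar hKst hKstH).1] at hxI
    have hle : K ⊔ (sigmaCore M ⊓ centralizer (K : Set G)) ≤ K ⊔ sigmaCore M :=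
      sup_le_sup_left inf_le_left K
    have hxb : x ∈ U ⊓ (K ⊔ sigmaCore M) := Subgroup.mem_inf.2 ⟨hxU, hle hxI⟩
    rw [hKU.compl.2.2.1] at hxb
    exact hx1 (Subgroup.mem_bot.mp hxb)

end Cfsg.Agent.Helper91
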