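import Mathlib

/-!
# CALL BGC piece CN (helper91): the number of conjugates of a self-normalizing subgroup
-/

set_option autoImplicit false

namespace Cfsg.Agent.Helper91

open Subgroup

universe u

variable {G : Type u} [Group G] [Finite G]

private theorem bgccn_mem_conj (M : Subgroup G) (g x : G) :
    x ∈ M.map (MulAut.conj g).toMonoidHom ↔ g⁻¹ * x * g ∈ M := by
  rw [Subgroup.mem_map_equiv, MulAut.conj_symm_apply]

/-- CN (PURE). The number of conjugates of a self-normalizing subgroup is its index. -/
theorem bgc_card_conj {M : Subgroup G} (hn : normalizer (M : Set G) = M) :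
    Set.ncard {C : Subgroup G | ∃ g : G, C = M.map (MulAut.conj g).toMonoidHom} = M.index := by
  classical
  have hwd : ∀ a b : G, a⁻¹ * b ∈ M →
      M.map (MulAut.conj a).toMonoidHom = M.map (MulAut.conj b).toMonoidHom := by
    intro a b hab
    ext x
    rw [bgccn_mem_conj, bgccn_mem_conj]
    have e1 : b⁻¹ * x * b = (a⁻¹ * b)⁻¹ * (a⁻¹ * x * a) * (a⁻¹ * b) := by group
    rw [e1]
    constructor
    · intro h
      exact M.mul_mem (M.mul_mem (M.inv_mem hab) h) hab
    · intro h
      have := M.mul_mem (M.mul_mem hab h) (M.inv_mem hab)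
      have e2 : (a⁻¹ * b) * ((a⁻¹ * b)⁻¹ * (a⁻¹ * x * a) * (a⁻¹ * b)) * (a⁻¹ * b)⁻¹ =
          a⁻¹ * x * a := by group
      rwa [e2] at this
  let f : G ⧸ M → Subgroup G :=
    Quotient.lift (fun g : G => M.map (MulAut.conj g).toMonoidHom)
      (fun a b hab => hwd a b (QuotientGroup.leftRel_apply.1 hab))
  have hf : ∀ g : G, f (QuotientGroup.mk g) = M.map (MulAut.conj g).toMonoidHom := fun g => rfl
  have hinj : Function.Injective f := by
    intro q1 q2
    induction q1 using QuotientGroup.induction_on with
    | H a =>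
      induction q2 using QuotientGroup.induction_on with
      | H b =>
        intro h
        rw [hf, hf] at h
        apply QuotientGroup.eq.2
        rw [← hn]
        rw [Subgroup.mem_set_normalizer_iff]
        intro y
        have h1 : (b * y * b⁻¹ ∈ M.map (MulAut.conj a).toMonoidHom) ↔
            (b * y * b⁻¹ ∈ M.map (MulAut.conj b).toMonoidHom) := by rw [h]
        rw [bgccn_mem_conj, bgccn_mem_conj] at h1
        have e1 : a⁻¹ * (b * y * b⁻¹) * a = a⁻¹ * b * y * (a⁻¹ * b)⁻¹ := by group
        have e2 : b⁻¹ * (b * y * b⁻¹) * b = y := by group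
        rw [e1, e2] at h1
        exact h1.symm
  have hset : {C : Subgroup G | ∃ g : G, C = M.map (MulAut.conj g).toMonoidHom} =
      Set.range f := by
    ext C
    simp only [Set.mem_setOf_eq, Set.mem_range]
    constructor
    · rintro ⟨g, hg⟩
      exact ⟨QuotientGroup.mk g, by rw [hf, hg]⟩
    · rintro ⟨q, hq⟩
      induction q using QuotientGroup.induction_on with
      | H g => exact ⟨g, by rw [← hq, hf]⟩
  rw [hset, Set.ncard_range_of_injective hinj]
  rfl

end Cfsg.Agent.Helper91
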