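import Cfsg.Agent.Helper1.BGSDefs

/-!
# CALL S1351D piece D3b (helper91)
-/

set_option autoImplicit false

namespace Cfsg.Agent.Helper91

open Cfsg Subgroup Cfsg.Agent.Helper1

universe u v

variable {G : Type u} [Group G]

/-- D3b: `starHat` is invariant under conjugation by `W`. -/
theorem bgs_hat_inv {ι : Type v} (M : ι → Subgroup G) (W : Subgroup G) {u a : G}
    (hu : u ∈ W) (ha : a ∈ starHat M W) : u * a * u⁻¹ ∈ starHat M W := by
  obtain ⟨haW, j, k, hjk, hp, hq⟩ := ha
  have hord : orderOf (u * a * u⁻¹) = orderOf a := by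
    have := orderOf_injective (MulAut.conj u).toMonoidHom (MulAut.conj u).injective a
    simpa using this
  refine ⟨W.mul_mem (W.mul_mem hu haW) (W.inv_mem hu), j, k, hjk, ?_, ?_⟩
  · rw [hord]; exact hp
  · rw [hord]; exact hq

end Cfsg.Agent.Helper91
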