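import Cfsg.Agent.Helper1.BGSDefs

/-!
# CALL S1351D piece D5 (helper91): the size of `starHat`
-/

set_option autoImplicit false

namespace Cfsg.Agent.Helper91

open Cfsg Subgroup Cfsg.Agent.Helper1

universe u v

variable {G : Type u} [Group G]

/-- D5: the size of `starHat`. -/
theorem bgs_card_hat [Finite G] (hG : IsMinSimpleOddOrder G) {ι : Type v} [Fintype ι]
    {M : ι → Subgroup G} {W : Subgroup G} (h : StarFamily M W) (j k : ι) (hjk : j ≠ k) :
    Set.ncard (starHat M W) + 1 + ∑ i, (Nat.card ↥(sigmaCore (M i) ⊓ W) - 1) = Nat.card W := by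
  classical
  haveI := Fintype.ofFinite G
  have hU : Cfsg.Agent.Helper22.BGUniq G :=
    fun K hK h1 h2 => Cfsg.Agent.S1403.result hG K hK h1 h2
  -- `W ≤ M i`
  have hWM : ∀ i, W ≤ M i := by
    intro i
    by_cases hi : i = j
    · rw [hi, ← h.inf_eq j k hjk]; exact inf_le_left
    · rw [← h.inf_eq i j hi]; exact inf_le_left
  have hordW : ∀ w ∈ W, orderOf w ∣ Nat.card W := by
    intro w hw
    have := orderOf_dvd_natCard (⟨w, hw⟩ : W)
    rwa [Subgroup.orderOf_mk] at this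
  -- classification of the elements of `W`
  have hcls : ∀ w ∈ W, w ≠ 1 → w ∉ starHat M W → ∃ i, w ∈ sigmaCore (M i) := by
    intro w hw hw1 hnot
    have hord1 : orderOf w ≠ 1 := fun h => hw1 (orderOf_eq_one_iff.1 h)
    obtain ⟨p, hp, hpw⟩ := Nat.exists_prime_and_dvd hord1
    obtain ⟨i, hi⟩ := h.prime_mem p hp (hpw.trans (hordW w hw))
    refine ⟨i, ?_⟩
    have hall : ∀ q : ℕ, q.Prime → q ∣ orderOf w → q ∈ sigma (M i) := by
      intro q hq hqw
      obtain ⟨i', hi'⟩ := h.prime_mem q hq (hqw.trans (hordW w hw))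
      by_cases hii : i' = i
      · rw [← hii]; exact hi'
      · exact absurd ⟨hw, i, i', Ne.symm hii, ⟨p, hi, hpw⟩, ⟨q, hi', hqw⟩⟩ hnot
    obtain ⟨⟨hle, hpi, hidx⟩, -, -⟩ := Cfsg.Agent.Helper22.bg10_sigma_hall hG hU (h.coatom i)
    apply Cfsg.Agent.Helper31.bgc_mem_sigmaCore_of_order hG (h.coatom i) (hWM i hw)
    have hcard : Nat.card ↥(sigmaCore (M i)) * (sigmaCore (M i)).relIndex (M i) =
        Nat.card ↥(M i) := by
      have := Subgroup.relIndex_mul_relIndex (⊥ : Subgroup G) (sigmaCore (M i)) (M i) bot_le hle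
      rwa [Subgroup.relIndex_bot_left, Subgroup.relIndex_bot_left] at this
    have h1 : orderOf w ∣ Nat.card ↥(sigmaCore (M i)) * (sigmaCore (M i)).relIndex (M i) := by
      rw [hcard]
      have := orderOf_dvd_natCard (⟨w, hWM i hw⟩ : M i)
      rwa [Subgroup.orderOf_mk] at this
    have hcop : (orderOf w).Coprime ((sigmaCore (M i)).relIndex (M i)) := by
      apply Nat.coprime_of_dvd
      intro q hq hq1 hq2
      exact hidx q hq (hall q hq hq1) hq2
    exact hcop.dvd_of_dvd_mul_right h1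
  -- disjointness
  have hDD : ∀ i i', i ≠ i' → ∀ d, d ∈ sigmaCore (M i) → d ∈ sigmaCore (M i') → d = 1 := by
    intro i i' hii d hd hd'
    by_contra hd1
    have hord1 : orderOf d ≠ 1 := fun h => hd1 (orderOf_eq_one_iff.1 h)
    obtain ⟨q, hq, hqd⟩ := Nat.exists_prime_and_dvd hord1
    exact h.sigma_disj i i' hii q (Cfsg.Agent.Helper54.bg14t_mem_sigma_of_dvd hd hq hqd)
      (Cfsg.Agent.Helper54.bg14t_mem_sigma_of_dvd hd' hq hqd)
  have hDH : ∀ i, ∀ d, d ∈ sigmaCore (M i) → d ∉ starHat M W := by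
    rintro i d hd ⟨-, j', k', hjk', ⟨p, hp, hpd⟩, ⟨q, hq, hqd⟩⟩
    have hp' := Cfsg.Agent.Helper54.bg14t_mem_sigma_of_dvd hd hp.1 hpd
    have hq' := Cfsg.Agent.Helper54.bg14t_mem_sigma_of_dvd hd hq.1 hqd
    have e1 : j' = i := by
      by_contra hne
      exact h.sigma_disj j' i hne p hp hp'
    have e2 : k' = i := by
      by_contra hne
      exact h.sigma_disj k' i hne q hq hq'
    exact hjk' (e1.trans e2.symm)
  -- counting
  obtain ⟨Wf, hWf⟩ : ∃ Wf : Finset G, ∀ w, w ∈ Wf ↔ w ∈ W :=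
    ⟨(W : Set G).toFinset, fun w => by simp⟩
  have hkey : ∀ w ∈ Wf, (if w ∈ starHat M W then 1 else 0) + (if w = 1 then 1 else 0) +
      ∑ i, (if w ∈ sigmaCore (M i) ∧ w ≠ 1 then 1 else 0) = 1 := by
    intro w hw
    have hwW : w ∈ W := (hWf w).1 hw
    by_cases h1 : w = 1
    · have hnot : w ∉ starHat M W := hDH j w (by rw [h1]; exact one_mem _)
      simp [h1, hnot]
      intro hc
      rw [h1] at hnot
      exact hnot hc
    · by_cases hs : w ∈ starHat M W
      · have hno : ∀ i, ¬ (w ∈ sigmaCore (M i) ∧ w ≠ 1) := fun i hi => hDH i w hi.1 hs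
        rw [if_pos hs, if_neg h1, Finset.sum_congr rfl (fun i' _ => if_neg (hno i'))]
        simp
      · obtain ⟨i, hi⟩ := hcls w hwW h1 hs
        have hi2 : ∀ i', (if w ∈ sigmaCore (M i') ∧ w ≠ 1 then 1 else 0) =
            if i' = i then 1 else 0 := by
          intro i'
          by_cases hii : i' = i
          · rw [if_pos hii, if_pos ⟨hii ▸ hi, h1⟩]
          · have hn : w ∉ sigmaCore (M i') := fun hc => h1 (hDD i' i hii w hc hi)
            rw [if_neg hii, if_neg (fun hc => hn hc.1)]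
        rw [if_neg hs, if_neg h1, Finset.sum_congr rfl (fun i' _ => hi2 i'),
          Finset.sum_ite_eq' Finset.univ i (fun _ => 1)]
        simp
  have hcount : ∀ A : Set G, A ⊆ (W : Set G) →
      ∑ w ∈ Wf, (if w ∈ A then 1 else 0) = A.ncard := by
    intro A hA
    rw [Finset.sum_boole, Set.ncard_eq_toFinset_card' A]
    simp only [Nat.cast_id]
    congr 1
    ext w
    simp only [Finset.mem_filter, Set.mem_toFinset, hWf]
    exact ⟨fun hh => hh.2, fun hh => ⟨hA hh, hh⟩⟩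
  have hcardW : Nat.card W = Wf.card := by
    have h1 : Nat.card W = (W : Set G).ncard := rfl
    rw [h1, Set.ncard_eq_toFinset_card' (W : Set G)]
    congr 1
    ext w
    simp only [Set.mem_toFinset, hWf, SetLike.mem_coe]
  have hsum1 : ∑ w ∈ Wf, (1 : ℕ) = Wf.card := by simp
  have hstar : ∑ w ∈ Wf, (if w ∈ starHat M W then 1 else 0) = (starHat M W).ncard :=
    hcount _ (fun w hw => hw.1)
  have hone : ∑ w ∈ Wf, (if w = 1 then 1 else 0) = 1 := by
    rw [Finset.sum_ite_eq' Wf (1 : G) (fun _ => 1)]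
    rw [if_pos ((hWf 1).2 (one_mem W))]
  have hD : ∀ i, ∑ w ∈ Wf, (if w ∈ sigmaCore (M i) ∧ w ≠ 1 then 1 else 0) =
      Nat.card ↥(sigmaCore (M i) ⊓ W) - 1 := by
    intro i
    obtain ⟨A, hAdef⟩ : ∃ A : Set G,
        A = (((sigmaCore (M i) ⊓ W : Subgroup G) : Set G) \ {1}) := ⟨_, rfl⟩
    have hA : A ⊆ (W : Set G) := by
      rw [hAdef]; exact fun w hw => hw.1.2
    have h2 := hcount A hA
    have h3 : ∑ w ∈ Wf, (if w ∈ sigmaCore (M i) ∧ w ≠ 1 then 1 else 0) =
        ∑ w ∈ Wf, (if w ∈ A then 1 else 0) := by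
      apply Finset.sum_congr rfl
      intro w hw
      have hwW : w ∈ W := (hWf w).1 hw
      have hiff : (w ∈ sigmaCore (M i) ∧ w ≠ 1) ↔ w ∈ A := by
        rw [hAdef]
        constructor
        · rintro ⟨ha, hb⟩
          exact ⟨⟨ha, hwW⟩, fun hc => hb (Set.mem_singleton_iff.1 hc)⟩
        · rintro ⟨⟨ha, -⟩, hb⟩
          exact ⟨ha, fun hc => hb (Set.mem_singleton_iff.2 hc)⟩
      rw [if_congr hiff rfl rfl]
    rw [h3, h2, hAdef, Set.ncard_diff_singleton_of_mem (one_mem (sigmaCore (M i) ⊓ W))]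
    rfl
  calc Set.ncard (starHat M W) + 1 + ∑ i, (Nat.card ↥(sigmaCore (M i) ⊓ W) - 1)
      = ∑ w ∈ Wf, (if w ∈ starHat M W then 1 else 0) + ∑ w ∈ Wf, (if w = 1 then 1 else 0) +
          ∑ i, ∑ w ∈ Wf, (if w ∈ sigmaCore (M i) ∧ w ≠ 1 then 1 else 0) := by
        rw [hstar, hone, Finset.sum_congr rfl (fun i _ => hD i)]
    _ = ∑ w ∈ Wf, ((if w ∈ starHat M W then 1 else 0) + (if w = 1 then 1 else 0) +
          ∑ i, (if w ∈ sigmaCore (M i) ∧ w ≠ 1 then 1 else 0)) := by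
        rw [Finset.sum_comm, ← Finset.sum_add_distrib, ← Finset.sum_add_distrib]
    _ = ∑ w ∈ Wf, (1 : ℕ) := Finset.sum_congr rfl hkey
    _ = Nat.card W := by rw [hsum1, hcardW]

end Cfsg.Agent.Helper91
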