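import Cfsg.Agent.Helper1.BGSDefs

/-!
# CALL S1351D piece D6a (helper91)
-/

set_option autoImplicit false

namespace Cfsg.Agent.Helper91

open Cfsg Subgroup Cfsg.Agent.Helper1

universe u v

variable {G : Type u} [Group G]

/-- D6a: `1` is not in a tilde set. -/
theorem bgs_one_not_mem_tilde [Finite G] (hG : IsMinSimpleOddOrder G) {M : Subgroup G}
    (hM : IsCoatom M) : (1 : G) ∉ starTilde M := by
  rintro ⟨a, ⟨haM, ha1⟩, r, hr, y, hy⟩
  have ha1' : a ≠ 1 := fun h => ha1 (Set.mem_singleton_iff.2 h)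
  have haM' : a ∈ sigmaCore M := haM
  have har : a * r = 1 := by
    have h1 : y⁻¹ * (y * (a * r) * y⁻¹) * y = a * r := by group
    rw [← hy] at h1
    rw [← h1]; group
  have hcomm := Cfsg.Agent.Helper54.bg14t_supp_comm hG hM haM' ha1' hr
  have hcop := Cfsg.Agent.Helper54.bg14t_supp_coprime hG hM haM' ha1' hr
  have hmem := (Cfsg.Agent.Helper54.bg14t_mem_zpowers_mul hcomm hcop).1
  rw [har, Subgroup.zpowers_one_eq_bot, Subgroup.mem_bot] at hmem
  exact ha1' hmem

end Cfsg.Agent.Helper91
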