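/-
Helper91: the stabilizer of the octad `oct0` is 2-transitive on its points and transitive on the points
outside it; consequences for flags.
-/
import Cfsg.Agent.Helper91.OrbitLib

set_option autoImplicit false

namespace Cfsg.Agent.Helper91

open Cfsg
open scoped Pointwise

/-- The stabilizer of `oct0` is 2-transitive on its points (base points 0, 1). -/
def octInLv : List (Nat × List (List Nat)) := [
  (0,
   [[0, 1, 2, 3, 4, 5, 6, 7, 8, 9, 10, 11, 12, 13, 14, 15, 16, 17, 18, 19, 20, 21, 22, 23],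
    [1, 5, 14, 2, 8, 0, 22, 7, 15, 13, 19, 9, 12, 11, 3, 4, 10, 17, 18, 16, 6, 21, 20, 23],
    [2, 3, 14, 5, 13, 0, 9, 15, 11, 12, 18, 6, 19, 20, 17, 7, 10, 1, 8, 22, 21, 16, 4, 23],
    [3, 0, 2, 5, 19, 17, 20, 12, 7, 4, 21, 15, 11, 10, 14, 8, 18, 1, 13, 6, 9, 16, 22, 23],
    [5, 2, 17, 1, 8, 0, 22, 15, 9, 4, 20, 7, 18, 13, 3, 11, 10, 23, 16, 12, 19, 21, 6, 14],
    [14, 3, 5, 2, 16, 0, 18, 20, 10, 15, 8, 13, 21, 9, 23, 22, 11, 17, 12, 7, 6, 4, 19, 1],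
    [17, 5, 2, 1, 20, 0, 4, 15, 11, 6, 18, 7, 8, 16, 14, 12, 10, 3, 21, 9, 19, 13, 22, 23],
    [23, 14, 2, 1, 18, 0, 4, 16, 22, 9, 20, 7, 19, 15, 5, 12, 10, 3, 13, 6, 8, 21, 11, 17]]),
  (1,
   [[0, 1, 2, 3, 4, 5, 6, 7, 8, 9, 10, 11, 12, 13, 14, 15, 16, 17, 18, 19, 20, 21, 22, 23],
    [0, 2, 23, 1, 10, 14, 13, 20, 12, 16, 15, 22, 9, 6, 17, 18, 11, 3, 7, 8, 21, 19, 4, 5],
    [0, 3, 17, 5, 22, 1, 7, 12, 21, 4, 10, 11, 6, 20, 2, 15, 13, 14, 18, 8, 16, 19, 9, 23],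
    [0, 5, 14, 1, 9, 3, 12, 6, 19, 22, 10, 11, 7, 16, 17, 15, 20, 2, 18, 21, 13, 8, 4, 23],
    [0, 14, 23, 1, 16, 17, 4, 6, 9, 18, 15, 10, 11, 13, 5, 8, 19, 2, 12, 22, 20, 7, 21, 3],
    [0, 17, 5, 14, 18, 1, 11, 4, 22, 21, 15, 10, 6, 19, 2, 8, 20, 23, 12, 7, 13, 9, 16, 3],
    [0, 23, 5, 1, 16, 3, 7, 19, 13, 8, 12, 15, 10, 20, 17, 21, 9, 2, 22, 11, 6, 18, 4, 14]])]

/-- The stabilizer of `oct0` is transitive on the points outside it (base point 4). -/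
def octOutLv : List (Nat × List (List Nat)) := [
  (4,
   [[0, 1, 2, 3, 4, 5, 6, 7, 8, 9, 10, 11, 12, 13, 14, 15, 16, 17, 18, 19, 20, 21, 22, 23],
    [17, 0, 14, 5, 6, 1, 8, 4, 9, 22, 18, 7, 15, 10, 3, 12, 19, 2, 21, 13, 16, 11, 20, 23],
    [3, 1, 0, 17, 7, 23, 21, 6, 11, 9, 20, 10, 15, 22, 14, 12, 13, 2, 18, 16, 8, 4, 19, 5],
    [1, 5, 14, 2, 8, 0, 22, 7, 15, 13, 19, 9, 12, 11, 3, 4, 10, 17, 18, 16, 6, 21, 20, 23],
    [23, 3, 14, 2, 9, 0, 8, 16, 7, 11, 22, 19, 15, 20, 5, 18, 21, 17, 10, 12, 13, 4, 6, 1],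
    [3, 0, 23, 5, 10, 14, 19, 20, 22, 9, 7, 15, 21, 13, 2, 16, 8, 17, 12, 11, 18, 4, 6, 1],
    [17, 2, 3, 1, 11, 0, 4, 18, 22, 20, 7, 9, 19, 6, 23, 13, 15, 14, 8, 10, 12, 21, 16, 5],
    [14, 0, 3, 2, 12, 17, 11, 13, 9, 4, 8, 18, 22, 15, 23, 19, 7, 1, 21, 20, 10, 6, 16, 5],
    [3, 5, 17, 2, 13, 0, 9, 12, 18, 8, 20, 22, 7, 11, 1, 4, 10, 14, 15, 21, 6, 16, 19, 23],
    [23, 5, 2, 1, 15, 0, 4, 22, 13, 21, 19, 12, 11, 6, 17, 10, 7, 3, 16, 18, 9, 8, 20, 14],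
    [14, 3, 5, 2, 16, 0, 18, 20, 10, 15, 8, 13, 21, 9, 23, 22, 11, 17, 12, 7, 6, 4, 19, 1],
    [17, 14, 23, 0, 18, 3, 10, 16, 15, 19, 12, 20, 22, 8, 2, 21, 7, 5, 4, 9, 11, 13, 6, 1],
    [3, 0, 2, 5, 19, 17, 20, 12, 7, 4, 21, 15, 11, 10, 14, 8, 18, 1, 13, 6, 9, 16, 22, 23],
    [17, 5, 2, 1, 20, 0, 4, 15, 11, 6, 18, 7, 8, 16, 14, 12, 10, 3, 21, 9, 19, 13, 22, 23],
    [17, 1, 5, 2, 21, 0, 15, 19, 10, 18, 13, 8, 16, 22, 23, 9, 11, 14, 7, 12, 6, 4, 20, 3],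
    [1, 5, 23, 2, 22, 0, 8, 11, 12, 6, 19, 9, 15, 7, 17, 4, 21, 3, 18, 20, 13, 10, 16, 14]])]

/-- The stabilizer of `oct0` and of the point 0 is transitive on the points outside `oct0`. -/
def octInOutLv : List (Nat × List (List Nat)) := [
  (4,
   [[0, 1, 2, 3, 4, 5, 6, 7, 8, 9, 10, 11, 12, 13, 14, 15, 16, 17, 18, 19, 20, 21, 22, 23],
    [0, 5, 23, 2, 6, 17, 20, 4, 18, 13, 10, 19, 11, 12, 1, 15, 21, 3, 7, 16, 22, 9, 8, 14],
    [0, 14, 5, 1, 7, 2, 22, 10, 8, 4, 9, 12, 6, 19, 17, 16, 18, 3, 21, 13, 20, 15, 11, 23],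
    [0, 17, 1, 3, 8, 5, 21, 4, 16, 19, 22, 10, 18, 7, 23, 12, 13, 14, 6, 11, 20, 15, 9, 2],
    [0, 1, 14, 5, 9, 3, 8, 10, 19, 13, 6, 16, 7, 11, 23, 21, 20, 2, 4, 15, 22, 12, 18, 17],
    [0, 14, 5, 17, 10, 2, 4, 16, 8, 18, 11, 6, 21, 13, 3, 7, 22, 1, 12, 20, 19, 9, 15, 23],
    [0, 2, 23, 5, 11, 3, 12, 4, 18, 7, 10, 9, 6, 20, 1, 16, 21, 17, 13, 15, 8, 19, 22, 14],
    [0, 23, 14, 1, 12, 2, 18, 7, 22, 4, 20, 10, 13, 6, 17, 9, 8, 3, 15, 19, 16, 11, 21, 5],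
    [0, 2, 14, 5, 13, 3, 10, 4, 19, 12, 7, 18, 21, 15, 1, 6, 16, 23, 8, 22, 11, 9, 20, 17],
    [0, 14, 1, 3, 15, 5, 7, 13, 22, 21, 4, 8, 9, 6, 2, 10, 16, 17, 19, 20, 18, 12, 11, 23],
    [0, 23, 5, 14, 16, 3, 19, 4, 10, 11, 20, 18, 9, 6, 1, 15, 13, 2, 8, 22, 12, 21, 7, 17],
    [0, 1, 5, 17, 18, 2, 16, 12, 8, 9, 21, 15, 7, 20, 14, 11, 6, 3, 4, 19, 13, 10, 22, 23],
    [0, 14, 23, 2, 19, 1, 13, 4, 16, 9, 15, 18, 12, 20, 3, 7, 10, 5, 22, 8, 21, 11, 6, 17],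
    [0, 2, 17, 5, 20, 3, 15, 21, 13, 10, 6, 7, 9, 12, 14, 18, 22, 23, 8, 11, 16, 4, 19, 1],
    [0, 14, 2, 3, 21, 5, 18, 6, 8, 4, 15, 16, 10, 20, 17, 12, 22, 1, 7, 13, 19, 9, 11, 23],
    [0, 3, 2, 14, 22, 5, 18, 12, 10, 4, 13, 11, 8, 7, 23, 6, 21, 1, 20, 15, 19, 9, 16, 17]])]

theorem octInLv_ok : transOK [] oct0 0 octInLv = true := by decide +kernel

theorem octOutLv_ok : transOK [oct0] (ALL ^^^ oct0) 0 octOutLv = true := by decide +kernel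

theorem octInOutLv_ok : transOK [oct0] (ALL ^^^ oct0) 1 octInOutLv = true := by decide +kernel

theorem octInLv_fst : octInLv.map Prod.fst = [0, 1] := by decide +kernel

theorem octOutLv_fst : octOutLv.map Prod.fst = [4] := by decide +kernel

theorem octInOutLv_fst : octInOutLv.map Prod.fst = [4] := by decide +kernel

theorem map_pt_eq (lv : List (Nat × List (List Nat))) (u : Equiv.Perm GolayPt) :
    lv.map (fun l => u (pt l.1)) = (lv.map Prod.fst).map (fun i => u (pt i)) := by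
  rw [List.map_map]; rfl

/-- The stabilizer of `oct0` is 2-transitive on the points of `oct0`. -/
theorem oct0_two_trans {y1 y2 : GolayPt} (h1 : y1 ∈ setM oct0) (h2 : y2 ∈ setM oct0) (hne : y1 ≠ y2) :
    ∃ u ∈ M24, u • setM oct0 = setM oct0 ∧ u (pt 0) = y1 ∧ u (pt 1) = y2 := by
  obtain ⟨u, hu, -, -, hinv, hys⟩ := multi_trans [] oct0 octInLv 0 octInLv_ok [y1, y2] rfl
    (by simp [hne]) (by
      intro y hy
      simp only [List.mem_cons, List.not_mem_nil, or_false] at hy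
      rcases hy with rfl | rfl
      · exact ⟨(mem_setM _ _).1 h1, Nat.zero_testBit _⟩
      · exact ⟨(mem_setM _ _).1 h2, Nat.zero_testBit _⟩)
  rw [map_pt_eq, octInLv_fst] at hys
  simp only [List.map_cons, List.map_nil, List.cons.injEq, and_true] at hys
  exact ⟨u, hu, (smul_setM_eq_iff u oct0).2 hinv, hys.1.symm, hys.2.symm⟩

theorem oct0_one_trans {y : GolayPt} (h : y ∈ setM oct0) :
    ∃ u ∈ M24, u • setM oct0 = setM oct0 ∧ u (pt 0) = y := by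
  have hex : ∃ z, z ∈ setM oct0 ∧ y ≠ z := by
    by_cases hy : y = pt 0
    · exact ⟨pt 1, by rw [mem_setM]; decide, by rw [hy]; decide⟩
    · exact ⟨pt 0, by rw [mem_setM]; decide, hy⟩
  obtain ⟨z, hz, hne⟩ := hex
  obtain ⟨u, hu, h0, h1, -⟩ := oct0_two_trans h hz hne
  exact ⟨u, hu, h0, h1⟩

/-- The stabilizer of `oct0` is transitive on the points outside `oct0`. -/
theorem oct0_out_trans {y : GolayPt} (h : y ∉ setM oct0) :
    ∃ u ∈ M24, u • setM oct0 = setM oct0 ∧ u (pt 4) = y := by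
  obtain ⟨u, hu, -, hL, -, hys⟩ := multi_trans [oct0] (ALL ^^^ oct0) octOutLv 0 octOutLv_ok [y] rfl
    (by simp) (by
      intro z hz
      rw [List.mem_singleton] at hz
      subst hz
      exact ⟨(not_mem_setM_iff _ _).1 h, Nat.zero_testBit _⟩)
  rw [map_pt_eq, octOutLv_fst] at hys
  simp only [List.map_cons, List.map_nil, List.cons.injEq, and_true] at hys
  exact ⟨u, hu, (smul_setM_eq_iff u oct0).2 (hL oct0 (List.mem_singleton.2 rfl)), hys.symm⟩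

/-- The stabilizer of `oct0` and of the point of index 0 is transitive on the points outside `oct0`. -/
theorem oct0_in_out_trans {y : GolayPt} (h : y ∉ setM oct0) :
    ∃ u ∈ M24, u • setM oct0 = setM oct0 ∧ u (pt 0) = pt 0 ∧ u (pt 4) = y := by
  obtain ⟨u, hu, hF, hL, -, hys⟩ := multi_trans [oct0] (ALL ^^^ oct0) octInOutLv 1 octInOutLv_ok [y] rfl
    (by simp) (by
      intro z hz
      rw [List.mem_singleton] at hz
      subst hz
      refine ⟨(not_mem_setM_iff _ _).1 h, ?_⟩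
      by_contra hc
      rw [Bool.not_eq_false] at hc
      have e : idx z = 0 := by
        have h1 : (1 : Nat).testBit (idx z) = decide (0 = idx z) := testBit_one_shiftLeft 0 (idx z)
        rw [h1, decide_eq_true_eq] at hc
        exact hc.symm
      apply h
      have hz0 : z = pt 0 := by rw [← e, pt_idx]
      rw [hz0, mem_setM]; decide)
  rw [map_pt_eq, octInOutLv_fst] at hys
  simp only [List.map_cons, List.map_nil, List.cons.injEq, and_true] at hys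
  refine ⟨u, hu, (smul_setM_eq_iff u oct0).2 (hL oct0 (List.mem_singleton.2 rfl)), ?_, hys.symm⟩
  exact hF (pt 0) (by decide)

/-! ## Flags -/

/-- An octad with a point of it is an image of `oct0` with the point of index 0. -/
theorem exists_oct_flag {o : Finset GolayPt} (ho : o ∈ octads) {x : GolayPt} (hx : x ∈ o) :
    ∃ u ∈ M24, u • setM oct0 = o ∧ u (pt 0) = x := by
  obtain ⟨u1, hu1, rfl⟩ := exists_m24_oct0 ho
  have hy : u1⁻¹ x ∈ setM oct0 := by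
    rw [← Finset.inv_smul_mem_iff] at hx; exact hx
  obtain ⟨u2, hu2, h0, h1⟩ := oct0_one_trans hy
  refine ⟨u1 * u2, mul_mem hu1 hu2, by rw [mul_smul, h0], ?_⟩
  rw [Equiv.Perm.mul_apply, h1]; exact Equiv.apply_symm_apply u1 x

/-- An octad with two distinct points of it is an image of `oct0` with the points of indices 0, 1. -/
theorem exists_oct_flag2 {o : Finset GolayPt} (ho : o ∈ octads) {p q : GolayPt} (hp : p ∈ o) (hq : q ∈ o)
    (hpq : p ≠ q) : ∃ u ∈ M24, u • setM oct0 = o ∧ u (pt 0) = p ∧ u (pt 1) = q := by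
  obtain ⟨u1, hu1, rfl⟩ := exists_m24_oct0 ho
  have hy1 : u1⁻¹ p ∈ setM oct0 := by
    rw [← Finset.inv_smul_mem_iff] at hp; exact hp
  have hy2 : u1⁻¹ q ∈ setM oct0 := by
    rw [← Finset.inv_smul_mem_iff] at hq; exact hq
  obtain ⟨u2, hu2, h0, h1, h2⟩ := oct0_two_trans hy1 hy2 (fun e => hpq (u1⁻¹.injective e))
  refine ⟨u1 * u2, mul_mem hu1 hu2, by rw [mul_smul, h0], ?_, ?_⟩
  · rw [Equiv.Perm.mul_apply, h1]; exact Equiv.apply_symm_apply u1 p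
  · rw [Equiv.Perm.mul_apply, h2]; exact Equiv.apply_symm_apply u1 q

/-- An octad with a point outside it is an image of `oct0` with the point of index 4. -/
theorem exists_oct_out {o : Finset GolayPt} (ho : o ∈ octads) {x : GolayPt} (hx : x ∉ o) :
    ∃ u ∈ M24, u • setM oct0 = o ∧ u (pt 4) = x := by
  obtain ⟨u1, hu1, rfl⟩ := exists_m24_oct0 ho
  have hy : u1⁻¹ x ∉ setM oct0 := by
    rw [← Finset.inv_smul_mem_iff] at hx; exact hx
  obtain ⟨u2, hu2, h0, h1⟩ := oct0_out_trans hy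
  refine ⟨u1 * u2, mul_mem hu1 hu2, by rw [mul_smul, h0], ?_⟩
  rw [Equiv.Perm.mul_apply, h1]; exact Equiv.apply_symm_apply u1 x

/-- An octad with a point of it and a point outside it is an image of `oct0` with the points of
indices 0 and 4. -/
theorem exists_oct_in_out {o : Finset GolayPt} (ho : o ∈ octads) {p q : GolayPt} (hp : p ∈ o) (hq : q ∉ o) :
    ∃ u ∈ M24, u • setM oct0 = o ∧ u (pt 0) = p ∧ u (pt 4) = q := by
  obtain ⟨u1, hu1, rfl, rfl⟩ := exists_oct_flag ho hp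
  have hy : u1⁻¹ q ∉ setM oct0 := by
    rw [← Finset.inv_smul_mem_iff] at hq; exact hq
  obtain ⟨u2, hu2, h0, h1, h2⟩ := oct0_in_out_trans hy
  refine ⟨u1 * u2, mul_mem hu1 hu2, by rw [mul_smul, h0], ?_, ?_⟩
  · rw [Equiv.Perm.mul_apply, h1]
  · rw [Equiv.Perm.mul_apply, h2]; exact Equiv.apply_symm_apply u1 q

end Cfsg.Agent.Helper91
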