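/-
Helper91: more small lemmas for the transport of configurations.
-/
import Cfsg.Agent.Helper91.OctFlag
import Cfsg.Agent.Helper91.DodTrans

set_option autoImplicit false

namespace Cfsg.Agent.Helper91

open Cfsg
open scoped Pointwise

theorem apply_mem_smul_iff (u : Equiv.Perm GolayPt) (p : GolayPt) (s : Finset GolayPt) :
    u p ∈ u • s ↔ p ∈ s :=
  Finset.smul_mem_smul_finset_iff u

theorem mem_inv_smul_iff (u : Equiv.Perm GolayPt) (p : GolayPt) (s : Finset GolayPt) :
    p ∈ u⁻¹ • s ↔ u p ∈ s :=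
  Finset.mem_inv_smul_finset_iff

theorem FixOn.apply_pt {g : GolayPt → GolayPt} {F : Nat} (h : FixOn g F) {i : Nat} (hi : i < 24)
    (hF : F.testBit i = true) : g (pt i) = pt i :=
  h (pt i) (by rw [idx_pt hi]; exact hF)

theorem mem_stabSub_single {F I : Nat} {g : Equiv.Perm GolayPt} :
    g ∈ stabSub F [I] ↔ g ∈ M24 ∧ FixOn g F ∧ g • setM I = setM I := by
  rw [mem_stabSub, smul_setM_eq_iff]
  constructor
  · rintro ⟨h1, h2, h3⟩
    exact ⟨h1, h2, h3 I (List.mem_singleton.2 rfl)⟩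
  · rintro ⟨h1, h2, h3⟩
    refine ⟨h1, h2, ?_⟩
    intro J hJ
    rw [List.mem_singleton] at hJ
    subst hJ; exact h3

theorem mem_stabSub_nil {F : Nat} {g : Equiv.Perm GolayPt} :
    g ∈ stabSub F [] ↔ g ∈ M24 ∧ FixOn g F := by
  rw [mem_stabSub]
  constructor
  · rintro ⟨h1, h2, -⟩
    exact ⟨h1, h2⟩
  · rintro ⟨h1, h2⟩
    exact ⟨h1, h2, fun J hJ => absurd hJ (List.not_mem_nil)⟩

theorem sdiff_smul_card (u : Equiv.Perm GolayPt) (a b : Finset GolayPt) :
    (u • a \ u • b).card = (a \ b).card := by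
  rw [← Finset.smul_finset_sdiff, Finset.card_smul_finset]

/-- The conjugate of an element fixing `p` fixes `u p`. -/
theorem conj_fix {u g : Equiv.Perm GolayPt} {p : GolayPt} (h : g p = p) : (u * g * u⁻¹) (u p) = u p := by
  rw [conj_apply, h]

/-- The conjugate of an element stabilizing `a` stabilizes `u • a`. -/
theorem conj_stab {α : Type*} [MulAction (Equiv.Perm GolayPt) α] {u g : Equiv.Perm GolayPt} {a : α}
    (h : g • a = a) : (u * g * u⁻¹) • (u • a) = u • a := by
  rw [conj_smul, h]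

/-- The conjugate by `u` of an element carrying `u⁻¹ • a` to `u⁻¹ • b` carries `a` to `b`. -/
theorem conj_map {α : Type*} [MulAction (Equiv.Perm GolayPt) α] {u g : Equiv.Perm GolayPt} {a b : α}
    (h : g • (u⁻¹ • a) = u⁻¹ • b) : (u * g * u⁻¹) • a = b := by
  rw [mul_smul, mul_smul, h, smul_inv_smul]

theorem conj_mem {u g : Equiv.Perm GolayPt} (hu : u ∈ M24) (hg : g ∈ M24) : u * g * u⁻¹ ∈ M24 :=
  mul_mem (mul_mem hu hg) (inv_mem hu)

end Cfsg.Agent.Helper91
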