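/-
Helper91: `M24` is 2-transitive on the 24 points (tables with base points 0, 4).
-/
import Cfsg.Agent.Helper91.OrbitLib2

set_option autoImplicit false

namespace Cfsg.Agent.Helper91

open Cfsg
open scoped Pointwise

/-- `M24` is 2-transitive on the points (base points 0, 4). -/
def ptLv04 : List (Nat × List (List Nat)) := [
  (0,
   [[0, 1, 2, 3, 4, 5, 6, 7, 8, 9, 10, 11, 12, 13, 14, 15, 16, 17, 18, 19, 20, 21, 22, 23],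
    [1, 2, 3, 4, 5, 6, 7, 8, 9, 10, 11, 12, 13, 14, 15, 16, 17, 18, 19, 20, 21, 22, 0, 23],
    [2, 3, 4, 5, 6, 7, 8, 9, 10, 11, 12, 13, 14, 15, 16, 17, 18, 19, 20, 21, 22, 0, 1, 23],
    [3, 4, 5, 6, 7, 8, 9, 10, 11, 12, 13, 14, 15, 16, 17, 18, 19, 20, 21, 22, 0, 1, 2, 23],
    [4, 1, 3, 6, 20, 18, 21, 13, 8, 5, 22, 16, 12, 11, 15, 9, 19, 2, 14, 7, 10, 17, 0, 23],
    [5, 18, 16, 22, 13, 10, 3, 19, 21, 12, 9, 2, 23, 14, 7, 6, 8, 4, 15, 17, 11, 20, 1, 0],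
    [6, 9, 5, 22, 14, 8, 21, 17, 16, 19, 23, 12, 11, 10, 13, 3, 7, 4, 18, 20, 15, 2, 1, 0],
    [7, 8, 6, 2, 21, 18, 16, 22, 23, 19, 14, 20, 9, 10, 3, 13, 4, 5, 11, 12, 15, 1, 17, 0],
    [8, 19, 9, 18, 15, 11, 14, 23, 21, 6, 2, 5, 7, 17, 3, 10, 4, 13, 16, 22, 12, 1, 20, 0],
    [9, 5, 22, 14, 8, 21, 17, 16, 19, 23, 12, 11, 10, 13, 3, 7, 4, 18, 20, 15, 2, 1, 6, 0],
    [10, 15, 8, 4, 11, 9, 2, 5, 7, 18, 22, 13, 17, 21, 6, 16, 19, 14, 20, 12, 1, 3, 0, 23],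
    [11, 20, 1, 4, 18, 13, 3, 2, 8, 19, 22, 23, 10, 9, 16, 7, 17, 21, 5, 12, 6, 15, 0, 14],
    [12, 3, 4, 19, 20, 10, 15, 8, 7, 5, 2, 17, 18, 22, 23, 14, 13, 21, 16, 11, 9, 0, 1, 6],
    [13, 21, 17, 15, 18, 5, 22, 6, 19, 23, 2, 11, 7, 9, 3, 10, 4, 8, 20, 14, 12, 1, 16, 0],
    [14, 15, 22, 16, 17, 8, 5, 10, 12, 18, 7, 20, 6, 3, 21, 1, 19, 4, 9, 13, 2, 23, 11, 0],
    [15, 8, 4, 11, 9, 2, 5, 7, 18, 22, 13, 17, 21, 6, 16, 19, 14, 20, 12, 1, 3, 0, 10, 23],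
    [16, 13, 21, 17, 15, 18, 5, 22, 6, 19, 23, 2, 11, 7, 9, 3, 10, 4, 8, 20, 14, 12, 1, 0],
    [17, 7, 8, 6, 2, 21, 18, 16, 22, 23, 19, 14, 20, 9, 10, 3, 13, 4, 5, 11, 12, 15, 1, 0],
    [18, 6, 3, 2, 21, 1, 5, 16, 12, 7, 19, 8, 9, 17, 15, 13, 11, 4, 22, 10, 20, 14, 0, 23],
    [19, 7, 4, 3, 22, 2, 6, 17, 13, 8, 20, 9, 10, 18, 16, 14, 12, 5, 0, 11, 21, 15, 1, 23],
    [20, 8, 19, 9, 18, 15, 11, 14, 23, 21, 6, 2, 5, 7, 17, 3, 10, 4, 13, 16, 22, 12, 1, 0],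
    [21, 15, 5, 10, 20, 9, 6, 11, 3, 23, 2, 17, 13, 14, 12, 16, 19, 4, 8, 22, 18, 7, 1, 0],
    [22, 11, 15, 17, 9, 19, 13, 20, 5, 16, 2, 21, 7, 18, 3, 10, 4, 14, 6, 8, 12, 1, 23, 0],
    [23, 22, 11, 15, 17, 9, 19, 13, 20, 5, 16, 2, 21, 7, 18, 3, 10, 4, 14, 6, 8, 12, 1, 0]]),
  (4,
   [[0, 2, 18, 3, 1, 10, 4, 20, 9, 16, 21, 14, 13, 8, 19, 15, 12, 22, 6, 17, 5, 7, 11, 23],
    [0, 18, 6, 3, 2, 21, 1, 5, 16, 12, 7, 19, 8, 9, 17, 15, 13, 11, 4, 22, 10, 20, 14, 23],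
    [0, 13, 11, 1, 3, 22, 5, 12, 14, 21, 16, 23, 17, 18, 20, 2, 19, 15, 4, 10, 6, 7, 9, 8],
    [0, 1, 2, 3, 4, 5, 6, 7, 8, 9, 10, 11, 12, 13, 14, 15, 16, 17, 18, 19, 20, 21, 22, 23],
    [0, 17, 20, 13, 5, 19, 12, 10, 15, 18, 4, 6, 1, 22, 11, 2, 14, 21, 3, 16, 23, 9, 8, 7],
    [0, 4, 1, 3, 6, 20, 18, 21, 13, 8, 5, 22, 16, 12, 11, 15, 9, 19, 2, 14, 7, 10, 17, 23],
    [0, 10, 12, 4, 7, 18, 22, 2, 21, 23, 3, 20, 1, 13, 19, 9, 5, 17, 6, 15, 14, 16, 8, 11],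
    [0, 21, 13, 19, 8, 2, 18, 12, 7, 6, 4, 10, 1, 3, 22, 20, 17, 9, 16, 11, 23, 14, 5, 15],
    [0, 14, 6, 19, 9, 7, 2, 21, 23, 5, 4, 16, 11, 12, 13, 17, 20, 8, 1, 10, 18, 3, 22, 15],
    [0, 20, 9, 18, 10, 1, 19, 4, 5, 23, 3, 21, 6, 16, 11, 13, 7, 14, 2, 15, 22, 8, 12, 17],
    [0, 4, 1, 3, 11, 22, 10, 20, 16, 12, 23, 7, 19, 15, 8, 6, 21, 18, 14, 5, 9, 13, 2, 17],
    [0, 13, 20, 3, 12, 11, 1, 19, 23, 2, 10, 21, 15, 8, 14, 22, 17, 5, 4, 9, 7, 16, 18, 6],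
    [0, 20, 5, 10, 13, 6, 22, 17, 12, 11, 4, 9, 1, 23, 16, 18, 2, 15, 3, 14, 21, 7, 19, 8],
    [0, 23, 21, 10, 14, 16, 8, 18, 12, 19, 4, 15, 1, 20, 6, 17, 2, 9, 3, 13, 5, 7, 11, 22],
    [0, 14, 9, 8, 15, 1, 10, 11, 16, 13, 2, 20, 5, 7, 19, 6, 17, 22, 4, 3, 18, 12, 21, 23],
    [0, 4, 1, 3, 16, 23, 17, 5, 14, 22, 21, 8, 6, 12, 19, 9, 15, 11, 2, 13, 7, 10, 18, 20],
    [0, 12, 22, 16, 17, 13, 1, 23, 2, 7, 14, 6, 18, 9, 20, 10, 11, 5, 4, 15, 19, 3, 8, 21],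
    [0, 6, 11, 7, 18, 23, 15, 13, 2, 21, 4, 22, 1, 16, 20, 14, 12, 8, 3, 17, 19, 10, 5, 9],
    [0, 16, 15, 1, 19, 5, 23, 8, 7, 11, 3, 6, 2, 18, 22, 21, 10, 17, 4, 13, 20, 12, 14, 9],
    [0, 21, 13, 1, 20, 6, 11, 18, 7, 23, 3, 5, 2, 8, 17, 16, 10, 22, 4, 15, 19, 12, 9, 14],
    [0, 3, 8, 10, 21, 7, 23, 16, 2, 1, 18, 13, 12, 19, 9, 17, 20, 15, 14, 11, 4, 5, 6, 22],
    [0, 4, 1, 16, 22, 3, 12, 13, 11, 18, 23, 15, 2, 7, 5, 10, 9, 6, 17, 8, 14, 19, 20, 21],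
    [0, 6, 11, 8, 23, 14, 5, 9, 2, 1, 7, 19, 20, 3, 10, 13, 21, 22, 15, 16, 4, 12, 17, 18]])]

theorem ptLv04_ok : transOK [] ALL 0 ptLv04 = true := by decide +kernel

theorem ptLv04_fst : ptLv04.map Prod.fst = [0, 4] := by decide +kernel

/-- `M24` is 2-transitive: any two distinct points are the images of the points of indices 0 and 4. -/
theorem exists_m24_two_pts {p q : GolayPt} (hpq : p ≠ q) : ∃ u ∈ M24, u (pt 0) = p ∧ u (pt 4) = q := by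
  obtain ⟨u, hu, -, -, -, hys⟩ := multi_trans [] ALL ptLv04 0 ptLv04_ok [p, q] rfl
    (by simp [hpq]) (by
      intro y _
      exact ⟨testBit_ALL_idx y, Nat.zero_testBit _⟩)
  rw [map_pt_eq, ptLv04_fst] at hys
  simp only [List.map_cons, List.map_nil, List.cons.injEq, and_true] at hys
  exact ⟨u, hu, hys.1.symm, hys.2.symm⟩

end Cfsg.Agent.Helper91
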