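/-
Helper91: orders of stabilizers by the orbit-stabilizer theorem; the stabilizer of an octad and of a pair
of octads in `M24`.
-/
import Cfsg.Agent.Helper91.PtTrans
import Cfsg.Agent.Helper91.M24Chain

set_option autoImplicit false

namespace Cfsg.Agent.Helper91

open Cfsg
open scoped Pointwise

/-- Orbit-stabilizer. -/
theorem card_stabilizer_mul_orbit {G : Type*} {α : Type*} [Group G] [MulAction G α] (x : α) :
    Nat.card ↥(MulAction.stabilizer G x) * (MulAction.orbit G x).ncard = Nat.card G := by
  rw [← MulAction.index_stabilizer]; exact Subgroup.card_mul_index _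

/-- Orbit-stabilizer inside a subgroup `H`: if the `H`-orbit of `x` is the set `S` then
`|H ∩ G_x| * |S| = |H|`. -/
theorem card_inf_stabilizer_mul {G : Type*} {α : Type*} [Group G] [MulAction G α] (H : Subgroup G) (x : α)
    (S : Set α) (hS : ∀ y, y ∈ S ↔ ∃ h ∈ H, h • x = y) :
    Nat.card ↥(H ⊓ MulAction.stabilizer G x) * S.ncard = Nat.card ↥H := by
  have horb : MulAction.orbit ↥H x = S := by
    ext y
    rw [hS]
    constructor
    · rintro ⟨h, rfl⟩; exact ⟨h.1, h.2, rfl⟩
    · rintro ⟨h, hh, rfl⟩; exact ⟨⟨h, hh⟩, rfl⟩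
  have e : ↥(MulAction.stabilizer ↥H x) ≃ ↥(H ⊓ MulAction.stabilizer G x) :=
    { toFun := fun k => ⟨k.1.1, k.1.2, k.2⟩
      invFun := fun k => ⟨⟨k.1, k.2.1⟩, k.2.2⟩
      left_inv := fun _ => rfl
      right_inv := fun _ => rfl }
  rw [← Nat.card_congr e, ← horb]
  exact card_stabilizer_mul_orbit x

/-! ## Octads -/

/-- The orbit of an octad under `M24` is the set of octads. -/
theorem orbit_octad {o : Finset GolayPt} (ho : o ∈ octads) : MulAction.orbit ↥M24 o = octads := by
  ext y
  constructor
  · rintro ⟨g, rfl⟩; exact smul_mem_octads g.2 ho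
  · intro hy
    obtain ⟨u, hu, e⟩ := exists_m24_smul_octad ho hy
    exact ⟨⟨u, hu⟩, e⟩

/-- The stabilizer of an octad has order 322560. -/
theorem card_stabilizer_octad {o : Finset GolayPt} (ho : o ∈ octads) :
    Nat.card ↥(MulAction.stabilizer ↥M24 o) = 322560 := by
  have h := card_stabilizer_mul_orbit (G := ↥M24) o
  rw [orbit_octad ho, Helper26.octads_ncard, card_M24] at h
  omega

/-- Octads meeting a given octad in equally many points are conjugate under its stabilizer. -/
theorem oct_pair_trans {o o' o'' : Finset GolayPt} (ho : o ∈ octads) (ho' : o' ∈ octads)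
    (ho'' : o'' ∈ octads) (h : (o ∩ o').card = (o ∩ o'').card) :
    ∃ g ∈ M24, g • o = o ∧ g • o' = o'' := by
  obtain ⟨u, hu, rfl⟩ := exists_m24_oct0 ho
  have hui := inv_mem hu
  obtain ⟨g, hg, hg0, hgs⟩ := octStab_trans (smul_mem_octads hui ho') (smul_mem_octads hui ho'')
    (by rw [card_inter_inv_smul, card_inter_inv_smul, h])
  exact ⟨u * g * u⁻¹, conj_mem hu hg, conj_stab hg0, conj_map hgs⟩

/-- The number of octads meeting a given octad in `k` points, as a count over the list of octads. -/
theorem ncard_octads_inter {o : Finset GolayPt} (ho : o ∈ octads) (k : Nat) :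
    {x : Finset GolayPt | x ∈ octads ∧ (o ∩ x).card = k}.ncard =
      Helper26.countL (fun m => Nat.beq (Helper26.pc24 (Nat.land oct0 m)) k) Helper26.octL := by
  obtain ⟨u, hu, rfl⟩ := exists_m24_oct0 ho
  have tr : {x : Finset GolayPt | x ∈ octads ∧ (u • setM oct0 ∩ x).card = k}.ncard =
      {s : Finset GolayPt | s ∈ octads ∧ (setM oct0 ∩ s).card = k}.ncard :=
    ncard_smul_set u _ _ (fun s => by rw [smul_mem_octads_iff hu, card_smul_inter])
  rw [tr]
  apply ncard_octads_filter
  intro s
  rw [card_inter_setM oct0_lt, Nat.beq_eq]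

/-- Orbit-stabilizer for the joint stabilizer of two octads. -/
theorem card_stab_two_octads {o o' : Finset GolayPt} (ho : o ∈ octads) (ho' : o' ∈ octads) :
    Nat.card ↥(MulAction.stabilizer ↥M24 o ⊓ MulAction.stabilizer ↥M24 o') *
      {x : Finset GolayPt | x ∈ octads ∧ (o ∩ x).card = (o ∩ o').card}.ncard = 322560 := by
  rw [← card_stabilizer_octad ho]
  apply card_inf_stabilizer_mul
  intro y
  constructor
  · rintro ⟨hy, hc⟩
    obtain ⟨g, hg, hgo, hgy⟩ := oct_pair_trans ho ho' hy hc.symm
    exact ⟨⟨g, hg⟩, hgo, hgy⟩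
  · rintro ⟨h, hh, rfl⟩
    refine ⟨smul_mem_octads h.2 ho', ?_⟩
    have e : h • o = o := hh
    have e2 : (h • o ∩ h • o').card = (o ∩ o').card := card_smul_inter (h : Equiv.Perm GolayPt) o o'
    rw [e] at e2
    exact e2

theorem count_oct_inter0 :
    Helper26.countL (fun m => Nat.beq (Helper26.pc24 (Nat.land oct0 m)) 0) Helper26.octL = 30 := by
  decide +kernel

theorem count_oct_inter2 :
    Helper26.countL (fun m => Nat.beq (Helper26.pc24 (Nat.land oct0 m)) 2) Helper26.octL = 448 := by
  decide +kernel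

theorem count_oct_inter4 :
    Helper26.countL (fun m => Nat.beq (Helper26.pc24 (Nat.land oct0 m)) 4) Helper26.octL = 280 := by
  decide +kernel

end Cfsg.Agent.Helper91
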