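/-
Helper91: a counting orbit search for arbitrary objects coded by numbers (lower bounds for orbit lengths),
and the determination of all orbits of a group on a finite invariant set from lower bounds.
-/
import Cfsg.Agent.Helper91.StabCard
import Cfsg.Agent.Helper26.GolayTrio

set_option autoImplicit false

namespace Cfsg.Agent.Helper91

open Cfsg
open scoped Pointwise

/-! ## Counting depth-first search -/

/-- Depth-first search over codes of objects: instruction `0` pops the stack; instruction `j + 1` applies the
table `j` to the top of the stack and pushes the result, whose key must be new; the result is the number of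
objects found (`0` on failure). -/
def orbCount (act : List Nat → Nat → Nat) (key : Nat → Nat) (gens : List (List Nat)) :
    List Nat → List Nat → Nat → Nat → Nat
  | [], _, _, n => n
  | _ :: _, [], _, n => n
  | 0 :: is, _ :: st, B, n => orbCount act key gens is st B n
  | (j + 1) :: is, m :: st, B, n =>
    match gens[j]? with
    | none => 0
    | some T =>
      cond (Nat.testBit B (key (act T m))) 0
        (cond (Nat.beq n 0) 0
          (orbCount act key gens is (act T m :: m :: st)
            (Nat.lor B (Nat.shiftLeft 1 (key (act T m)))) (Nat.succ n)))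

section
variable {β : Type*} [MulAction (Equiv.Perm GolayPt) β]

theorem orbCount_sound (G : Subgroup (Equiv.Perm GolayPt)) (dec : Nat → β) (Valid : Nat → Prop)
    {act : List Nat → Nat → Nat} {key : Nat → Nat} {gens : List (List Nat)}
    (hgens : ∀ T ∈ gens, ∃ hT : validTab T = true, permT T hT ∈ G ∧
      ∀ x, Valid x → Valid (act T x) ∧ dec (act T x) = (permT T hT)⁻¹ • dec x)
    (hkey : ∀ x y, Valid x → Valid y → dec x = dec y → key x = key y) (b : Nat) :
    ∀ (is st : List Nat) (B n : Nat),
      (∀ m ∈ st, Valid m ∧ ∃ g ∈ G, g • dec b = dec m) →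
      (∃ S : Finset β, S.card = n ∧ (∀ y ∈ S, ∃ g ∈ G, g • dec b = y) ∧
        ∀ x, Valid x → dec x ∈ S → B.testBit (key x) = true) →
      orbCount act key gens is st B n ≠ 0 →
      ∃ S : Finset β, S.card = orbCount act key gens is st B n ∧ ∀ y ∈ S, ∃ g ∈ G, g • dec b = y := by
  classical
  intro is
  induction is with
  | nil =>
    intro st B n _ hS _
    obtain ⟨S, h1, h2, -⟩ := hS
    exact ⟨S, by rw [orbCount]; exact h1, h2⟩
  | cons i is ih =>
    intro st B n hst hS hne
    rcases st with _ | ⟨m, st⟩
    · obtain ⟨S, h1, h2, -⟩ := hS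
      exact ⟨S, by rw [orbCount]; exact h1, h2⟩
    · rcases i with _ | j
      · rw [orbCount] at hne ⊢
        exact ih st B n (fun x hx => hst x (List.mem_cons_of_mem _ hx)) hS hne
      · rw [orbCount] at hne ⊢
        split at hne
        · exact absurd rfl hne
        · rename_i T hT
          have hTm : T ∈ gens := List.mem_of_getElem? hT
          obtain ⟨hv, hTG, hact⟩ := hgens T hTm
          obtain ⟨hmv, g, hg, e⟩ := hst m (List.mem_cons_self)
          obtain ⟨hxv, hxd⟩ := hact m hmv
          have hreach : ∃ g ∈ G, g • dec b = dec (act T m) :=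
            ⟨(permT T hv)⁻¹ * g, mul_mem (inv_mem hTG) hg, by rw [mul_smul, e, hxd]⟩
          cases hc : Nat.testBit B (key (act T m)) with
          | true => rw [hc, cond_true] at hne; exact absurd rfl hne
          | false =>
            rw [hc, cond_false] at hne
            simp only [hc, cond_false]
            cases hn : Nat.beq n 0 with
            | true => rw [hn, cond_true] at hne; exact absurd rfl hne
            | false =>
              rw [hn, cond_false] at hne
              simp only [cond_false]
              refine ih _ _ _ ?_ ?_ hne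
              · intro x hx
                rcases List.mem_cons.1 hx with rfl | hx
                · exact ⟨hxv, hreach⟩
                · exact hst x hx
              · obtain ⟨S, h1, h2, h3⟩ := hS
                have hnew : dec (act T m) ∉ S := by
                  intro hmem
                  have := h3 _ hxv hmem
                  rw [hc] at this
                  exact Bool.noConfusion this
                refine ⟨insert (dec (act T m)) S, ?_, ?_, ?_⟩
                · rw [Finset.card_insert_of_notMem hnew, h1]
                · intro y hy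
                  rcases Finset.mem_insert.1 hy with rfl | hy
                  · exact hreach
                  · exact h2 y hy
                · intro x hx hxS
                  have e2 : Nat.lor B (Nat.shiftLeft 1 (key (act T m))) =
                      B ||| (1 <<< key (act T m)) := rfl
                  rw [e2, Nat.testBit_or, Bool.or_eq_true, testBit_one_shiftLeft, decide_eq_true_eq]
                  rcases Finset.mem_insert.1 hxS with h | h
                  · exact Or.inr (hkey _ _ hx hxv h).symm
                  · exact Or.inl (h3 x hx h)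

/-- A successful search with result `N` gives `N` distinct objects in the orbit of the base. -/
theorem orbCount_le (G : Subgroup (Equiv.Perm GolayPt)) (dec : Nat → β) (Valid : Nat → Prop)
    {act : List Nat → Nat → Nat} {key : Nat → Nat} {gens : List (List Nat)}
    (hgens : ∀ T ∈ gens, ∃ hT : validTab T = true, permT T hT ∈ G ∧
      ∀ x, Valid x → Valid (act T x) ∧ dec (act T x) = (permT T hT)⁻¹ • dec x)
    (hkey : ∀ x y, Valid x → Valid y → dec x = dec y → key x = key y) {b : Nat} (hb : Valid b)
    {instrs : List Nat} {N : Nat}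
    (hrun : orbCount act key gens instrs [b] (Nat.shiftLeft 1 (key b)) 1 = N) (hN : N ≠ 0) :
    ∃ S : Finset β, S.card = N ∧ ∀ y ∈ S, ∃ g ∈ G, g • dec b = y := by
  classical
  have hbase : ∃ g ∈ G, g • dec b = dec b := ⟨1, one_mem _, one_smul _ _⟩
  have := orbCount_sound G dec Valid hgens hkey b instrs [b] (Nat.shiftLeft 1 (key b)) 1
    (fun m hm => by rw [List.mem_singleton] at hm; rw [hm]; exact ⟨hb, hbase⟩)
    ⟨{dec b}, Finset.card_singleton _, fun y hy => by rw [Finset.mem_singleton] at hy; rw [hy]; exact hbase,
      fun x hx hxS => by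
        rw [Finset.mem_singleton] at hxS
        have e : Nat.shiftLeft 1 (key b) = 1 <<< key b := rfl
        rw [e, testBit_one_shiftLeft, decide_eq_true_eq]
        exact (hkey _ _ hx hb hxS).symm⟩
    (by rw [hrun]; exact hN)
  rw [hrun] at this
  exact this

end

/-! ## Orbits of the stabilizer of `z` in `M24` -/

section
variable {γ : Type*} [MulAction (Equiv.Perm GolayPt) γ] {β : Type*} [MulAction (Equiv.Perm GolayPt) β]

/-- The orbit of `x` under the stabilizer of `z` in `M24`. -/
theorem orbit_stabilizer_eq (z : γ) (x : β) :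
    MulAction.orbit ↥(MulAction.stabilizer ↥M24 z) x = {y | ∃ g ∈ M24, g • z = z ∧ g • x = y} := by
  ext y
  constructor
  · rintro ⟨h, rfl⟩
    exact ⟨h.1.1, h.1.2, h.2, rfl⟩
  · rintro ⟨g, hg, hz, rfl⟩
    exact ⟨⟨⟨g, hg⟩, hz⟩, rfl⟩

/-- Lower bound for the orbit from a finite set of images. -/
theorem le_ncard_orbit_stabilizer [Finite β] (z : γ) (x : β) {N : Nat}
    (h : ∃ S : Finset β, S.card = N ∧
      ∀ y ∈ S, ∃ g ∈ M24 ⊓ MulAction.stabilizer (Equiv.Perm GolayPt) z, g • x = y) :
    N ≤ (MulAction.orbit ↥(MulAction.stabilizer ↥M24 z) x).ncard := by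
  obtain ⟨S, hS, hmem⟩ := h
  rw [← hS, ← Set.ncard_coe_finset S]
  apply Set.ncard_le_ncard _ (Set.toFinite _)
  intro y hy
  rw [orbit_stabilizer_eq]
  obtain ⟨g, hg, e⟩ := hmem y hy
  exact ⟨g, hg.1, hg.2, e⟩

/-- Conjugation of the structure: the orbit of `u • x` under the stabilizer of `u • z` is the image of the
orbit of `x` under the stabilizer of `z`. -/
theorem orbit_stabilizer_smul {u : Equiv.Perm GolayPt} (hu : u ∈ M24) (z : γ) (x : β) :
    MulAction.orbit ↥(MulAction.stabilizer ↥M24 (u • z)) (u • x) =
      (fun y => u • y) '' MulAction.orbit ↥(MulAction.stabilizer ↥M24 z) x := by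
  rw [orbit_stabilizer_eq, orbit_stabilizer_eq]
  ext y
  constructor
  · rintro ⟨g, hg, hz, rfl⟩
    refine ⟨(u⁻¹ * g * u) • x, ⟨u⁻¹ * g * u, mul_mem (mul_mem (inv_mem hu) hg) hu, ?_, rfl⟩, ?_⟩
    · rw [mul_smul, mul_smul, hz, inv_smul_smul]
    · show u • (u⁻¹ * g * u) • x = g • u • x
      rw [mul_smul, mul_smul, smul_inv_smul]
  · rintro ⟨y', ⟨g, hg, hz, rfl⟩, rfl⟩
    refine ⟨u * g * u⁻¹, conj_mem hu hg, conj_stab hz, ?_⟩
    rw [conj_smul]

theorem ncard_orbit_stabilizer_smul {u : Equiv.Perm GolayPt} (hu : u ∈ M24) (z : γ) (x : β) :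
    (MulAction.orbit ↥(MulAction.stabilizer ↥M24 (u • z)) (u • x)).ncard =
      (MulAction.orbit ↥(MulAction.stabilizer ↥M24 z) x).ncard := by
  rw [orbit_stabilizer_smul hu, Set.ncard_image_of_injective _ (MulAction.injective u)]

end

/-! ## All orbits from lower bounds -/

section
variable {H : Type*} [Group H] {α : Type*} [MulAction H α]

/-- If the orbits of `X i` lie in the finite invariant set `Ω`, have at least `n i` elements, are pairwise
distinct, and the `n i` add up to the size of `Ω`, then they have exactly `n i` elements and cover `Ω`. -/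
theorem orbits_of_lower_bounds {r : Nat} (Ω : Set α) (hfin : Ω.Finite)
    (hinv : ∀ (h : H), ∀ x ∈ Ω, h • x ∈ Ω) (X : Fin r → α) (n : Fin r → Nat)
    (hX : ∀ i, X i ∈ Ω) (hlow : ∀ i, n i ≤ (MulAction.orbit H (X i)).ncard)
    (hsum : ∑ i, n i = Ω.ncard) (hdisj : ∀ i j, i ≠ j → X j ∉ MulAction.orbit H (X i)) :
    (∀ i, (MulAction.orbit H (X i)).ncard = n i) ∧ Ω = ⋃ i, MulAction.orbit H (X i) := by
  classical
  have hsub : ∀ i, MulAction.orbit H (X i) ⊆ Ω := by
    rintro i y ⟨h, rfl⟩
    exact hinv h _ (hX i)
  have hfin' : ∀ i, (MulAction.orbit H (X i)).Finite := fun i => hfin.subset (hsub i)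
  have hpd : ∀ i j, i ≠ j → Disjoint (MulAction.orbit H (X i)) (MulAction.orbit H (X j)) := by
    intro i j hij
    rw [Set.disjoint_left]
    intro y hyi hyj
    apply hdisj i j hij
    have e1 := MulAction.orbit_eq_iff.2 hyi
    have e2 := MulAction.orbit_eq_iff.2 hyj
    rw [← e1, e2]
    exact MulAction.mem_orbit_self _
  have hUsub : (⋃ i, MulAction.orbit H (X i)) ⊆ Ω := Set.iUnion_subset hsub
  have hUfin : (⋃ i, MulAction.orbit H (X i)).Finite := hfin.subset hUsub
  have hUcard : (⋃ i, MulAction.orbit H (X i)).ncard = ∑ i, (MulAction.orbit H (X i)).ncard := by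
    have e : (⋃ i, MulAction.orbit H (X i)) =
        ↑(Finset.univ.biUnion (fun i => (hfin' i).toFinset)) := by
      ext y
      simp
    rw [e, Set.ncard_coe_finset, Finset.card_biUnion]
    · apply Finset.sum_congr rfl
      intro i _
      rw [Set.ncard_eq_toFinset_card _ (hfin' i)]
    · intro i _ j _ hij
      show Disjoint (hfin' i).toFinset (hfin' j).toFinset
      rw [Finset.disjoint_left]
      intro y hyi hyj
      rw [Set.Finite.mem_toFinset] at hyi hyj
      exact Set.disjoint_left.1 (hpd i j hij) hyi hyj
  have hle : (⋃ i, MulAction.orbit H (X i)).ncard ≤ Ω.ncard := Set.ncard_le_ncard hUsub hfin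
  have hsumle : ∑ i, n i ≤ ∑ i, (MulAction.orbit H (X i)).ncard :=
    Finset.sum_le_sum (fun i _ => hlow i)
  have heq : ∑ i, n i = ∑ i, (MulAction.orbit H (X i)).ncard := by omega
  have hterm : ∀ i, (MulAction.orbit H (X i)).ncard = n i := by
    intro i
    have := (Finset.sum_eq_sum_iff_of_le (fun i _ => hlow i)).1 heq i (Finset.mem_univ i)
    exact this.symm
  refine ⟨hterm, ?_⟩
  symm
  apply Set.eq_of_subset_of_ncard_le hUsub _ hfin
  omega

end

end Cfsg.Agent.Helper91
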