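/-
Helper91: families of sets given by lists of masks; stabilizers of structures; codes of sets, sextets and
trios for the counting orbit search; an invariant separating orbits.
-/
import Cfsg.Agent.Helper91.OrbitG

set_option autoImplicit false

namespace Cfsg.Agent.Helper91

open Cfsg
open scoped Pointwise

/-! ## Sets of masks -/

theorem setM_injOn {a b : Nat} (ha : a < 2 ^ 24) (hb : b < 2 ^ 24) (h : setM a = setM b) : a = b := by
  rw [← enc_setM ha, ← enc_setM hb, h]

theorem card_setM {m : Nat} (h : m < 2 ^ 24) : (setM m).card = Helper26.pc24 m := by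
  rw [Helper26.card_eq_pc24, enc_setM h]

theorem setM_mem_octads_iff {m : Nat} (h : m < 2 ^ 24) :
    setM m ∈ octads ↔ (Helper26.isCode m && Nat.beq (Helper26.pc24 m) 8) = true := by
  rw [Helper26.mem_octads_iff, enc_setM h, card_setM h, Bool.and_eq_true, Nat.beq_eq]

theorem disjoint_setM_iff {a b : Nat} (ha : a < 2 ^ 24) (hb : b < 2 ^ 24) :
    Disjoint (setM a) (setM b) ↔ Nat.land a b = 0 := by
  rw [Helper26.disjoint_iff_enc, enc_setM ha, enc_setM hb]; rfl

theorem setM_xor (a b : Nat) : setM (a ^^^ b) = symmDiff (setM a) (setM b) := by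
  ext p
  rw [Finset.mem_symmDiff, mem_setM, mem_setM, mem_setM, Nat.testBit_xor]
  cases a.testBit (idx p) <;> cases b.testBit (idx p) <;> simp

theorem setM_ALL : setM ALL = Finset.univ := by
  ext p
  rw [mem_setM, testBit_ALL_idx]; simp

theorem setM_compl (m : Nat) : setM (ALL ^^^ m) = (setM m)ᶜ := by
  rw [setM_xor, setM_ALL]
  ext p
  simp [Finset.mem_symmDiff]

theorem smul_disjoint_iff (g : Equiv.Perm GolayPt) (s t : Finset GolayPt) :
    Disjoint (g • s) (g • t) ↔ Disjoint s t := by
  rw [Finset.disjoint_iff_inter_eq_empty, Finset.disjoint_iff_inter_eq_empty, ← Finset.smul_finset_inter]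
  constructor
  · intro h
    have := congrArg (fun x => g⁻¹ • x) h
    simpa using this
  · intro h
    rw [h, Finset.smul_finset_empty]

theorem smul_compl (g : Equiv.Perm GolayPt) (s : Finset GolayPt) : g • sᶜ = (g • s)ᶜ := by
  rw [Finset.compl_eq_univ_sdiff, Finset.compl_eq_univ_sdiff, Finset.smul_finset_sdiff,
    Finset.smul_finset_univ]

/-! ## Families -/

/-- The family of the sets of a list of masks. -/
def famOf (l : List Nat) : Finset (Finset GolayPt) := (l.map setM).toFinset

theorem mem_famOf {l : List Nat} {s : Finset GolayPt} : s ∈ famOf l ↔ ∃ m ∈ l, setM m = s := by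
  rw [famOf, List.mem_toFinset, List.mem_map]

theorem smul_famOf_pull {T : List Nat} (hT : validTab T = true) (l : List Nat) :
    (permT T hT)⁻¹ • famOf l = famOf (l.map (pullMask T)) := by
  ext s
  rw [Finset.mem_smul_finset, mem_famOf]
  constructor
  · rintro ⟨t, ht, rfl⟩
    obtain ⟨m, hm, rfl⟩ := mem_famOf.1 ht
    exact ⟨pullMask T m, List.mem_map_of_mem hm, setM_pullMask hT m⟩
  · rintro ⟨m', hm', rfl⟩
    obtain ⟨m, hm, rfl⟩ := List.mem_map.1 hm'
    exact ⟨setM m, mem_famOf.2 ⟨m, hm, rfl⟩, (setM_pullMask hT m).symm⟩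

/-- A table is valid, preserves the code and permutes the masks of the list `zs`. -/
def genFamOK (zs : List Nat) (T : List Nat) : Bool :=
  validTab T && inM24 T && zs.all (fun z => zs.contains (pullMask T z))

theorem genFamOK_spec {zs : List Nat} {T : List Nat} (h : genFamOK zs T = true) :
    ∃ hT : validTab T = true,
      permT T hT ∈ M24 ⊓ MulAction.stabilizer (Equiv.Perm GolayPt) (famOf zs) := by
  simp only [genFamOK, Bool.and_eq_true, List.all_eq_true, List.contains_iff_mem] at h
  obtain ⟨⟨hv, h24⟩, hz⟩ := h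
  refine ⟨hv, permT_mem_M24 hv h24, ?_⟩
  show permT T hv • famOf zs = famOf zs
  have hsub : (permT T hv)⁻¹ • famOf zs ⊆ famOf zs := by
    rw [smul_famOf_pull]
    intro s hs
    obtain ⟨m', hm', rfl⟩ := mem_famOf.1 hs
    obtain ⟨m, hm, rfl⟩ := List.mem_map.1 hm'
    exact mem_famOf.2 ⟨_, hz m hm, rfl⟩
  have heq : (permT T hv)⁻¹ • famOf zs = famOf zs :=
    Finset.eq_of_subset_of_card_le hsub (by rw [Finset.card_smul_finset])
  rw [inv_smul_eq_iff] at heq
  exact heq.symm

/-- A table is valid, preserves the code and leaves the mask `I` invariant. -/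
def genSetOK (I : Nat) (T : List Nat) : Bool :=
  validTab T && inM24 T && Nat.beq (pullMask T I) I

theorem genSetOK_spec {I : Nat} {T : List Nat} (h : genSetOK I T = true) :
    ∃ hT : validTab T = true,
      permT T hT ∈ M24 ⊓ MulAction.stabilizer (Equiv.Perm GolayPt) (setM I) := by
  simp only [genSetOK, Bool.and_eq_true, Nat.beq_eq] at h
  obtain ⟨⟨hv, h24⟩, hz⟩ := h
  refine ⟨hv, permT_mem_M24 hv h24, ?_⟩
  show permT T hv • setM I = setM I
  have heq : (permT T hv)⁻¹ • setM I = setM I := by rw [← setM_pullMask hv, hz]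
  rw [inv_smul_eq_iff] at heq
  exact heq.symm

/-! ## An invariant -/

/-- Some member of `X` meets some member of `Z` in exactly `k` points. -/
def HasInter (k : Nat) (X Z : Finset (Finset GolayPt)) : Prop :=
  ∃ a ∈ X, ∃ z ∈ Z, (a ∩ z).card = k

theorem hasInter_smul (g : Equiv.Perm GolayPt) (k : Nat) (X Z : Finset (Finset GolayPt)) :
    HasInter k (g • X) (g • Z) ↔ HasInter k X Z := by
  constructor
  · rintro ⟨a, ha, z, hz, h⟩
    obtain ⟨a', ha', rfl⟩ := Finset.mem_smul_finset.1 ha
    obtain ⟨z', hz', rfl⟩ := Finset.mem_smul_finset.1 hz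
    exact ⟨a', ha', z', hz', by rw [← h, card_smul_inter]⟩
  · rintro ⟨a, ha, z, hz, h⟩
    exact ⟨g • a, Finset.smul_mem_smul_finset ha, g • z, Finset.smul_mem_smul_finset hz,
      by rw [card_smul_inter, h]⟩

theorem hasInter_congr {g : Equiv.Perm GolayPt} {X X' Z : Finset (Finset GolayPt)} (hZ : g • Z = Z)
    (hX : g • X = X') (k : Nat) : HasInter k X Z ↔ HasInter k X' Z := by
  rw [← hX, ← hasInter_smul g k X Z, hZ]

/-- Boolean form of `HasInter` for families given by lists of masks. -/
def interB (k : Nat) (xs zs : List Nat) : Bool :=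
  xs.any (fun a => zs.any (fun z => Nat.beq (Helper26.pc24 (Nat.land a z)) k))

theorem hasInter_famOf (k : Nat) {xs zs : List Nat} (hx : ∀ a ∈ xs, a < 2 ^ 24)
    (hz : ∀ z ∈ zs, z < 2 ^ 24) : HasInter k (famOf xs) (famOf zs) ↔ interB k xs zs = true := by
  simp only [interB, List.any_eq_true, Nat.beq_eq]
  constructor
  · rintro ⟨a, ha, z, hz', h⟩
    obtain ⟨m, hm, rfl⟩ := mem_famOf.1 ha
    obtain ⟨n, hn, rfl⟩ := mem_famOf.1 hz'
    refine ⟨m, hm, n, hn, ?_⟩
    rw [card_inter_setM (hx m hm), enc_setM (hz n hn)] at h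
    exact h
  · rintro ⟨m, hm, n, hn, h⟩
    refine ⟨setM m, mem_famOf.2 ⟨m, hm, rfl⟩, setM n, mem_famOf.2 ⟨n, hn, rfl⟩, ?_⟩
    rw [card_inter_setM (hx m hm), enc_setM (hz n hn)]
    exact h

/-! ## Sets as objects -/

theorem set_act {T : List Nat} (hT : validTab T = true) (x : Nat) (_ : x < 2 ^ 24) :
    pullMask T x < 2 ^ 24 ∧ setM (pullMask T x) = (permT T hT)⁻¹ • setM x :=
  ⟨pullMask_lt hT x, setM_pullMask hT x⟩

theorem set_key (key : Nat → Nat) (x y : Nat) (hx : x < 2 ^ 24) (hy : y < 2 ^ 24)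
    (h : setM x = setM y) : key x = key y := by
  rw [setM_injOn hx hy h]

/-! ## Sextets, coded by the mask of one of their tetrads -/

theorem smul_mem_sextets {g : Equiv.Perm GolayPt} (hg : g ∈ M24) {S : Finset (Finset GolayPt)}
    (hS : S ∈ sextets) : g • S ∈ sextets := by
  obtain ⟨h6, h4, hun⟩ := hS
  refine ⟨by rw [Finset.card_smul_finset]; exact h6, ?_, ?_⟩
  · intro t ht
    obtain ⟨t', ht', rfl⟩ := Finset.mem_smul_finset.1 ht
    rw [Finset.card_smul_finset]; exact h4 t' ht'
  · intro t ht u hu hne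
    obtain ⟨t', ht', rfl⟩ := Finset.mem_smul_finset.1 ht
    obtain ⟨u', hu', rfl⟩ := Finset.mem_smul_finset.1 hu
    rw [← Finset.smul_finset_union]
    exact smul_mem_octads hg (hun t' ht' u' hu' (fun e => hne (by rw [e])))

theorem smul_sextetOf {g : Equiv.Perm GolayPt} (hg : g ∈ M24) {t : Finset GolayPt} (ht : t.card = 4) :
    g • Helper26.sextetOf t = Helper26.sextetOf (g • t) :=
  Helper26.eq_sextetOf (smul_mem_sextets hg (Helper26.sextetOf_mem_sextets t ht))
    (Finset.smul_mem_smul_finset (Helper26.mem_sextetOf_self t))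

/-- The syndrome of a mask: two masks have the same syndrome iff they differ by a code word. -/
def syn (m : Nat) : Nat := Nat.shiftRight (Nat.xor m (Helper26.codeOf m)) 12

theorem xor_cancel_mid (a b c : Nat) : (a ^^^ c) ^^^ (b ^^^ c) = a ^^^ b := by
  apply Nat.eq_of_testBit_eq
  intro i
  simp only [Nat.testBit_xor]
  cases a.testBit i <;> cases b.testBit i <;> cases c.testBit i <;> rfl

theorem syn_eq_of_isCode {x y : Nat} (h : Helper26.isCode (x ^^^ y) = true) : syn x = syn y := by
  rw [Helper26.isCode_iff, Helper26.codeOf_xor] at h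
  have e : x ^^^ Helper26.codeOf x = y ^^^ Helper26.codeOf y := by
    apply Nat.eq_of_testBit_eq
    intro i
    have := congrArg (fun n => n.testBit i) h
    simp only [Nat.testBit_xor] at this ⊢
    revert this
    cases x.testBit i <;> cases y.testBit i <;> cases (Helper26.codeOf x).testBit i <;>
      cases (Helper26.codeOf y).testBit i <;> simp
  show Nat.shiftRight (x ^^^ Helper26.codeOf x) 12 = Nat.shiftRight (y ^^^ Helper26.codeOf y) 12
  rw [e]

/-- Validity of the code of a tetrad. -/
def tetValid (m : Nat) : Prop := m < 2 ^ 24 ∧ (setM m).card = 4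

theorem tetValid_iff (m : Nat) :
    tetValid m ↔ (Nat.blt m 16777216 && Nat.beq (Helper26.pc24 m) 4) = true := by
  rw [tetValid, Bool.and_eq_true, Nat.beq_eq, Nat.blt_eq]
  constructor
  · rintro ⟨h1, h2⟩
    exact ⟨h1, by rw [← card_setM h1]; exact h2⟩
  · rintro ⟨h1, h2⟩
    exact ⟨h1, by rw [card_setM h1]; exact h2⟩

/-- The sextet of the tetrad of a mask. -/
def sextDec (m : Nat) : Finset (Finset GolayPt) := Helper26.sextetOf (setM m)

theorem sextDec_mem {m : Nat} (h : tetValid m) : sextDec m ∈ sextets :=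
  Helper26.sextetOf_mem_sextets _ h.2

theorem sext_act {T : List Nat} (hT : validTab T = true) (h24 : permT T hT ∈ M24) (x : Nat)
    (hx : tetValid x) :
    tetValid (pullMask T x) ∧ sextDec (pullMask T x) = (permT T hT)⁻¹ • sextDec x := by
  have e := setM_pullMask hT x
  refine ⟨⟨pullMask_lt hT x, by rw [e, Finset.card_smul_finset]; exact hx.2⟩, ?_⟩
  rw [sextDec, sextDec, e, smul_sextetOf (inv_mem h24) hx.2]

theorem sext_key (x y : Nat) (hx : tetValid x) (hy : tetValid y) (h : sextDec x = sextDec y) :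
    syn x = syn y := by
  have hmem : setM y ∈ Helper26.sextetOf (setM x) := by
    show setM y ∈ sextDec x
    rw [h]; exact Helper26.mem_sextetOf_self _
  rcases Helper26.mem_sextetOf.1 hmem with e | ⟨o, ⟨ho, hsub⟩, e⟩
  · rw [setM_injOn hy.1 hx.1 e]
  · apply syn_eq_of_isCode
    have hdis : Disjoint (setM x) (setM y) := by
      rw [← e]; exact Finset.disjoint_sdiff
    have ho2 : o = symmDiff (setM x) (setM y) := by
      rw [hdis.symmDiff_eq_sup, ← e]
      exact (Finset.union_sdiff_of_subset hsub).symm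
    have := (Helper26.mem_octads_iff o).1 ho
    rw [ho2, Helper26.enc_symmDiff, enc_setM hx.1, enc_setM hy.1] at this
    exact this.1

/-! ## Trios, coded by two of their octads -/

theorem smul_mem_trios {g : Equiv.Perm GolayPt} (hg : g ∈ M24) {T : Finset (Finset GolayPt)}
    (hT : T ∈ trios) : g • T ∈ trios := by
  obtain ⟨h3, hoct, hdis⟩ := hT
  refine ⟨by rw [Finset.card_smul_finset]; exact h3, ?_, ?_⟩
  · intro t ht
    obtain ⟨t', ht', rfl⟩ := Finset.mem_smul_finset.1 ht
    exact smul_mem_octads hg (hoct t' ht')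
  · intro t ht u hu hne
    obtain ⟨t', ht', rfl⟩ := Finset.mem_smul_finset.1 ht
    obtain ⟨u', hu', rfl⟩ := Finset.mem_smul_finset.1 hu
    rw [smul_disjoint_iff]
    exact hdis t' ht' u' hu' (fun e => hne (by rw [e]))

theorem smul_trioOf (g : Equiv.Perm GolayPt) (a b : Finset GolayPt) :
    g • Helper26.trioOf (a, b) = Helper26.trioOf (g • a, g • b) := by
  simp only [Helper26.trioOf]
  rw [Finset.smul_finset_insert, Finset.smul_finset_insert, Finset.smul_finset_singleton, smul_compl,
    Finset.smul_finset_union]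

/-- First octad of the code of a trio. -/
def trA (x : Nat) : Nat := Nat.mod x 16777216

/-- Second octad of the code of a trio. -/
def trB (x : Nat) : Nat := Nat.div x 16777216

/-- Third octad of the code of a trio. -/
def trC (x : Nat) : Nat := Nat.xor (Nat.xor ALL (trA x)) (trB x)

/-- Action of a table on the code of a trio. -/
def trioAct (T : List Nat) (x : Nat) : Nat :=
  Nat.add (pullMask T (trA x)) (Nat.mul 16777216 (pullMask T (trB x)))

/-- A symmetric key of the code of a trio. -/
def trioKey (M : Nat) (x : Nat) : Nat :=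
  Nat.mod (Nat.add (Nat.add (Nat.mul (trA x) (trA x)) (Nat.mul (trB x) (trB x)))
    (Nat.mul (trC x) (trC x))) M

/-- Validity of the code of a trio. -/
def trioValid (x : Nat) : Prop :=
  trB x < 2 ^ 24 ∧ setM (trA x) ∈ octads ∧ setM (trB x) ∈ octads ∧ Disjoint (setM (trA x)) (setM (trB x))

/-- The trio of a code. -/
def trioDec (x : Nat) : Finset (Finset GolayPt) := Helper26.trioOf (setM (trA x), setM (trB x))

theorem trA_lt (x : Nat) : trA x < 2 ^ 24 := Nat.mod_lt _ (by norm_num)

theorem trioValid_iff (x : Nat) :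
    trioValid x ↔ (Nat.blt (trB x) 16777216 &&
      (Helper26.isCode (trA x) && Nat.beq (Helper26.pc24 (trA x)) 8) &&
      (Helper26.isCode (trB x) && Nat.beq (Helper26.pc24 (trB x)) 8) &&
      Nat.beq (Nat.land (trA x) (trB x)) 0) = true := by
  rw [trioValid, Bool.and_eq_true, Bool.and_eq_true, Bool.and_eq_true, Nat.blt_eq, Nat.beq_eq]
  constructor
  · rintro ⟨h1, h2, h3, h4⟩
    exact ⟨⟨⟨h1, (setM_mem_octads_iff (trA_lt x)).1 h2⟩, (setM_mem_octads_iff h1).1 h3⟩,
      (disjoint_setM_iff (trA_lt x) h1).1 h4⟩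
  · rintro ⟨⟨⟨h1, h2⟩, h3⟩, h4⟩
    exact ⟨h1, (setM_mem_octads_iff (trA_lt x)).2 h2, (setM_mem_octads_iff h1).2 h3,
      (disjoint_setM_iff (trA_lt x) h1).2 h4⟩

theorem trioDec_mem {x : Nat} (h : trioValid x) : trioDec x ∈ trios :=
  Helper26.trioOf_mem_trios h.2.1 h.2.2.1 h.2.2.2

theorem trA_trioAct {T : List Nat} (hT : validTab T = true) (x : Nat) :
    trA (trioAct T x) = pullMask T (trA x) := by
  have h := pullMask_lt hT (trA x)
  show (pullMask T (trA x) + 16777216 * pullMask T (trB x)) % 16777216 = pullMask T (trA x)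
  omega

theorem trB_trioAct {T : List Nat} (hT : validTab T = true) (x : Nat) :
    trB (trioAct T x) = pullMask T (trB x) := by
  have h := pullMask_lt hT (trA x)
  show (pullMask T (trA x) + 16777216 * pullMask T (trB x)) / 16777216 = pullMask T (trB x)
  omega

theorem trio_act {T : List Nat} (hT : validTab T = true) (h24 : permT T hT ∈ M24) (x : Nat)
    (hx : trioValid x) :
    trioValid (trioAct T x) ∧ trioDec (trioAct T x) = (permT T hT)⁻¹ • trioDec x := by
  have hi := inv_mem h24
  refine ⟨?_, ?_⟩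
  · rw [trioValid, trA_trioAct hT, trB_trioAct hT, setM_pullMask hT, setM_pullMask hT]
    exact ⟨pullMask_lt hT _, smul_mem_octads hi hx.2.1, smul_mem_octads hi hx.2.2.1,
      (smul_disjoint_iff _ _ _).2 hx.2.2.2⟩
  · rw [trioDec, trioDec, trA_trioAct hT, trB_trioAct hT, setM_pullMask hT, setM_pullMask hT, smul_trioOf]

theorem xor3_a (p a b : Nat) : p ^^^ a ^^^ (p ^^^ a ^^^ b) = b := by
  apply Nat.eq_of_testBit_eq
  intro i
  simp only [Nat.testBit_xor]
  cases p.testBit i <;> cases a.testBit i <;> cases b.testBit i <;> rfl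

theorem xor3_b (p a b : Nat) : p ^^^ b ^^^ (p ^^^ a ^^^ b) = a := by
  apply Nat.eq_of_testBit_eq
  intro i
  simp only [Nat.testBit_xor]
  cases p.testBit i <;> cases a.testBit i <;> cases b.testBit i <;> rfl

theorem xor3_c (p a b : Nat) : p ^^^ (p ^^^ a ^^^ b) ^^^ a = b := by
  apply Nat.eq_of_testBit_eq
  intro i
  simp only [Nat.testBit_xor]
  cases p.testBit i <;> cases a.testBit i <;> cases b.testBit i <;> rfl

theorem xor3_d (p a b : Nat) : p ^^^ (p ^^^ a ^^^ b) ^^^ b = a := by
  apply Nat.eq_of_testBit_eq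
  intro i
  simp only [Nat.testBit_xor]
  cases p.testBit i <;> cases a.testBit i <;> cases b.testBit i <;> rfl

theorem xor3_e (p a b : Nat) : p ^^^ b ^^^ a = p ^^^ a ^^^ b := by
  apply Nat.eq_of_testBit_eq
  intro i
  simp only [Nat.testBit_xor]
  cases p.testBit i <;> cases a.testBit i <;> cases b.testBit i <;> rfl

theorem trC_lt {x : Nat} (h : trB x < 2 ^ 24) : trC x < 2 ^ 24 := by
  have h1 : ALL < 2 ^ 24 := by decide
  exact Nat.xor_lt_two_pow (Nat.xor_lt_two_pow h1 (trA_lt x)) h

theorem setM_trC {x : Nat} (hx : trioValid x) : setM (trC x) = (setM (trA x) ∪ setM (trB x))ᶜ := by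
  have e : trC x = ALL ^^^ (trA x ^^^ trB x) := Nat.xor_assoc _ _ _
  rw [e, setM_compl, setM_xor, hx.2.2.2.symmDiff_eq_sup]
  rfl

theorem mem_trioDec {x : Nat} (hx : trioValid x) {s : Finset GolayPt} :
    s ∈ trioDec x ↔ s = setM (trA x) ∨ s = setM (trB x) ∨ s = setM (trC x) := by
  rw [trioDec, Helper26.mem_trioOf, setM_trC hx]

theorem trio_key (M : Nat) (x y : Nat) (hx : trioValid x) (hy : trioValid y)
    (h : trioDec x = trioDec y) : trioKey M x = trioKey M y := by
  have hne : trA y ≠ trB y := by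
    intro e
    have hd := hy.2.2.2
    rw [e, disjoint_self] at hd
    have hc := Helper26.octads_card hy.2.2.1
    rw [show setM (trB y) = ∅ from hd] at hc
    simp at hc
  have ha : setM (trA y) ∈ trioDec x := by
    rw [h, mem_trioDec hy]; exact Or.inl rfl
  have hb : setM (trB y) ∈ trioDec x := by
    rw [h, mem_trioDec hy]; exact Or.inr (Or.inl rfl)
  rw [mem_trioDec hx] at ha hb
  have hcx := trC_lt hx.1
  have ha' : trA y = trA x ∨ trA y = trB x ∨ trA y = trC x := by
    rcases ha with e | e | e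
    · exact Or.inl (setM_injOn (trA_lt y) (trA_lt x) e)
    · exact Or.inr (Or.inl (setM_injOn (trA_lt y) hx.1 e))
    · exact Or.inr (Or.inr (setM_injOn (trA_lt y) hcx e))
  have hb' : trB y = trA x ∨ trB y = trB x ∨ trB y = trC x := by
    rcases hb with e | e | e
    · exact Or.inl (setM_injOn hy.1 (trA_lt x) e)
    · exact Or.inr (Or.inl (setM_injOn hy.1 hx.1 e))
    · exact Or.inr (Or.inr (setM_injOn hy.1 hcx e))
  have hC : trC y = ALL ^^^ trA y ^^^ trB y := rfl
  have hCx : trC x = ALL ^^^ trA x ^^^ trB x := rfl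
  show (trA x * trA x + trB x * trB x + trC x * trC x) % M =
    (trA y * trA y + trB y * trB y + trC y * trC y) % M
  have key : trA x * trA x + trB x * trB x + trC x * trC x =
      trA y * trA y + trB y * trB y + trC y * trC y := by
    rcases ha' with e1 | e1 | e1 <;> rcases hb' with e2 | e2 | e2
    · exact absurd (e1.trans e2.symm) hne
    · rw [hC, e1, e2, ← hCx]
    · rw [hC, e1, e2, hCx, xor3_a, ← hCx]; ring
    · rw [hC, e1, e2, xor3_e, ← hCx]; ring
    · exact absurd (e1.trans e2.symm) hne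
    · rw [hC, e1, e2, hCx, xor3_b, ← hCx]; ring
    · rw [hC, e1, e2, hCx, xor3_c, ← hCx]; ring
    · rw [hC, e1, e2, hCx, xor3_d, ← hCx]; ring
    · exact absurd (e1.trans e2.symm) hne
  rw [key]

end Cfsg.Agent.Helper91
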