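/-
Helper91: the orbits of the stabilizer of a structure in `M24` on a family of objects, from counting orbit
searches: statements with three or four orbits, transport to the images of the structure.
-/
import Cfsg.Agent.Helper91.Objects

set_option autoImplicit false

namespace Cfsg.Agent.Helper91

open Cfsg
open scoped Pointwise

section
variable {γ : Type*} [MulAction (Equiv.Perm GolayPt) γ]

/-! ## Lower bounds for orbits from searches -/

/-- Lower bound for the orbit of a sextet. -/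
theorem sext_orbit_le (z : γ) {gens : List (List Nat)}
    (hgens : ∀ T ∈ gens, ∃ hT : validTab T = true,
      permT T hT ∈ M24 ⊓ MulAction.stabilizer (Equiv.Perm GolayPt) z)
    {b : Nat} (hb : tetValid b) {instrs : List Nat} {N : Nat}
    (hrun : orbCount pullMask syn gens instrs [b] (Nat.shiftLeft 1 (syn b)) 1 = N) (hN : N ≠ 0) :
    N ≤ (MulAction.orbit ↥(MulAction.stabilizer ↥M24 z) (sextDec b)).ncard := by
  apply le_ncard_orbit_stabilizer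
  refine orbCount_le (M24 ⊓ MulAction.stabilizer (Equiv.Perm GolayPt) z) sextDec tetValid ?_ sext_key hb
    hrun hN
  intro T hT
  obtain ⟨hv, hG⟩ := hgens T hT
  exact ⟨hv, hG, fun x hx => sext_act hv hG.1 x hx⟩

/-- Lower bound for the orbit of a trio. -/
theorem trio_orbit_le (z : γ) (M : Nat) {gens : List (List Nat)}
    (hgens : ∀ T ∈ gens, ∃ hT : validTab T = true,
      permT T hT ∈ M24 ⊓ MulAction.stabilizer (Equiv.Perm GolayPt) z)
    {b : Nat} (hb : trioValid b) {instrs : List Nat} {N : Nat}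
    (hrun : orbCount trioAct (trioKey M) gens instrs [b] (Nat.shiftLeft 1 (trioKey M b)) 1 = N)
    (hN : N ≠ 0) :
    N ≤ (MulAction.orbit ↥(MulAction.stabilizer ↥M24 z) (trioDec b)).ncard := by
  apply le_ncard_orbit_stabilizer
  refine orbCount_le (M24 ⊓ MulAction.stabilizer (Equiv.Perm GolayPt) z) trioDec trioValid ?_
    (trio_key M) hb hrun hN
  intro T hT
  obtain ⟨hv, hG⟩ := hgens T hT
  exact ⟨hv, hG, fun x hx => trio_act hv hG.1 x hx⟩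

/-- Lower bound for the orbit of a set of points. -/
theorem set_orbit_le (z : γ) (key : Nat → Nat) {gens : List (List Nat)}
    (hgens : ∀ T ∈ gens, ∃ hT : validTab T = true,
      permT T hT ∈ M24 ⊓ MulAction.stabilizer (Equiv.Perm GolayPt) z)
    {b : Nat} (hb : b < 2 ^ 24) {instrs : List Nat} {N : Nat}
    (hrun : orbCount pullMask key gens instrs [b] (Nat.shiftLeft 1 (key b)) 1 = N) (hN : N ≠ 0) :
    N ≤ (MulAction.orbit ↥(MulAction.stabilizer ↥M24 z) (setM b)).ncard := by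
  apply le_ncard_orbit_stabilizer
  refine orbCount_le (M24 ⊓ MulAction.stabilizer (Equiv.Perm GolayPt) z) setM (fun x => x < 2 ^ 24) ?_
    (set_key key) hb hrun hN
  intro T hT
  obtain ⟨hv, hG⟩ := hgens T hT
  exact ⟨hv, hG, fun x hx => set_act hv x hx⟩

theorem gens_of_famOK {zs : List Nat} {gens : List (List Nat)} (h : gens.all (genFamOK zs) = true) :
    ∀ T ∈ gens, ∃ hT : validTab T = true,
      permT T hT ∈ M24 ⊓ MulAction.stabilizer (Equiv.Perm GolayPt) (famOf zs) := by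
  rw [List.all_eq_true] at h
  exact fun T hT => genFamOK_spec (h T hT)

theorem gens_of_setOK {I : Nat} {gens : List (List Nat)} (h : gens.all (genSetOK I) = true) :
    ∀ T ∈ gens, ∃ hT : validTab T = true,
      permT T hT ∈ M24 ⊓ MulAction.stabilizer (Equiv.Perm GolayPt) (setM I) := by
  rw [List.all_eq_true] at h
  exact fun T hT => genSetOK_spec (h T hT)

/-! ## Statements with three or four orbits -/

variable {β : Type*} [MulAction (Equiv.Perm GolayPt) β]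

/-- The stabilizer of `z` has exactly three orbits on `Ω`, of the given sizes. -/
def Orbits3 (z : γ) (Ω : Set β) (n₁ n₂ n₃ : Nat) : Prop :=
  ∃ X₁ ∈ Ω, ∃ X₂ ∈ Ω, ∃ X₃ ∈ Ω,
    (MulAction.orbit ↥(MulAction.stabilizer ↥M24 z) X₁).ncard = n₁ ∧
    (MulAction.orbit ↥(MulAction.stabilizer ↥M24 z) X₂).ncard = n₂ ∧
    (MulAction.orbit ↥(MulAction.stabilizer ↥M24 z) X₃).ncard = n₃ ∧
    Ω = MulAction.orbit ↥(MulAction.stabilizer ↥M24 z) X₁ ∪
      MulAction.orbit ↥(MulAction.stabilizer ↥M24 z) X₂ ∪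
      MulAction.orbit ↥(MulAction.stabilizer ↥M24 z) X₃

/-- The stabilizer of `z` has exactly four orbits on `Ω`, of the given sizes. -/
def Orbits4 (z : γ) (Ω : Set β) (n₁ n₂ n₃ n₄ : Nat) : Prop :=
  ∃ X₁ ∈ Ω, ∃ X₂ ∈ Ω, ∃ X₃ ∈ Ω, ∃ X₄ ∈ Ω,
    (MulAction.orbit ↥(MulAction.stabilizer ↥M24 z) X₁).ncard = n₁ ∧
    (MulAction.orbit ↥(MulAction.stabilizer ↥M24 z) X₂).ncard = n₂ ∧
    (MulAction.orbit ↥(MulAction.stabilizer ↥M24 z) X₃).ncard = n₃ ∧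
    (MulAction.orbit ↥(MulAction.stabilizer ↥M24 z) X₄).ncard = n₄ ∧
    Ω = MulAction.orbit ↥(MulAction.stabilizer ↥M24 z) X₁ ∪
      MulAction.orbit ↥(MulAction.stabilizer ↥M24 z) X₂ ∪
      MulAction.orbit ↥(MulAction.stabilizer ↥M24 z) X₃ ∪
      MulAction.orbit ↥(MulAction.stabilizer ↥M24 z) X₄

theorem smul_set_eq_of_inv {u : Equiv.Perm GolayPt} (hu : u ∈ M24) {Ω : Set β}
    (hΩ : ∀ g ∈ M24, ∀ x ∈ Ω, g • x ∈ Ω) : (fun y => u • y) '' Ω = Ω := by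
  ext y
  constructor
  · rintro ⟨x, hx, rfl⟩
    exact hΩ u hu x hx
  · intro hy
    exact ⟨u⁻¹ • y, hΩ _ (inv_mem hu) y hy, smul_inv_smul u y⟩

theorem Orbits3.smul {z : γ} {Ω : Set β} {n₁ n₂ n₃ : Nat} (h : Orbits3 z Ω n₁ n₂ n₃)
    {u : Equiv.Perm GolayPt} (hu : u ∈ M24) (hΩ : ∀ g ∈ M24, ∀ x ∈ Ω, g • x ∈ Ω) :
    Orbits3 (u • z) Ω n₁ n₂ n₃ := by
  obtain ⟨X₁, h₁, X₂, h₂, X₃, h₃, c₁, c₂, c₃, hU⟩ := h
  refine ⟨u • X₁, hΩ u hu _ h₁, u • X₂, hΩ u hu _ h₂, u • X₃, hΩ u hu _ h₃, ?_, ?_, ?_, ?_⟩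
  · rw [ncard_orbit_stabilizer_smul hu, c₁]
  · rw [ncard_orbit_stabilizer_smul hu, c₂]
  · rw [ncard_orbit_stabilizer_smul hu, c₃]
  · rw [orbit_stabilizer_smul hu, orbit_stabilizer_smul hu, orbit_stabilizer_smul hu, ← Set.image_union,
      ← Set.image_union, ← hU, smul_set_eq_of_inv hu hΩ]

theorem Orbits4.smul {z : γ} {Ω : Set β} {n₁ n₂ n₃ n₄ : Nat} (h : Orbits4 z Ω n₁ n₂ n₃ n₄)
    {u : Equiv.Perm GolayPt} (hu : u ∈ M24) (hΩ : ∀ g ∈ M24, ∀ x ∈ Ω, g • x ∈ Ω) :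
    Orbits4 (u • z) Ω n₁ n₂ n₃ n₄ := by
  obtain ⟨X₁, h₁, X₂, h₂, X₃, h₃, X₄, h₄, c₁, c₂, c₃, c₄, hU⟩ := h
  refine ⟨u • X₁, hΩ u hu _ h₁, u • X₂, hΩ u hu _ h₂, u • X₃, hΩ u hu _ h₃, u • X₄, hΩ u hu _ h₄,
    ?_, ?_, ?_, ?_, ?_⟩
  · rw [ncard_orbit_stabilizer_smul hu, c₁]
  · rw [ncard_orbit_stabilizer_smul hu, c₂]
  · rw [ncard_orbit_stabilizer_smul hu, c₃]
  · rw [ncard_orbit_stabilizer_smul hu, c₄]
  · rw [orbit_stabilizer_smul hu, orbit_stabilizer_smul hu, orbit_stabilizer_smul hu,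
      orbit_stabilizer_smul hu, ← Set.image_union, ← Set.image_union, ← Set.image_union, ← hU,
      smul_set_eq_of_inv hu hΩ]

theorem iUnion_fin3 {α : Type*} (f : Fin 3 → Set α) : (⋃ i, f i) = f 0 ∪ f 1 ∪ f 2 := by
  ext x
  rw [Set.mem_iUnion]
  constructor
  · rintro ⟨i, hi⟩
    fin_cases i
    · exact Or.inl (Or.inl hi)
    · exact Or.inl (Or.inr hi)
    · exact Or.inr hi
  · rintro ((h | h) | h)
    · exact ⟨0, h⟩
    · exact ⟨1, h⟩
    · exact ⟨2, h⟩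

theorem iUnion_fin4 {α : Type*} (f : Fin 4 → Set α) : (⋃ i, f i) = f 0 ∪ f 1 ∪ f 2 ∪ f 3 := by
  ext x
  rw [Set.mem_iUnion]
  constructor
  · rintro ⟨i, hi⟩
    fin_cases i
    · exact Or.inl (Or.inl (Or.inl hi))
    · exact Or.inl (Or.inl (Or.inr hi))
    · exact Or.inl (Or.inr hi)
    · exact Or.inr hi
  · rintro (((h | h) | h) | h)
    · exact ⟨0, h⟩
    · exact ⟨1, h⟩
    · exact ⟨2, h⟩
    · exact ⟨3, h⟩

/-- Three orbits from lower bounds. -/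
theorem orbits3_of_lower [Finite β] (z : γ) (Ω : Set β) (hΩ : ∀ g ∈ M24, ∀ x ∈ Ω, g • x ∈ Ω)
    {X₁ X₂ X₃ : β} {n₁ n₂ n₃ : Nat} (h₁ : X₁ ∈ Ω) (h₂ : X₂ ∈ Ω) (h₃ : X₃ ∈ Ω)
    (l₁ : n₁ ≤ (MulAction.orbit ↥(MulAction.stabilizer ↥M24 z) X₁).ncard)
    (l₂ : n₂ ≤ (MulAction.orbit ↥(MulAction.stabilizer ↥M24 z) X₂).ncard)
    (l₃ : n₃ ≤ (MulAction.orbit ↥(MulAction.stabilizer ↥M24 z) X₃).ncard)
    (hsum : n₁ + n₂ + n₃ = Ω.ncard)
    (d₁₂ : X₂ ∉ MulAction.orbit ↥(MulAction.stabilizer ↥M24 z) X₁)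
    (d₁₃ : X₃ ∉ MulAction.orbit ↥(MulAction.stabilizer ↥M24 z) X₁)
    (d₂₃ : X₃ ∉ MulAction.orbit ↥(MulAction.stabilizer ↥M24 z) X₂) : Orbits3 z Ω n₁ n₂ n₃ := by
  have sym : ∀ {a b : β}, b ∉ MulAction.orbit ↥(MulAction.stabilizer ↥M24 z) a →
      a ∉ MulAction.orbit ↥(MulAction.stabilizer ↥M24 z) b :=
    fun h h' => h (MulAction.mem_orbit_symm.1 h')
  have key := orbits_of_lower_bounds (H := ↥(MulAction.stabilizer ↥M24 z)) Ω (Set.toFinite Ω)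
    (fun h x hx => hΩ h.1.1 h.1.2 x hx) ![X₁, X₂, X₃] ![n₁, n₂, n₃]
    (by intro i; fin_cases i <;> assumption)
    (by intro i; fin_cases i <;> assumption)
    (by rw [Fin.sum_univ_three]; exact hsum)
    (by
      intro i j hij
      fin_cases i <;> fin_cases j
      · exact absurd rfl hij
      · exact d₁₂
      · exact d₁₃
      · exact sym d₁₂
      · exact absurd rfl hij
      · exact d₂₃
      · exact sym d₁₃
      · exact sym d₂₃
      · exact absurd rfl hij)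
  obtain ⟨hc, hU⟩ := key
  rw [iUnion_fin3] at hU
  exact ⟨X₁, h₁, X₂, h₂, X₃, h₃, hc 0, hc 1, hc 2, hU⟩

/-- Four orbits from lower bounds. -/
theorem orbits4_of_lower [Finite β] (z : γ) (Ω : Set β) (hΩ : ∀ g ∈ M24, ∀ x ∈ Ω, g • x ∈ Ω)
    {X₁ X₂ X₃ X₄ : β} {n₁ n₂ n₃ n₄ : Nat} (h₁ : X₁ ∈ Ω) (h₂ : X₂ ∈ Ω) (h₃ : X₃ ∈ Ω) (h₄ : X₄ ∈ Ω)
    (l₁ : n₁ ≤ (MulAction.orbit ↥(MulAction.stabilizer ↥M24 z) X₁).ncard)
    (l₂ : n₂ ≤ (MulAction.orbit ↥(MulAction.stabilizer ↥M24 z) X₂).ncard)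
    (l₃ : n₃ ≤ (MulAction.orbit ↥(MulAction.stabilizer ↥M24 z) X₃).ncard)
    (l₄ : n₄ ≤ (MulAction.orbit ↥(MulAction.stabilizer ↥M24 z) X₄).ncard)
    (hsum : n₁ + n₂ + n₃ + n₄ = Ω.ncard)
    (d₁₂ : X₂ ∉ MulAction.orbit ↥(MulAction.stabilizer ↥M24 z) X₁)
    (d₁₃ : X₃ ∉ MulAction.orbit ↥(MulAction.stabilizer ↥M24 z) X₁)
    (d₁₄ : X₄ ∉ MulAction.orbit ↥(MulAction.stabilizer ↥M24 z) X₁)
    (d₂₃ : X₃ ∉ MulAction.orbit ↥(MulAction.stabilizer ↥M24 z) X₂)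
    (d₂₄ : X₄ ∉ MulAction.orbit ↥(MulAction.stabilizer ↥M24 z) X₂)
    (d₃₄ : X₄ ∉ MulAction.orbit ↥(MulAction.stabilizer ↥M24 z) X₃) : Orbits4 z Ω n₁ n₂ n₃ n₄ := by
  have sym : ∀ {a b : β}, b ∉ MulAction.orbit ↥(MulAction.stabilizer ↥M24 z) a →
      a ∉ MulAction.orbit ↥(MulAction.stabilizer ↥M24 z) b :=
    fun h h' => h (MulAction.mem_orbit_symm.1 h')
  have key := orbits_of_lower_bounds (H := ↥(MulAction.stabilizer ↥M24 z)) Ω (Set.toFinite Ω)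
    (fun h x hx => hΩ h.1.1 h.1.2 x hx) ![X₁, X₂, X₃, X₄] ![n₁, n₂, n₃, n₄]
    (by intro i; fin_cases i <;> assumption)
    (by intro i; fin_cases i <;> assumption)
    (by rw [Fin.sum_univ_four]; exact hsum)
    (by
      intro i j hij
      fin_cases i <;> fin_cases j
      · exact absurd rfl hij
      · exact d₁₂
      · exact d₁₃
      · exact d₁₄
      · exact sym d₁₂
      · exact absurd rfl hij
      · exact d₂₃
      · exact d₂₄
      · exact sym d₁₃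
      · exact sym d₂₃
      · exact absurd rfl hij
      · exact d₃₄
      · exact sym d₁₄
      · exact sym d₂₄
      · exact sym d₃₄
      · exact absurd rfl hij)
  obtain ⟨hc, hU⟩ := key
  rw [iUnion_fin4] at hU
  exact ⟨X₁, h₁, X₂, h₂, X₃, h₃, X₄, h₄, hc 0, hc 1, hc 2, hc 3, hU⟩

/-- An element of the stabilizer of `z` carrying `x` to `x'` does not exist if some invariant differs. -/
theorem not_mem_orbit_of_not {z : γ} {x x' : β} (h : ¬ ∃ g ∈ M24, g • z = z ∧ g • x = x') :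
    x' ∉ MulAction.orbit ↥(MulAction.stabilizer ↥M24 z) x := by
  rw [orbit_stabilizer_eq]
  exact h

end

end Cfsg.Agent.Helper91
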