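/-
Helper91: separation of orbits by intersection sizes; explicit lists of the tetrads of a sextet and of the
octads of a trio; transitivity of `M24` on tetrads, sets of three points, sextets, trios and complementary
pairs of dodecads.
-/
import Cfsg.Agent.Helper91.Orbits
import Cfsg.Agent.Helper91.M24Five
import Cfsg.Agent.Helper91.DodTrans

set_option autoImplicit false

namespace Cfsg.Agent.Helper91

open Cfsg
open scoped Pointwise

/-! ## Separation of orbits -/

section
variable {γ : Type*} [MulAction (Equiv.Perm GolayPt) γ] {β : Type*} [MulAction (Equiv.Perm GolayPt) β]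

/-- Two objects with different intersection patterns with the structure are not in the same orbit of the
stabilizer of the structure. -/
theorem not_orbit_of_interB {z : γ} {x x' : β} {zs xs xs' : List Nat}
    (hz : ∀ g : Equiv.Perm GolayPt, g • z = z → g • famOf zs = famOf zs)
    (hx : ∀ g : Equiv.Perm GolayPt, g • x = x' → g • famOf xs = famOf xs')
    (bz : ∀ a ∈ zs, a < 2 ^ 24) (bx : ∀ a ∈ xs, a < 2 ^ 24) (bx' : ∀ a ∈ xs', a < 2 ^ 24)
    (k : Nat) (h : interB k xs zs ≠ interB k xs' zs) :
    x' ∉ MulAction.orbit ↥(MulAction.stabilizer ↥M24 z) x := by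
  apply not_mem_orbit_of_not
  rintro ⟨g, -, hgz, hgx⟩
  have key := hasInter_congr (hz g hgz) (hx g hgx) k
  rw [hasInter_famOf k bx bz, hasInter_famOf k bx' bz] at key
  exact h (Bool.eq_iff_iff.2 key)

end

theorem famOf_singleton (a : Nat) : famOf [a] = {setM a} := rfl

theorem fam_of_set {a b : Nat} (g : Equiv.Perm GolayPt) (h : g • setM a = setM b) :
    g • famOf [a] = famOf [b] := by
  rw [famOf_singleton, famOf_singleton, Finset.smul_finset_singleton, h]

theorem fam_of_eq {x x' : Finset (Finset GolayPt)} {xs xs' : List Nat} (e : x = famOf xs)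
    (e' : x' = famOf xs') (g : Equiv.Perm GolayPt) (h : g • x = x') : g • famOf xs = famOf xs' := by
  rw [← e, ← e', h]

/-! ## The tetrads of a sextet -/

/-- The masks `ts` are the other five tetrads of the sextet of the tetrad `t`. -/
def sextListOK (t : Nat) (ts : List Nat) : Bool :=
  ts.all (fun u => Nat.blt u 16777216 && Nat.beq (Nat.land t u) 0 && Helper26.isCode (Nat.xor t u) &&
    Nat.beq (Helper26.pc24 (Nat.xor t u)) 8) && decide ((t :: ts).Nodup) && Nat.beq ts.length 5

theorem card_famOf {l : List Nat} (hl : ∀ a ∈ l, a < 2 ^ 24) (hnd : l.Nodup) : (famOf l).card = l.length := by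
  rw [famOf, List.toFinset_card_of_nodup, List.length_map]
  exact hnd.map_on (fun a ha b hb e => setM_injOn (hl a ha) (hl b hb) e)

theorem sextDec_eq_famOf {t : Nat} {ts : List Nat} (ht : tetValid t) (h : sextListOK t ts = true) :
    sextDec t = famOf (t :: ts) := by
  simp only [sextListOK, Bool.and_eq_true, List.all_eq_true, Nat.blt_eq, Nat.beq_eq, decide_eq_true_eq]
    at h
  obtain ⟨⟨hall, hnd⟩, hlen⟩ := h
  symm
  apply Finset.eq_of_subset_of_card_le
  · intro s hs
    obtain ⟨m, hm, rfl⟩ := mem_famOf.1 hs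
    rcases List.mem_cons.1 hm with rfl | hm
    · exact Helper26.mem_sextetOf_self _
    · obtain ⟨⟨⟨h1, h2⟩, h3⟩, h4⟩ := hall m hm
      have hdis : Disjoint (setM t) (setM m) := (disjoint_setM_iff ht.1 h1).2 h2
      have hlt : t ^^^ m < 2 ^ 24 := Nat.xor_lt_two_pow ht.1 h1
      have hx : setM (t ^^^ m) = setM t ∪ setM m := by
        rw [setM_xor, hdis.symmDiff_eq_sup]; rfl
      refine Helper26.mem_sextetOf.2 (Or.inr ⟨setM (t ^^^ m), ⟨?_, ?_⟩, ?_⟩)
      · rw [setM_mem_octads_iff hlt, Bool.and_eq_true, Nat.beq_eq]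
        exact ⟨h3, h4⟩
      · rw [hx]; exact Finset.subset_union_left
      · rw [hx]; exact Finset.union_sdiff_cancel_left hdis
  · rw [sextDec, Helper26.card_sextetOf _ ht.2, card_famOf _ hnd, List.length_cons, hlen]
    intro a ha
    rcases List.mem_cons.1 ha with rfl | ha
    · exact ht.1
    · exact (hall a ha).1.1.1

/-! ## The octads of a trio -/

theorem trioDec_eq_famOf {x : Nat} (hx : trioValid x) : trioDec x = famOf [trA x, trB x, trC x] := by
  ext s
  rw [mem_trioDec hx, mem_famOf]
  constructor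
  · rintro (rfl | rfl | rfl)
    · exact ⟨_, List.mem_cons_self, rfl⟩
    · exact ⟨_, List.mem_cons_of_mem _ List.mem_cons_self, rfl⟩
    · exact ⟨_, List.mem_cons_of_mem _ (List.mem_cons_of_mem _ List.mem_cons_self), rfl⟩
  · rintro ⟨m, hm, rfl⟩
    simp only [List.mem_cons, List.not_mem_nil, or_false] at hm
    rcases hm with rfl | rfl | rfl
    · exact Or.inl rfl
    · exact Or.inr (Or.inl rfl)
    · exact Or.inr (Or.inr rfl)

/-! ## Transitivity -/

theorem pt_mem_setM {i m : Nat} (hi : i < 24) (h : m.testBit i = true) : pt i ∈ setM m := by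
  rw [mem_setM, idx_pt hi]; exact h

/-- `M24` carries the points of indices 23, 0, 1, 2, 3 to the members of a list of distinct points followed by
the points of a set, five in all. -/
theorem exists_m24_toList {t : Finset GolayPt} {es : List GolayPt} (hlen : es.length + t.card = 5)
    (hnd : es.Nodup) (hdis : ∀ e ∈ es, e ∉ t) :
    ∃ u ∈ M24, es ++ t.toList = [u (pt 23), u (pt 0), u (pt 1), u (pt 2), u (pt 3)] := by
  apply m24_five_trans
  · rw [List.length_append, Finset.length_toList, hlen]
  · rw [List.nodup_append]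
    refine ⟨hnd, t.nodup_toList, ?_⟩
    intro a ha b hb e
    rw [Finset.mem_toList] at hb
    exact hdis a ha (e ▸ hb)

/-- `M24` is transitive on the sets of four points. -/
theorem exists_m24_tetrad {t : Finset GolayPt} (ht : t.card = 4) : ∃ u ∈ M24, u • setM 15 = t := by
  have hne : ∃ e, e ∉ t := by
    by_contra h
    have h' : ∀ e, e ∈ t := fun e => by_contra fun he => h ⟨e, he⟩
    have e : t = Finset.univ := Finset.eq_univ_iff_forall.2 h'
    rw [e, Finset.card_univ, Helper26.card_golayPt] at ht
    omega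
  obtain ⟨e, he⟩ := hne
  obtain ⟨u, hu, hys⟩ := exists_m24_toList (t := t) (es := [e]) (by rw [ht]; rfl)
    (List.nodup_singleton e) (fun a ha => by rw [List.mem_singleton] at ha; rw [ha]; exact he)
  refine ⟨u, hu, ?_⟩
  have hl : t.toList = [u (pt 0), u (pt 1), u (pt 2), u (pt 3)] := (List.cons.inj hys).2
  symm
  apply Finset.eq_of_subset_of_card_le
  · intro p hp
    rw [← Finset.mem_toList, hl] at hp
    simp only [List.mem_cons, List.not_mem_nil, or_false] at hp
    rcases hp with rfl | rfl | rfl | rfl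
    · exact (apply_mem_smul_iff _ _ _).2 (pt_mem_setM (by norm_num) (by decide))
    · exact (apply_mem_smul_iff _ _ _).2 (pt_mem_setM (by norm_num) (by decide))
    · exact (apply_mem_smul_iff _ _ _).2 (pt_mem_setM (by norm_num) (by decide))
    · exact (apply_mem_smul_iff _ _ _).2 (pt_mem_setM (by norm_num) (by decide))
  · rw [Finset.card_smul_finset, card_setM (by norm_num), ht]; decide

/-- `M24` is transitive on the sets of three points. -/
theorem exists_m24_three {t : Finset GolayPt} (ht : t.card = 3) : ∃ u ∈ M24, u • setM 14 = t := by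
  classical
  have hc : 1 < tᶜ.card := by
    rw [Finset.card_compl, Helper26.card_golayPt, ht]; norm_num
  obtain ⟨e₁, he₁, e₂, he₂, hne⟩ := Finset.one_lt_card.1 hc
  rw [Finset.mem_compl] at he₁ he₂
  obtain ⟨u, hu, hys⟩ := exists_m24_toList (t := t) (es := [e₁, e₂]) (by rw [ht]; rfl)
    (by rw [List.nodup_cons]; exact ⟨by rw [List.mem_singleton]; exact hne, List.nodup_singleton e₂⟩)
    (fun a ha => by
      simp only [List.mem_cons, List.not_mem_nil, or_false] at ha
      rcases ha with rfl | rfl
      · exact he₁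
      · exact he₂)
  refine ⟨u, hu, ?_⟩
  have hl : t.toList = [u (pt 1), u (pt 2), u (pt 3)] := (List.cons.inj (List.cons.inj hys).2).2
  symm
  apply Finset.eq_of_subset_of_card_le
  · intro p hp
    rw [← Finset.mem_toList, hl] at hp
    simp only [List.mem_cons, List.not_mem_nil, or_false] at hp
    rcases hp with rfl | rfl | rfl
    · exact (apply_mem_smul_iff _ _ _).2 (pt_mem_setM (by norm_num) (by decide))
    · exact (apply_mem_smul_iff _ _ _).2 (pt_mem_setM (by norm_num) (by decide))
    · exact (apply_mem_smul_iff _ _ _).2 (pt_mem_setM (by norm_num) (by decide))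
  · rw [Finset.card_smul_finset, card_setM (by norm_num), ht]; decide

theorem tetValid_15 : tetValid 15 := (tetValid_iff 15).2 (by decide)

/-- `M24` is transitive on the sextets. -/
theorem exists_m24_sextet {S : Finset (Finset GolayPt)} (hS : S ∈ sextets) :
    ∃ u ∈ M24, u • sextDec 15 = S := by
  have hne : S.Nonempty := by
    rw [← Finset.card_pos, hS.1]; norm_num
  obtain ⟨t, ht⟩ := hne
  obtain ⟨u, hu, e⟩ := exists_m24_tetrad (hS.2.1 t ht)
  refine ⟨u, hu, ?_⟩
  rw [sextDec, smul_sextetOf hu tetValid_15.2, e]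
  exact (Helper26.eq_sextetOf hS ht).symm

/-- `M24` is transitive on the trios. -/
theorem exists_m24_trio {x : Nat} (hx : trioValid x) {T : Finset (Finset GolayPt)} (hT : T ∈ trios) :
    ∃ u ∈ M24, u • trioDec x = T := by
  have h1 : 1 < T.card := by rw [hT.1]; norm_num
  obtain ⟨a, ha, b, hb, hne⟩ := Finset.one_lt_card.1 h1
  have hao := hT.2.1 a ha
  have hbo := hT.2.1 b hb
  have hdis := hT.2.2 a ha b hb hne
  obtain ⟨u, hu, e⟩ := exists_m24_smul_octad hx.2.1 hao
  have hb' : u • setM (trB x) ∈ octads := smul_mem_octads hu hx.2.2.1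
  have hd' : Disjoint a (u • setM (trB x)) := by
    rw [← e, smul_disjoint_iff]; exact hx.2.2.2
  obtain ⟨g, hg, hga, hgb⟩ := oct_pair_trans hao hb' hbo (by
    rw [Finset.disjoint_iff_inter_eq_empty.1 hd', Finset.disjoint_iff_inter_eq_empty.1 hdis])
  refine ⟨g * u, mul_mem hg hu, ?_⟩
  rw [trioDec, smul_trioOf, mul_smul, mul_smul, e, hga, hgb]
  exact (Helper26.trio_eq_trioOf hT ha hb hne).symm

/-- `M24` is transitive on the complementary pairs of dodecads. -/
theorem exists_m24_dodpair {d : Finset GolayPt} (hd : d ∈ dodecads) :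
    ∃ u ∈ M24, u • famOf [sqMask, ALL ^^^ sqMask] = ({d, Finset.univ \ d} : Finset (Finset GolayPt)) := by
  obtain ⟨u, hu, e⟩ := exists_m24_dod0 hd
  refine ⟨u, hu, ?_⟩
  have e1 : famOf [sqMask, ALL ^^^ sqMask] = {setM sqMask, (setM sqMask)ᶜ} := by
    rw [← setM_compl]; rfl
  rw [e1, Finset.smul_finset_insert, Finset.smul_finset_singleton, smul_compl, e,
    Finset.compl_eq_univ_sdiff]

end Cfsg.Agent.Helper91
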