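/-
Helper91: orbits with explicit representatives; the number of members of a family meeting a set, and the
classes of the sextets by the number of their tetrads meeting a set of three points.
-/
import Cfsg.Agent.Helper91.Sep

set_option autoImplicit false

namespace Cfsg.Agent.Helper91

open Cfsg
open scoped Pointwise

section
variable {γ : Type*} [MulAction (Equiv.Perm GolayPt) γ] {β : Type*} [MulAction (Equiv.Perm GolayPt) β]

/-- Three orbits from lower bounds, with the representatives. -/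
theorem orbits3_reps [Finite β] (z : γ) (Ω : Set β) (hΩ : ∀ g ∈ M24, ∀ x ∈ Ω, g • x ∈ Ω)
    {X₁ X₂ X₃ : β} {n₁ n₂ n₃ : Nat} (h₁ : X₁ ∈ Ω) (h₂ : X₂ ∈ Ω) (h₃ : X₃ ∈ Ω)
    (l₁ : n₁ ≤ (MulAction.orbit ↥(MulAction.stabilizer ↥M24 z) X₁).ncard)
    (l₂ : n₂ ≤ (MulAction.orbit ↥(MulAction.stabilizer ↥M24 z) X₂).ncard)
    (l₃ : n₃ ≤ (MulAction.orbit ↥(MulAction.stabilizer ↥M24 z) X₃).ncard)
    (hsum : n₁ + n₂ + n₃ = Ω.ncard)
    (d₁₂ : X₂ ∉ MulAction.orbit ↥(MulAction.stabilizer ↥M24 z) X₁)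
    (d₁₃ : X₃ ∉ MulAction.orbit ↥(MulAction.stabilizer ↥M24 z) X₁)
    (d₂₃ : X₃ ∉ MulAction.orbit ↥(MulAction.stabilizer ↥M24 z) X₂) :
    (MulAction.orbit ↥(MulAction.stabilizer ↥M24 z) X₁).ncard = n₁ ∧
    (MulAction.orbit ↥(MulAction.stabilizer ↥M24 z) X₂).ncard = n₂ ∧
    (MulAction.orbit ↥(MulAction.stabilizer ↥M24 z) X₃).ncard = n₃ ∧
    Ω = MulAction.orbit ↥(MulAction.stabilizer ↥M24 z) X₁ ∪
      MulAction.orbit ↥(MulAction.stabilizer ↥M24 z) X₂ ∪
      MulAction.orbit ↥(MulAction.stabilizer ↥M24 z) X₃ := by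
  have sym : ∀ {a b : β}, b ∉ MulAction.orbit ↥(MulAction.stabilizer ↥M24 z) a →
      a ∉ MulAction.orbit ↥(MulAction.stabilizer ↥M24 z) b :=
    fun h h' => h (MulAction.mem_orbit_symm.1 h')
  have key := orbits_of_lower_bounds (H := ↥(MulAction.stabilizer ↥M24 z)) Ω (Set.toFinite Ω)
    (fun h x hx => hΩ h.1.1 h.1.2 x hx) ![X₁, X₂, X₃] ![n₁, n₂, n₃]
    (by intro i; fin_cases i <;> assumption)
    (by intro i; fin_cases i <;> assumption)
    (by rw [Fin.sum_univ_three]; exact hsum)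
    (by
      intro i j hij
      fin_cases i <;> fin_cases j
      · exact absurd rfl hij
      · exact d₁₂
      · exact d₁₃
      · exact sym d₁₂
      · exact absurd rfl hij
      · exact d₂₃
      · exact sym d₁₃
      · exact sym d₂₃
      · exact absurd rfl hij)
  obtain ⟨hc, hU⟩ := key
  rw [iUnion_fin3] at hU
  exact ⟨hc 0, hc 1, hc 2, hU⟩

end

/-! ## The number of members of a family meeting a set -/

/-- The number of members of the family `S` that meet `Y`. -/
def cnt (Y : Finset GolayPt) (S : Finset (Finset GolayPt)) : Nat :=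
  (S.filter fun t => (t ∩ Y).Nonempty).card

theorem cnt_smul (g : Equiv.Perm GolayPt) (Y : Finset GolayPt) (S : Finset (Finset GolayPt)) :
    cnt (g • Y) (g • S) = cnt Y S := by
  classical
  have e : (g • S).filter (fun t => (t ∩ g • Y).Nonempty) =
      g • S.filter (fun t => (t ∩ Y).Nonempty) := by
    ext t
    rw [Finset.mem_filter, Finset.mem_smul_finset, Finset.mem_smul_finset]
    constructor
    · rintro ⟨⟨s, hs, rfl⟩, hne⟩
      refine ⟨s, Finset.mem_filter.2 ⟨hs, ?_⟩, rfl⟩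
      rw [← Finset.smul_finset_inter, Finset.smul_finset_nonempty] at hne
      exact hne
    · rintro ⟨s, hs, rfl⟩
      rw [Finset.mem_filter] at hs
      refine ⟨⟨s, hs.1, rfl⟩, ?_⟩
      rw [← Finset.smul_finset_inter, Finset.smul_finset_nonempty]
      exact hs.2
  rw [cnt, cnt, e, Finset.card_smul_finset]

theorem cnt_famOf {ts : List Nat} (hts : ∀ a ∈ ts, a < 2 ^ 24) (hnd : ts.Nodup) {I : Nat}
    (hI : I < 2 ^ 24) :
    cnt (setM I) (famOf ts) = (ts.filter (fun m => !(Nat.beq (Nat.land m I) 0))).length := by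
  classical
  have hP : ∀ m ∈ ts, ((setM m ∩ setM I).Nonempty ↔ (!(Nat.beq (Nat.land m I) 0)) = true) := by
    intro m hm
    rw [Finset.nonempty_iff_ne_empty, Ne, ← Finset.disjoint_iff_inter_eq_empty,
      disjoint_setM_iff (hts m hm) hI, Bool.not_eq_true', ← Bool.not_eq_true, Nat.beq_eq]
  have e : (famOf ts).filter (fun t => (t ∩ setM I).Nonempty) =
      famOf (ts.filter (fun m => !(Nat.beq (Nat.land m I) 0))) := by
    ext s
    rw [Finset.mem_filter, mem_famOf, mem_famOf]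
    constructor
    · rintro ⟨⟨m, hm, rfl⟩, hne⟩
      exact ⟨m, List.mem_filter.2 ⟨hm, (hP m hm).1 hne⟩, rfl⟩
    · rintro ⟨m, hm, rfl⟩
      rw [List.mem_filter] at hm
      exact ⟨⟨m, hm.1, rfl⟩, (hP m hm.1).2 hm.2⟩
  rw [cnt, e, card_famOf (fun a ha => hts a (List.mem_filter.1 ha).1) (hnd.filter _)]

/-! ## Classes of sextets by the number of tetrads meeting a set -/

/-- If the stabilizer of `Y` has three orbits on the sextets, with representatives having 1, 2, 3 tetrads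
that meet `Y`, then the classes of the sextets by that number are the orbits. -/
theorem classes_of_orbits (Y : Finset GolayPt) {X₁ X₂ X₃ : Finset (Finset GolayPt)} {n₁ n₂ n₃ : Nat}
    (h₁ : X₁ ∈ sextets) (h₂ : X₂ ∈ sextets) (h₃ : X₃ ∈ sextets)
    (l₁ : n₁ ≤ (MulAction.orbit ↥(MulAction.stabilizer ↥M24 Y) X₁).ncard)
    (l₂ : n₂ ≤ (MulAction.orbit ↥(MulAction.stabilizer ↥M24 Y) X₂).ncard)
    (l₃ : n₃ ≤ (MulAction.orbit ↥(MulAction.stabilizer ↥M24 Y) X₃).ncard)
    (hsum : n₁ + n₂ + n₃ = 1771)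
    (c₁ : cnt Y X₁ = 1) (c₂ : cnt Y X₂ = 2) (c₃ : cnt Y X₃ = 3) :
    {S : Finset (Finset GolayPt) | S ∈ sextets ∧ cnt Y S = 1}.ncard = n₁ ∧
    {S : Finset (Finset GolayPt) | S ∈ sextets ∧ cnt Y S = 2}.ncard = n₂ ∧
    {S : Finset (Finset GolayPt) | S ∈ sextets ∧ cnt Y S = 3}.ncard = n₃ ∧
    ∀ S S' : Finset (Finset GolayPt), S ∈ sextets → S' ∈ sextets → cnt Y S = cnt Y S' →
      ∃ g ∈ M24, g • Y = Y ∧ g • S = S' := by
  have hinv : ∀ {X S : Finset (Finset GolayPt)},
      S ∈ MulAction.orbit ↥(MulAction.stabilizer ↥M24 Y) X → cnt Y S = cnt Y X := by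
    intro X S hS
    rw [orbit_stabilizer_eq] at hS
    obtain ⟨g, -, hY, rfl⟩ := hS
    conv_lhs => rw [← hY]
    exact cnt_smul g Y X
  have hnot : ∀ {X X' : Finset (Finset GolayPt)}, cnt Y X' ≠ cnt Y X →
      X' ∉ MulAction.orbit ↥(MulAction.stabilizer ↥M24 Y) X := fun hne h => hne (hinv h)
  obtain ⟨e₁, e₂, e₃, hU⟩ := orbits3_reps Y sextets (fun g hg x hx => smul_mem_sextets hg hx) h₁ h₂ h₃
    l₁ l₂ l₃ (by rw [Helper26.sextets_ncard, hsum])
    (hnot (by rw [c₁, c₂]; norm_num)) (hnot (by rw [c₁, c₃]; norm_num))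
    (hnot (by rw [c₂, c₃]; norm_num))
  have hcls : ∀ S, S ∈ sextets → (S ∈ MulAction.orbit ↥(MulAction.stabilizer ↥M24 Y) X₁ ∨
      S ∈ MulAction.orbit ↥(MulAction.stabilizer ↥M24 Y) X₂) ∨
      S ∈ MulAction.orbit ↥(MulAction.stabilizer ↥M24 Y) X₃ := by
    intro S hS
    rw [hU] at hS
    exact hS
  have hsub : ∀ {X S : Finset (Finset GolayPt)}, X ∈ sextets →
      S ∈ MulAction.orbit ↥(MulAction.stabilizer ↥M24 Y) X → S ∈ sextets := by
    intro X S hX hS
    rw [orbit_stabilizer_eq] at hS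
    obtain ⟨g, hg, -, rfl⟩ := hS
    exact smul_mem_sextets hg hX
  have set₁ : {S : Finset (Finset GolayPt) | S ∈ sextets ∧ cnt Y S = 1} =
      MulAction.orbit ↥(MulAction.stabilizer ↥M24 Y) X₁ := by
    ext S
    constructor
    · rintro ⟨hS, hc⟩
      rcases hcls S hS with (h | h) | h
      · exact h
      · have := hinv h; omega
      · have := hinv h; omega
    · intro h
      exact ⟨hsub h₁ h, by rw [hinv h, c₁]⟩
  have set₂ : {S : Finset (Finset GolayPt) | S ∈ sextets ∧ cnt Y S = 2} =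
      MulAction.orbit ↥(MulAction.stabilizer ↥M24 Y) X₂ := by
    ext S
    constructor
    · rintro ⟨hS, hc⟩
      rcases hcls S hS with (h | h) | h
      · have := hinv h; omega
      · exact h
      · have := hinv h; omega
    · intro h
      exact ⟨hsub h₂ h, by rw [hinv h, c₂]⟩
  have set₃ : {S : Finset (Finset GolayPt) | S ∈ sextets ∧ cnt Y S = 3} =
      MulAction.orbit ↥(MulAction.stabilizer ↥M24 Y) X₃ := by
    ext S
    constructor
    · rintro ⟨hS, hc⟩
      rcases hcls S hS with (h | h) | h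
      · have := hinv h; omega
      · have := hinv h; omega
      · exact h
    · intro h
      exact ⟨hsub h₃ h, by rw [hinv h, c₃]⟩
  refine ⟨by rw [set₁, e₁], by rw [set₂, e₂], by rw [set₃, e₃], ?_⟩
  have hconj : ∀ {X S S' : Finset (Finset GolayPt)},
      S ∈ MulAction.orbit ↥(MulAction.stabilizer ↥M24 Y) X →
      S' ∈ MulAction.orbit ↥(MulAction.stabilizer ↥M24 Y) X → ∃ g ∈ M24, g • Y = Y ∧ g • S = S' := by
    intro X S S' hS hS'
    rw [orbit_stabilizer_eq] at hS hS'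
    obtain ⟨g, hg, hY, rfl⟩ := hS
    obtain ⟨g', hg', hY', rfl⟩ := hS'
    refine ⟨g' * g⁻¹, mul_mem hg' (inv_mem hg), ?_, ?_⟩
    · rw [mul_smul, inv_smul_eq_iff.2 hY.symm, hY']
    · rw [mul_smul, inv_smul_smul]
  intro S S' hS hS' hc
  rcases hcls S hS with (h | h) | h <;> rcases hcls S' hS' with (h' | h') | h'
  · exact hconj h h'
  · have := hinv h; have := hinv h'; omega
  · have := hinv h; have := hinv h'; omega
  · have := hinv h; have := hinv h'; omega
  · exact hconj h h'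
  · have := hinv h; have := hinv h'; omega
  · have := hinv h; have := hinv h'; omega
  · have := hinv h; have := hinv h'; omega
  · exact hconj h h'

end Cfsg.Agent.Helper91
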