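/-
Helper91: classes of objects under a subgroup of the permutations of the 24 points, from counting orbit
searches: if the lower bounds for the orbits of the representatives add up to the number of objects and an
invariant separates the representatives, then the classes of the invariant are the orbits.
-/
import Cfsg.Agent.Helper91.Sep2

set_option autoImplicit false

namespace Cfsg.Agent.Helper91

open Cfsg
open scoped Pointwise

section
variable {β : Type*} [MulAction (Equiv.Perm GolayPt) β] {ι : Type*}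

/-- Classes from lower bounds. -/
theorem classes_of_lower (G : Subgroup (Equiv.Perm GolayPt)) {r : ℕ} (Ω : Set β) (hfin : Ω.Finite)
    (hinv : ∀ g ∈ G, ∀ x ∈ Ω, g • x ∈ Ω) (X : Fin r → β) (n : Fin r → ℕ) (hX : ∀ i, X i ∈ Ω)
    (hlow : ∀ i, ∃ S : Finset β, S.card = n i ∧ ∀ y ∈ S, ∃ g ∈ G, g • X i = y)
    (hsum : ∑ i, n i = Ω.ncard)
    (f : β → ι) (hf : ∀ g ∈ G, ∀ x ∈ Ω, f (g • x) = f x)
    (hdist : ∀ i j, i ≠ j → f (X i) ≠ f (X j)) :
    (∀ i, {x | x ∈ Ω ∧ f x = f (X i)}.ncard = n i) ∧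
    (∀ x ∈ Ω, ∃ i, f x = f (X i)) ∧
    (∀ x ∈ Ω, ∀ x' ∈ Ω, f x = f x' → ∃ g ∈ G, g • x = x') := by
  have horb : ∀ x y : β, y ∈ MulAction.orbit ↥G x ↔ ∃ g ∈ G, g • x = y := by
    intro x y
    constructor
    · rintro ⟨h, rfl⟩
      exact ⟨h.1, h.2, rfl⟩
    · rintro ⟨g, hg, rfl⟩
      exact ⟨⟨g, hg⟩, rfl⟩
  have hfo : ∀ i, ∀ y ∈ MulAction.orbit ↥G (X i), f y = f (X i) := by
    intro i y hy
    obtain ⟨g, hg, rfl⟩ := (horb _ _).1 hy
    exact hf g hg _ (hX i)
  have hlow' : ∀ i, n i ≤ (MulAction.orbit ↥G (X i)).ncard := by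
    intro i
    obtain ⟨S, hS, hmem⟩ := hlow i
    rw [← hS, ← Set.ncard_coe_finset S]
    apply Set.ncard_le_ncard _ (hfin.subset _)
    · intro y hy
      exact (horb _ _).2 (hmem y hy)
    · intro y hy
      obtain ⟨g, hg, rfl⟩ := (horb _ _).1 hy
      exact hinv g hg _ (hX i)
  obtain ⟨hc, hU⟩ := orbits_of_lower_bounds (H := ↥G) Ω hfin (fun h x hx => hinv h.1 h.2 x hx) X n hX
    hlow' hsum (fun i j hij hj => hdist i j hij (hfo i _ hj).symm)
  have hcls : ∀ x ∈ Ω, ∃ i, x ∈ MulAction.orbit ↥G (X i) := by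
    intro x hx
    rw [hU] at hx
    exact Set.mem_iUnion.1 hx
  have hsub : ∀ i, MulAction.orbit ↥G (X i) ⊆ Ω := by
    intro i y hy
    obtain ⟨g, hg, rfl⟩ := (horb _ _).1 hy
    exact hinv g hg _ (hX i)
  refine ⟨?_, ?_, ?_⟩
  · intro i
    have e : {x | x ∈ Ω ∧ f x = f (X i)} = MulAction.orbit ↥G (X i) := by
      ext x
      constructor
      · rintro ⟨hx, hfx⟩
        obtain ⟨j, hj⟩ := hcls x hx
        by_cases hij : j = i
        · rw [← hij]; exact hj
        · exact absurd ((hfo j x hj).symm.trans hfx) (hdist j i hij)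
      · intro hx
        exact ⟨hsub i hx, hfo i x hx⟩
    rw [e, hc i]
  · intro x hx
    obtain ⟨i, hi⟩ := hcls x hx
    exact ⟨i, hfo i x hi⟩
  · intro x hx x' hx' hff
    obtain ⟨i, hi⟩ := hcls x hx
    obtain ⟨j, hj⟩ := hcls x' hx'
    have hij : i = j := by
      by_contra hij
      exact hdist i j hij ((hfo i x hi).symm.trans (hff.trans (hfo j x' hj)))
    rw [← hij] at hj
    obtain ⟨g, hg, rfl⟩ := (horb _ _).1 hi
    obtain ⟨g', hg', rfl⟩ := (horb _ _).1 hj
    refine ⟨g' * g⁻¹, mul_mem hg' (inv_mem hg), ?_⟩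
    rw [mul_smul, inv_smul_smul]

end

/-- A successful search gives distinct sets in the orbit of the base under `stabSub F L`. -/
theorem set_orbit_fin {F : Nat} {L : List Nat} (key : Nat → Nat) {gens : List (List Nat)}
    (hgens : gens.all (tabOK F L) = true) {b : Nat} (hb : b < 2 ^ 24) {instrs : List Nat} {N : Nat}
    (hrun : orbCount pullMask key gens instrs [b] (Nat.shiftLeft 1 (key b)) 1 = N) (hN : N ≠ 0) :
    ∃ S : Finset (Finset GolayPt), S.card = N ∧ ∀ y ∈ S, ∃ g ∈ stabSub F L, g • setM b = y := by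
  rw [List.all_eq_true] at hgens
  refine orbCount_le (stabSub F L) setM (fun x => x < 2 ^ 24) ?_ (set_key key) hb hrun hN
  intro T hT
  exact ⟨tabOK_valid (hgens T hT), permT_mem_stabSub (hgens T hT),
    fun x hx => set_act (tabOK_valid (hgens T hT)) x hx⟩

end Cfsg.Agent.Helper91
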