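import Cfsg.Agent.Helper40.DZDefs
import Cfsg.Prelude.Def_Solvable
import Cfsg.Agent.Helper91.DZD1
import Cfsg.Agent.Helper91.DZC1
import Cfsg.Agent.Helper91.DZX1
import Cfsg.Agent.Helper91.DZC2
import Cfsg.Agent.Helper91.DZD2

set_option autoImplicit false

/-!
Piece D3 of CALL S4538 (helper40): the `SL_2` relation `ṡ x(c) ṡ = x(-c⁻¹) ṡ h(-c) x(-c⁻¹)`
and `ṡ² = h(-1)`.
-/

namespace Cfsg.Agent.Helper91.DZ

open Cfsg.Agent.Helper40.DZ Cfsg.Agent.Helper44.PSLn Matrix

universe u

section Mat

variable {n : ℕ} {F : Type u} [Field F]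

local notation "SLn" => Matrix.SpecialLinearGroup (Fin n) F

/-- left multiplication by `x_j(c)` -/
theorem xel_mul_apply (j : ℕ) (hj : j + 1 < n) (c : F) (M : Matrix (Fin n) (Fin n) F)
    (i k : Fin n) :
    (((xel j hj c : SLn) : Matrix (Fin n) (Fin n) F) * M) i k =
      M i k + if i = ia j hj then c * M (ib j hj) k else 0 := by
  unfold xel
  rw [Matrix.SpecialLinearGroup.transvection_coe, add_mul, one_mul, Matrix.add_apply]
  by_cases h : i = ia j hj
  · subst h
    rw [Matrix.single_mul_apply_same, if_pos rfl]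
  · rw [Matrix.single_mul_apply_of_ne _ _ _ _ _ h, if_neg h]

/-- right multiplication by `x_j(c)` -/
theorem mul_xel_apply (j : ℕ) (hj : j + 1 < n) (c : F) (M : Matrix (Fin n) (Fin n) F)
    (i k : Fin n) :
    (M * ((xel j hj c : SLn) : Matrix (Fin n) (Fin n) F)) i k =
      M i k + if k = ib j hj then M i (ia j hj) * c else 0 := by
  unfold xel
  rw [Matrix.SpecialLinearGroup.transvection_coe, mul_add, mul_one, Matrix.add_apply]
  by_cases h : k = ib j hj
  · subst h
    rw [Matrix.mul_single_apply_same, if_pos rfl]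
  · rw [Matrix.mul_single_apply_of_ne _ _ _ _ _ h, if_neg h]

/-- the entries of `x_j(c)` -/
theorem xel_coe_apply (j : ℕ) (hj : j + 1 < n) (c : F) (i k : Fin n) :
    ((xel j hj c : SLn) : Matrix (Fin n) (Fin n) F) i k =
      (if i = k then 1 else 0) + if i = ia j hj ∧ k = ib j hj then c else 0 := by
  unfold xel
  rw [Matrix.SpecialLinearGroup.transvection_coe, Matrix.add_apply, Matrix.one_apply,
    Matrix.single_apply]
  by_cases h : i = ia j hj ∧ k = ib j hj
  · have h' : ia j hj = i ∧ ib j hj = k := ⟨h.1.symm, h.2.symm⟩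
    rw [if_pos h, if_pos h']
  · have h' : ¬ (ia j hj = i ∧ ib j hj = k) := fun h' => h ⟨h'.1.symm, h'.2.symm⟩
    rw [if_neg h, if_neg h']

/-- D3a: the `SL_2` relation `ṡ x(c) ṡ = x(-c⁻¹) ṡ h(-c) x(-c⁻¹)`. -/
theorem sl2_rel (j : ℕ) (hj : j + 1 < n) (c : F) (hc : c ≠ 0) :
    sdot j hj * xel j hj c * sdot j hj =
      xel j hj (-c⁻¹) * sdot j hj * hel j hj (-c) * xel j hj (-c⁻¹) := by
  have hne : ia j hj ≠ ib j hj := ia_ne_ib j hj
  have hne' : ib j hj ≠ ia j hj := hne.symm
  apply Subtype.ext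
  simp only [Matrix.SpecialLinearGroup.coe_mul]
  ext i k
  simp only [mul_sdot_apply, mul_xel_apply, xel_mul_apply, Matrix.mul_diagonal, sdot_apply,
    hel_coe j hj (-c) (neg_ne_zero.mpr hc), xel_coe_apply]
  by_cases hi1 : i = ia j hj
  · subst hi1
    by_cases hk1 : k = ia j hj
    · subst hk1
      simp [hne, hne']
      field_simp
    · by_cases hk2 : k = ib j hj
      · subst hk2
        simp [hne, hne']
        field_simp
        ring
      · simp [hne, hne', hk1, hk2, Ne.symm hk1, Ne.symm hk2]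
  · by_cases hi2 : i = ib j hj
    · subst hi2
      by_cases hk1 : k = ia j hj
      · subst hk1
        simp [hne, hne']
      · by_cases hk2 : k = ib j hj
        · subst hk2
          simp [hne, hne']
          field_simp
        · simp [hne, hne', hk1, hk2, Ne.symm hk1, Ne.symm hk2]
    · by_cases hk1 : k = ia j hj
      · subst hk1
        simp [hne, hne', hi1, hi2, Ne.symm hi1, Ne.symm hi2]
      · by_cases hk2 : k = ib j hj
        · subst hk2
          simp [hne, hne', hi1, hi2, Ne.symm hi1, Ne.symm hi2]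
        · simp [hne, hne', hk1, hk2, Ne.symm hk1, Ne.symm hk2, hi1, hi2, Ne.symm hi1, Ne.symm hi2]

/-- D3b: `ṡ² = h(-1)`. -/
theorem sdot_sq (j : ℕ) (hj : j + 1 < n) : sdot j hj * sdot j hj = hel j hj (-1 : F) := by
  have hne : ia j hj ≠ ib j hj := ia_ne_ib j hj
  have hne' : ib j hj ≠ ia j hj := hne.symm
  apply Subtype.ext
  rw [Matrix.SpecialLinearGroup.coe_mul, hel_coe j hj (-1) (neg_ne_zero.mpr one_ne_zero)]
  ext i k
  simp only [sdot_mul_apply, sdot_apply, Matrix.diagonal_apply]
  by_cases hi1 : i = ia j hj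
  · subst hi1
    by_cases hk1 : k = ia j hj
    · subst hk1
      simp [hne, hne']
    · by_cases hk2 : k = ib j hj
      · subst hk2
        simp [hne, hne']
      · simp [hne, hne', hk1, hk2, Ne.symm hk1, Ne.symm hk2]
  · by_cases hi2 : i = ib j hj
    · subst hi2
      by_cases hk1 : k = ia j hj
      · subst hk1
        simp [hne, hne']
      · by_cases hk2 : k = ib j hj
        · subst hk2
          simp [hne, hne']
        · simp [hne, hne', hk1, hk2, Ne.symm hk1, Ne.symm hk2]
    · by_cases hk1 : k = ia j hj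
      · subst hk1
        simp [hne, hne', hi1, hi2, Ne.symm hi1, Ne.symm hi2]
      · by_cases hk2 : k = ib j hj
        · subst hk2
          simp [hne, hne', hi1, hi2, Ne.symm hi1, Ne.symm hi2]
        · simp [hne, hne', hk1, hk2, Ne.symm hk1, Ne.symm hk2, hi1, hi2, Ne.symm hi1, Ne.symm hi2]

end Mat

end Cfsg.Agent.Helper91.DZ
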