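import Mathlib

/-!
# CALL S0899 piece B2c (helper91)
-/

set_option autoImplicit false

namespace Cfsg.Agent.Helper91

universe u

variable {G : Type u} [Group G] [Finite G] {p : ℕ} [Fact p.Prime]

/-- B2c: if `P` meets the commutator subgroup trivially then `p ∤ |G'|`. -/
theorem ftb_B2c (P : Sylow p G)
    (h : ∀ x : G, x ∈ (P : Subgroup G) → x ∈ commutator G → x = 1) :
    ¬ p ∣ Nat.card (commutator G) := by
  intro hdvd
  obtain ⟨y, hy⟩ := exists_prime_orderOf_dvd_card' (G := ↥(commutator G)) p hdvd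
  have hyG : orderOf (y : G) = p := by
    rw [Subgroup.orderOf_coe]; exact hy
  have hpg : IsPGroup p ↥(Subgroup.zpowers (y : G)) := by
    apply IsPGroup.of_card (n := 1)
    rw [Nat.card_zpowers, hyG, pow_one]
  obtain ⟨P', hP'⟩ := hpg.exists_le_sylow
  obtain ⟨g, hg⟩ := MulAction.exists_smul_eq G P' P
  have hyP' : (y : G) ∈ (P' : Subgroup G) := hP' (Subgroup.mem_zpowers _)
  have hmem : g * (y : G) * g⁻¹ ∈ (P : Subgroup G) := by
    rw [← hg, Sylow.coe_subgroup_smul]
    exact Subgroup.smul_mem_pointwise_smul _ (MulAut.conj g) _ hyP'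
  have hnorm : (commutator G).Normal := inferInstance
  have hmemC : g * (y : G) * g⁻¹ ∈ commutator G := hnorm.conj_mem _ y.2 g
  have h1 := h _ hmem hmemC
  have hy1 : (y : G) = 1 := by
    have : (y : G) = g⁻¹ * (g * (y : G) * g⁻¹) * g := by group
    rw [this, h1]; group
  rw [hy1, orderOf_one] at hyG
  exact (Fact.out : p.Prime).one_lt.ne hyG

end Cfsg.Agent.Helper91
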