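import Mathlib

/-!
# CALL S0899 piece MIN2 (helper91)
-/

set_option autoImplicit false

namespace Cfsg.Agent.Helper91

universe u

variable {G : Type u} [Group G] [Finite G] {p : ℕ} [Fact p.Prime]

/-- MIN2: under minimality, two `p`-elements of a proper subgroup lie in a common Sylow
`p`-subgroup of `G`. -/
theorem ftb_MIN2
    (hmin : ∀ K : Subgroup G, K ≠ ⊤ → ∀ Q : Sylow p K, (Q : Subgroup K).Normal)
    (K : Subgroup G) (hK : K ≠ ⊤) (P₁ P₂ : Sylow p G) (x y : G) (hxK : x ∈ K) (hyK : y ∈ K)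
    (hx : x ∈ (P₁ : Subgroup G)) (hy : y ∈ (P₂ : Subgroup G)) :
    ∃ P₀ : Sylow p G, x ∈ (P₀ : Subgroup G) ∧ y ∈ (P₀ : Subgroup G) := by
  -- `p`-subgroups of `K` through `x` and `y`
  have hpx : IsPGroup p ↥((P₁ : Subgroup G).subgroupOf K) :=
    P₁.2.comap_subtype
  have hpy : IsPGroup p ↥((P₂ : Subgroup G).subgroupOf K) :=
    P₂.2.comap_subtype
  obtain ⟨Q₁, hQ₁⟩ := hpx.exists_le_sylow
  obtain ⟨Q₂, hQ₂⟩ := hpy.exists_le_sylow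
  have hQ : Q₂ = Q₁ := by
    haveI : (Q₁ : Subgroup K).Normal := hmin K hK Q₁
    obtain ⟨g, hg⟩ := MulAction.exists_smul_eq K Q₁ Q₂
    rw [Sylow.smul_eq_of_normal] at hg
    exact hg.symm
  have hxQ : (⟨x, hxK⟩ : K) ∈ (Q₁ : Subgroup K) := hQ₁ (Subgroup.mem_subgroupOf.2 hx)
  have hyQ : (⟨y, hyK⟩ : K) ∈ (Q₁ : Subgroup K) := by
    rw [← hQ]; exact hQ₂ (Subgroup.mem_subgroupOf.2 hy)
  have hpm : IsPGroup p ↥((Q₁ : Subgroup K).map K.subtype) := Q₁.2.map K.subtype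
  obtain ⟨P₀, hP₀⟩ := hpm.exists_le_sylow
  exact ⟨P₀, hP₀ (Subgroup.mem_map.2 ⟨⟨x, hxK⟩, hxQ, rfl⟩),
    hP₀ (Subgroup.mem_map.2 ⟨⟨y, hyK⟩, hyQ, rfl⟩)⟩

end Cfsg.Agent.Helper91
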