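import Mathlib

/-!
# CALL S0899 piece TR (helper91): transfer into an abelian Sylow subgroup
-/

set_option autoImplicit false

namespace Cfsg.Agent.Helper91

universe u

variable {G : Type u} [Group G] [Finite G] {p : ℕ} [Fact p.Prime]

/-- TR: transfer. A central element of an abelian Sylow `p`-subgroup lying in the commutator
subgroup is trivial (`MonoidHom.transfer_eq_pow`, `Abelianization.commutator_subset_ker`). -/
theorem ftb_TR (P : Sylow p G)
    (hab : ∀ a ∈ (P : Subgroup G), ∀ b ∈ (P : Subgroup G), a * b = b * a)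
    (z : G) (hzP : z ∈ (P : Subgroup G)) (hzZ : z ∈ Subgroup.center G)
    (hzC : z ∈ commutator G) : z = 1 := by
  letI : CommGroup ↥(P : Subgroup G) :=
    { (inferInstance : Group ↥(P : Subgroup G)) with
      mul_comm := fun a b => Subtype.ext (hab a a.2 b b.2) }
  have hker : commutator G ≤
      (MonoidHom.transfer (MonoidHom.id ↥(P : Subgroup G)) : G →* ↥(P : Subgroup G)).ker :=
    Abelianization.commutator_subset_ker _
  have h1 : MonoidHom.transfer (MonoidHom.id ↥(P : Subgroup G)) z = 1 :=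
    MonoidHom.mem_ker.1 (hker hzC)
  have key : ∀ (k : ℕ) (g₀ : G), g₀⁻¹ * z ^ k * g₀ ∈ (P : Subgroup G) →
      g₀⁻¹ * z ^ k * g₀ = z ^ k := by
    intro k g₀ _
    have hc : z ^ k ∈ Subgroup.center G := Subgroup.pow_mem _ hzZ k
    have := Subgroup.mem_center_iff.1 hc g₀
    rw [mul_assoc, ← this, inv_mul_cancel_left]
  have h2 := MonoidHom.transfer_eq_pow (MonoidHom.id ↥(P : Subgroup G)) z key
  rw [h1] at h2
  have h3 : z ^ (P : Subgroup G).index = 1 := by
    have := congrArg (fun w : ↥(P : Subgroup G) => (w : G)) h2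
    simpa using this.symm
  have hord : orderOf z ∣ (P : Subgroup G).index := orderOf_dvd_of_pow_eq_one h3
  obtain ⟨k, hk⟩ := P.2 ⟨z, hzP⟩
  have hk' : z ^ p ^ k = 1 := by
    have := congrArg (fun w : ↥(P : Subgroup G) => (w : G)) hk
    simpa using this
  have hord2 : orderOf z ∣ p ^ k := orderOf_dvd_of_pow_eq_one hk'
  obtain ⟨j, _, hj⟩ := (Nat.dvd_prime_pow (Fact.out : p.Prime)).1 hord2
  rcases Nat.eq_zero_or_pos j with h0 | h0
  · rw [h0, pow_zero] at hj
    exact orderOf_eq_one_iff.1 hj
  · exfalso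
    apply P.not_dvd_index
    exact dvd_trans (by rw [hj]; exact dvd_pow_self p h0.ne') hord

end Cfsg.Agent.Helper91
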