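/-
Helper91 (generated by scratch/h1/gen_h1.py): every crossed homomorphism of `Ω(Q)` into the natural
module is principal, for the form of type E8 over the field with two elements.
-/
import Cfsg.Agent.Helper91.H1Gen
import Cfsg.Agent.Helper45.DicksonRank

set_option autoImplicit false
set_option linter.unusedSimpArgs false
set_option linter.unnecessarySeqFocus false

namespace Cfsg.Agent.Helper91.H1.E8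

open Cfsg Matrix Cfsg.Agent.Helper45 Cfsg.Agent.Helper44 Cfsg.Agent.Helper91.H1

abbrev V : Type := Fin 4 ⊕ Fin 4 → ZMod 2

noncomputable abbrev QF : QuadraticForm (ZMod 2) V := Cfsg.Agent.Helper43.plusQF 4 (ZMod 2)

theorem hQ : (QuadraticMap.polarBilin QF).Nondegenerate := Cfsg.Agent.Helper45.plusQF_nondeg' 4

theorem hR : reflGroup QF = ⊤ := Cfsg.Agent.Helper44.reflGroup_eq_top_of QF hQ (Or.inr (by decide))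

/-- simple system -/
def U : Fin 8 → V := ![Sum.elim ![1, 0, 0, 0] ![1, 0, 0, 0], Sum.elim ![1, 1, 0, 0] ![0, 1, 0, 0], Sum.elim ![1, 0, 1, 0] ![1, 0, 0, 0], Sum.elim ![0, 0, 1, 0] ![0, 0, 1, 0], Sum.elim ![1, 1, 1, 0] ![1, 0, 0, 0], Sum.elim ![0, 1, 0, 0] ![0, 1, 0, 0], Sum.elim ![1, 1, 0, 1] ![1, 0, 0, 0], Sum.elim ![0, 1, 0, 0] ![0, 1, 0, 1]]

/-- dual basis -/
def W : Fin 8 → V := ![Sum.elim ![1, 0, 1, 0] ![0, 0, 1, 1], Sum.elim ![1, 0, 0, 0] ![1, 0, 0, 0], Sum.elim ![0, 1, 1, 0] ![0, 1, 1, 1], Sum.elim ![0, 0, 1, 0] ![0, 0, 0, 0], Sum.elim ![0, 1, 0, 0] ![0, 1, 0, 1], Sum.elim ![1, 1, 0, 1] ![1, 0, 0, 0], Sum.elim ![0, 0, 0, 0] ![0, 0, 0, 1], Sum.elim ![0, 0, 0, 1] ![0, 0, 0, 0]]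

theorem qU : ∀ k : Fin 8, QF (U k) = 1 := by decide +kernel

theorem B_0_0 : QuadraticMap.polar ⇑QF (U 0) (U 0) = 0 := by decide +kernel
theorem B_0_1 : QuadraticMap.polar ⇑QF (U 0) (U 1) = 1 := by decide +kernel
theorem B_0_2 : QuadraticMap.polar ⇑QF (U 0) (U 2) = 0 := by decide +kernel
theorem B_0_3 : QuadraticMap.polar ⇑QF (U 0) (U 3) = 0 := by decide +kernel
theorem B_0_4 : QuadraticMap.polar ⇑QF (U 0) (U 4) = 0 := by decide +kernel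
theorem B_0_5 : QuadraticMap.polar ⇑QF (U 0) (U 5) = 0 := by decide +kernel
theorem B_0_6 : QuadraticMap.polar ⇑QF (U 0) (U 6) = 0 := by decide +kernel
theorem B_0_7 : QuadraticMap.polar ⇑QF (U 0) (U 7) = 0 := by decide +kernel
theorem B_1_0 : QuadraticMap.polar ⇑QF (U 1) (U 0) = 1 := by decide +kernel
theorem B_1_1 : QuadraticMap.polar ⇑QF (U 1) (U 1) = 0 := by decide +kernel
theorem B_1_2 : QuadraticMap.polar ⇑QF (U 1) (U 2) = 1 := by decide +kernel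
theorem B_1_3 : QuadraticMap.polar ⇑QF (U 1) (U 3) = 0 := by decide +kernel
theorem B_1_4 : QuadraticMap.polar ⇑QF (U 1) (U 4) = 0 := by decide +kernel
theorem B_1_5 : QuadraticMap.polar ⇑QF (U 1) (U 5) = 0 := by decide +kernel
theorem B_1_6 : QuadraticMap.polar ⇑QF (U 1) (U 6) = 0 := by decide +kernel
theorem B_1_7 : QuadraticMap.polar ⇑QF (U 1) (U 7) = 0 := by decide +kernel
theorem B_2_0 : QuadraticMap.polar ⇑QF (U 2) (U 0) = 0 := by decide +kernel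
theorem B_2_1 : QuadraticMap.polar ⇑QF (U 2) (U 1) = 1 := by decide +kernel
theorem B_2_2 : QuadraticMap.polar ⇑QF (U 2) (U 2) = 0 := by decide +kernel
theorem B_2_3 : QuadraticMap.polar ⇑QF (U 2) (U 3) = 1 := by decide +kernel
theorem B_2_4 : QuadraticMap.polar ⇑QF (U 2) (U 4) = 0 := by decide +kernel
theorem B_2_5 : QuadraticMap.polar ⇑QF (U 2) (U 5) = 0 := by decide +kernel
theorem B_2_6 : QuadraticMap.polar ⇑QF (U 2) (U 6) = 0 := by decide +kernel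
theorem B_2_7 : QuadraticMap.polar ⇑QF (U 2) (U 7) = 0 := by decide +kernel
theorem B_3_0 : QuadraticMap.polar ⇑QF (U 3) (U 0) = 0 := by decide +kernel
theorem B_3_1 : QuadraticMap.polar ⇑QF (U 3) (U 1) = 0 := by decide +kernel
theorem B_3_2 : QuadraticMap.polar ⇑QF (U 3) (U 2) = 1 := by decide +kernel
theorem B_3_3 : QuadraticMap.polar ⇑QF (U 3) (U 3) = 0 := by decide +kernel
theorem B_3_4 : QuadraticMap.polar ⇑QF (U 3) (U 4) = 1 := by decide +kernel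
theorem B_3_5 : QuadraticMap.polar ⇑QF (U 3) (U 5) = 0 := by decide +kernel
theorem B_3_6 : QuadraticMap.polar ⇑QF (U 3) (U 6) = 0 := by decide +kernel
theorem B_3_7 : QuadraticMap.polar ⇑QF (U 3) (U 7) = 0 := by decide +kernel
theorem B_4_0 : QuadraticMap.polar ⇑QF (U 4) (U 0) = 0 := by decide +kernel
theorem B_4_1 : QuadraticMap.polar ⇑QF (U 4) (U 1) = 0 := by decide +kernel
theorem B_4_2 : QuadraticMap.polar ⇑QF (U 4) (U 2) = 0 := by decide +kernel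
theorem B_4_3 : QuadraticMap.polar ⇑QF (U 4) (U 3) = 1 := by decide +kernel
theorem B_4_4 : QuadraticMap.polar ⇑QF (U 4) (U 4) = 0 := by decide +kernel
theorem B_4_5 : QuadraticMap.polar ⇑QF (U 4) (U 5) = 1 := by decide +kernel
theorem B_4_6 : QuadraticMap.polar ⇑QF (U 4) (U 6) = 0 := by decide +kernel
theorem B_4_7 : QuadraticMap.polar ⇑QF (U 4) (U 7) = 1 := by decide +kernel
theorem B_5_0 : QuadraticMap.polar ⇑QF (U 5) (U 0) = 0 := by decide +kernel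
theorem B_5_1 : QuadraticMap.polar ⇑QF (U 5) (U 1) = 0 := by decide +kernel
theorem B_5_2 : QuadraticMap.polar ⇑QF (U 5) (U 2) = 0 := by decide +kernel
theorem B_5_3 : QuadraticMap.polar ⇑QF (U 5) (U 3) = 0 := by decide +kernel
theorem B_5_4 : QuadraticMap.polar ⇑QF (U 5) (U 4) = 1 := by decide +kernel
theorem B_5_5 : QuadraticMap.polar ⇑QF (U 5) (U 5) = 0 := by decide +kernel
theorem B_5_6 : QuadraticMap.polar ⇑QF (U 5) (U 6) = 1 := by decide +kernel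
theorem B_5_7 : QuadraticMap.polar ⇑QF (U 5) (U 7) = 0 := by decide +kernel
theorem B_6_0 : QuadraticMap.polar ⇑QF (U 6) (U 0) = 0 := by decide +kernel
theorem B_6_1 : QuadraticMap.polar ⇑QF (U 6) (U 1) = 0 := by decide +kernel
theorem B_6_2 : QuadraticMap.polar ⇑QF (U 6) (U 2) = 0 := by decide +kernel
theorem B_6_3 : QuadraticMap.polar ⇑QF (U 6) (U 3) = 0 := by decide +kernel
theorem B_6_4 : QuadraticMap.polar ⇑QF (U 6) (U 4) = 0 := by decide +kernel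
theorem B_6_5 : QuadraticMap.polar ⇑QF (U 6) (U 5) = 1 := by decide +kernel
theorem B_6_6 : QuadraticMap.polar ⇑QF (U 6) (U 6) = 0 := by decide +kernel
theorem B_6_7 : QuadraticMap.polar ⇑QF (U 6) (U 7) = 0 := by decide +kernel
theorem B_7_0 : QuadraticMap.polar ⇑QF (U 7) (U 0) = 0 := by decide +kernel
theorem B_7_1 : QuadraticMap.polar ⇑QF (U 7) (U 1) = 0 := by decide +kernel
theorem B_7_2 : QuadraticMap.polar ⇑QF (U 7) (U 2) = 0 := by decide +kernel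
theorem B_7_3 : QuadraticMap.polar ⇑QF (U 7) (U 3) = 0 := by decide +kernel
theorem B_7_4 : QuadraticMap.polar ⇑QF (U 7) (U 4) = 1 := by decide +kernel
theorem B_7_5 : QuadraticMap.polar ⇑QF (U 7) (U 5) = 0 := by decide +kernel
theorem B_7_6 : QuadraticMap.polar ⇑QF (U 7) (U 6) = 0 := by decide +kernel
theorem B_7_7 : QuadraticMap.polar ⇑QF (U 7) (U 7) = 0 := by decide +kernel

theorem W_0_0 : QuadraticMap.polar ⇑QF (W 0) (U 0) = 1 := by decide +kernel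
theorem W_0_1 : QuadraticMap.polar ⇑QF (W 0) (U 1) = 0 := by decide +kernel
theorem W_0_2 : QuadraticMap.polar ⇑QF (W 0) (U 2) = 0 := by decide +kernel
theorem W_0_3 : QuadraticMap.polar ⇑QF (W 0) (U 3) = 0 := by decide +kernel
theorem W_0_4 : QuadraticMap.polar ⇑QF (W 0) (U 4) = 0 := by decide +kernel
theorem W_0_5 : QuadraticMap.polar ⇑QF (W 0) (U 5) = 0 := by decide +kernel
theorem W_0_6 : QuadraticMap.polar ⇑QF (W 0) (U 6) = 0 := by decide +kernel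
theorem W_0_7 : QuadraticMap.polar ⇑QF (W 0) (U 7) = 0 := by decide +kernel
theorem W_1_0 : QuadraticMap.polar ⇑QF (W 1) (U 0) = 0 := by decide +kernel
theorem W_1_1 : QuadraticMap.polar ⇑QF (W 1) (U 1) = 1 := by decide +kernel
theorem W_1_2 : QuadraticMap.polar ⇑QF (W 1) (U 2) = 0 := by decide +kernel
theorem W_1_3 : QuadraticMap.polar ⇑QF (W 1) (U 3) = 0 := by decide +kernel
theorem W_1_4 : QuadraticMap.polar ⇑QF (W 1) (U 4) = 0 := by decide +kernel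
theorem W_1_5 : QuadraticMap.polar ⇑QF (W 1) (U 5) = 0 := by decide +kernel
theorem W_1_6 : QuadraticMap.polar ⇑QF (W 1) (U 6) = 0 := by decide +kernel
theorem W_1_7 : QuadraticMap.polar ⇑QF (W 1) (U 7) = 0 := by decide +kernel
theorem W_2_0 : QuadraticMap.polar ⇑QF (W 2) (U 0) = 0 := by decide +kernel
theorem W_2_1 : QuadraticMap.polar ⇑QF (W 2) (U 1) = 0 := by decide +kernel
theorem W_2_2 : QuadraticMap.polar ⇑QF (W 2) (U 2) = 1 := by decide +kernel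
theorem W_2_3 : QuadraticMap.polar ⇑QF (W 2) (U 3) = 0 := by decide +kernel
theorem W_2_4 : QuadraticMap.polar ⇑QF (W 2) (U 4) = 0 := by decide +kernel
theorem W_2_5 : QuadraticMap.polar ⇑QF (W 2) (U 5) = 0 := by decide +kernel
theorem W_2_6 : QuadraticMap.polar ⇑QF (W 2) (U 6) = 0 := by decide +kernel
theorem W_2_7 : QuadraticMap.polar ⇑QF (W 2) (U 7) = 0 := by decide +kernel
theorem W_3_0 : QuadraticMap.polar ⇑QF (W 3) (U 0) = 0 := by decide +kernel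
theorem W_3_1 : QuadraticMap.polar ⇑QF (W 3) (U 1) = 0 := by decide +kernel
theorem W_3_2 : QuadraticMap.polar ⇑QF (W 3) (U 2) = 0 := by decide +kernel
theorem W_3_3 : QuadraticMap.polar ⇑QF (W 3) (U 3) = 1 := by decide +kernel
theorem W_3_4 : QuadraticMap.polar ⇑QF (W 3) (U 4) = 0 := by decide +kernel
theorem W_3_5 : QuadraticMap.polar ⇑QF (W 3) (U 5) = 0 := by decide +kernel
theorem W_3_6 : QuadraticMap.polar ⇑QF (W 3) (U 6) = 0 := by decide +kernel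
theorem W_3_7 : QuadraticMap.polar ⇑QF (W 3) (U 7) = 0 := by decide +kernel
theorem W_4_0 : QuadraticMap.polar ⇑QF (W 4) (U 0) = 0 := by decide +kernel
theorem W_4_1 : QuadraticMap.polar ⇑QF (W 4) (U 1) = 0 := by decide +kernel
theorem W_4_2 : QuadraticMap.polar ⇑QF (W 4) (U 2) = 0 := by decide +kernel
theorem W_4_3 : QuadraticMap.polar ⇑QF (W 4) (U 3) = 0 := by decide +kernel
theorem W_4_4 : QuadraticMap.polar ⇑QF (W 4) (U 4) = 1 := by decide +kernel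
theorem W_4_5 : QuadraticMap.polar ⇑QF (W 4) (U 5) = 0 := by decide +kernel
theorem W_4_6 : QuadraticMap.polar ⇑QF (W 4) (U 6) = 0 := by decide +kernel
theorem W_4_7 : QuadraticMap.polar ⇑QF (W 4) (U 7) = 0 := by decide +kernel
theorem W_5_0 : QuadraticMap.polar ⇑QF (W 5) (U 0) = 0 := by decide +kernel
theorem W_5_1 : QuadraticMap.polar ⇑QF (W 5) (U 1) = 0 := by decide +kernel
theorem W_5_2 : QuadraticMap.polar ⇑QF (W 5) (U 2) = 0 := by decide +kernel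
theorem W_5_3 : QuadraticMap.polar ⇑QF (W 5) (U 3) = 0 := by decide +kernel
theorem W_5_4 : QuadraticMap.polar ⇑QF (W 5) (U 4) = 0 := by decide +kernel
theorem W_5_5 : QuadraticMap.polar ⇑QF (W 5) (U 5) = 1 := by decide +kernel
theorem W_5_6 : QuadraticMap.polar ⇑QF (W 5) (U 6) = 0 := by decide +kernel
theorem W_5_7 : QuadraticMap.polar ⇑QF (W 5) (U 7) = 0 := by decide +kernel
theorem W_6_0 : QuadraticMap.polar ⇑QF (W 6) (U 0) = 0 := by decide +kernel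
theorem W_6_1 : QuadraticMap.polar ⇑QF (W 6) (U 1) = 0 := by decide +kernel
theorem W_6_2 : QuadraticMap.polar ⇑QF (W 6) (U 2) = 0 := by decide +kernel
theorem W_6_3 : QuadraticMap.polar ⇑QF (W 6) (U 3) = 0 := by decide +kernel
theorem W_6_4 : QuadraticMap.polar ⇑QF (W 6) (U 4) = 0 := by decide +kernel
theorem W_6_5 : QuadraticMap.polar ⇑QF (W 6) (U 5) = 0 := by decide +kernel
theorem W_6_6 : QuadraticMap.polar ⇑QF (W 6) (U 6) = 1 := by decide +kernel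
theorem W_6_7 : QuadraticMap.polar ⇑QF (W 6) (U 7) = 0 := by decide +kernel
theorem W_7_0 : QuadraticMap.polar ⇑QF (W 7) (U 0) = 0 := by decide +kernel
theorem W_7_1 : QuadraticMap.polar ⇑QF (W 7) (U 1) = 0 := by decide +kernel
theorem W_7_2 : QuadraticMap.polar ⇑QF (W 7) (U 2) = 0 := by decide +kernel
theorem W_7_3 : QuadraticMap.polar ⇑QF (W 7) (U 3) = 0 := by decide +kernel
theorem W_7_4 : QuadraticMap.polar ⇑QF (W 7) (U 4) = 0 := by decide +kernel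
theorem W_7_5 : QuadraticMap.polar ⇑QF (W 7) (U 5) = 0 := by decide +kernel
theorem W_7_6 : QuadraticMap.polar ⇑QF (W 7) (U 6) = 0 := by decide +kernel
theorem W_7_7 : QuadraticMap.polar ⇑QF (W 7) (U 7) = 1 := by decide +kernel

theorem sep : ∀ z : V, (QuadraticMap.polar ⇑QF z (U 0) = 0 ∧ QuadraticMap.polar ⇑QF z (U 1) = 0 ∧ QuadraticMap.polar ⇑QF z (U 2) = 0 ∧ QuadraticMap.polar ⇑QF z (U 3) = 0 ∧ QuadraticMap.polar ⇑QF z (U 4) = 0 ∧ QuadraticMap.polar ⇑QF z (U 5) = 0 ∧ QuadraticMap.polar ⇑QF z (U 6) = 0 ∧ QuadraticMap.polar ⇑QF z (U 7) = 0) → z = 0 := by decide +kernel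

theorem eq_of_polar {x y : V} (h : QuadraticMap.polar ⇑QF x (U 0) = QuadraticMap.polar ⇑QF y (U 0) ∧ QuadraticMap.polar ⇑QF x (U 1) = QuadraticMap.polar ⇑QF y (U 1) ∧ QuadraticMap.polar ⇑QF x (U 2) = QuadraticMap.polar ⇑QF y (U 2) ∧ QuadraticMap.polar ⇑QF x (U 3) = QuadraticMap.polar ⇑QF y (U 3) ∧ QuadraticMap.polar ⇑QF x (U 4) = QuadraticMap.polar ⇑QF y (U 4) ∧ QuadraticMap.polar ⇑QF x (U 5) = QuadraticMap.polar ⇑QF y (U 5) ∧ QuadraticMap.polar ⇑QF x (U 6) = QuadraticMap.polar ⇑QF y (U 6) ∧ QuadraticMap.polar ⇑QF x (U 7) = QuadraticMap.polar ⇑QF y (U 7)) : x = y := by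
  apply z2_eq_of_add_eq_zero
  obtain ⟨h0, h1, h2, h3, h4, h5, h6, h7⟩ := h
  apply sep
  refine ⟨?_, ?_, ?_, ?_, ?_, ?_, ?_, ?_⟩
  · rw [QuadraticMap.polar_add_left, h0]; exact CharTwo.add_self_eq_zero _
  · rw [QuadraticMap.polar_add_left, h1]; exact CharTwo.add_self_eq_zero _
  · rw [QuadraticMap.polar_add_left, h2]; exact CharTwo.add_self_eq_zero _
  · rw [QuadraticMap.polar_add_left, h3]; exact CharTwo.add_self_eq_zero _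
  · rw [QuadraticMap.polar_add_left, h4]; exact CharTwo.add_self_eq_zero _
  · rw [QuadraticMap.polar_add_left, h5]; exact CharTwo.add_self_eq_zero _
  · rw [QuadraticMap.polar_add_left, h6]; exact CharTwo.add_self_eq_zero _
  · rw [QuadraticMap.polar_add_left, h7]; exact CharTwo.add_self_eq_zero _

def S : List V := [U 0, U 1, U 2, U 3, U 4, U 5, U 6, U 7]

def enc (w : V) : ℕ := 1 * (w (Sum.inl 0)).val + 2 * (w (Sum.inl 1)).val + 4 * (w (Sum.inl 2)).val + 8 * (w (Sum.inl 3)).val + 16 * (w (Sum.inr 0)).val + 32 * (w (Sum.inr 1)).val + 64 * (w (Sum.inr 2)).val + 128 * (w (Sum.inr 3)).val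

def tbl : List ℕ := [0, 0, 0, 0, 0, 0, 0, 0, 0, 0, 0, 0, 0, 0, 0, 0, 0, 0, 0, 22, 0, 0, 0, 0, 0, 10, 0, 0, 0, 14, 0, 18, 0, 0, 0, 0, 0, 0, 20, 2, 0, 0, 20, 12, 0, 0, 2, 12, 0, 21, 1, 0, 0, 1, 1, 0, 0, 1, 11, 0, 0, 19, 13, 0, 0, 0, 0, 0, 0, 16, 2, 4, 0, 0, 0, 0, 16, 6, 16, 16, 0, 1, 0, 1, 17, 0, 5, 0, 0, 15, 0, 17, 5, 0, 15, 0, 0, 0, 19, 3, 3, 3, 0, 0, 0, 0, 3, 13, 17, 15, 0, 0, 0, 2, 2, 0, 4, 0, 0, 18, 0, 18, 14, 0, 14, 0, 0, 4, 0, 0, 0, 0, 0, 0, 0, 0, 21, 11, 11, 11, 3, 11, 7, 9, 0, 10, 0, 22, 0, 6, 0, 2, 10, 0, 10, 0, 12, 0, 10, 0, 0, 0, 0, 8, 0, 0, 24, 8, 12, 10, 0, 0, 8, 8, 0, 0, 0, 23, 9, 0, 0, 1, 7, 0, 9, 0, 0, 9, 9, 0, 0, 13, 0, 0, 0, 0, 4, 28, 4, 4, 4, 12, 6, 8, 0, 0, 0, 0, 0, 5, 0, 3, 27, 0, 5, 0, 13, 0, 9, 0, 0, 5, 0, 5, 0, 0, 25, 7, 3, 5, 0, 0, 7, 7, 0, 0, 0, 0, 15, 7,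 0, 2, 6, 0, 6, 0, 0, 26, 8, 0, 0, 14, 0, 6, 6, 0]

def dep (w : V) : ℕ := tbl.getD (enc w) 0

theorem reach : ∀ w : V, QF w = 1 → w ∈ S ∨
    ∃ s ∈ S, QF s = 1 ∧ QuadraticMap.polar ⇑QF s w = 1 ∧ dep (w + s) < dep w := by decide +kernel

/-- the pairings of the values of a crossed homomorphism on the generators -/
noncomputable def et (f : ↥(Omega (ZMod 2) ⇑QF) → V) (j k : Fin 8) : ZMod 2 :=
  QuadraticMap.polar ⇑QF (f (pO QF hQ (U 0) (U j) (qU 0) (qU j))) (U k)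

theorem et_def (f : ↥(Omega (ZMod 2) ⇑QF) → V) (j k : Fin 8) :
    QuadraticMap.polar ⇑QF (f (pO QF hQ (U 0) (U j) (qU 0) (qU j))) (U k) = et f j k := rfl

set_option maxHeartbeats 1600000 in
theorem h1 (f : ↥(Omega (ZMod 2) ⇑QF) → V) (hf : IsCoc QF f) :
    ∃ v : V, ∀ g : ↥(Omega (ZMod 2) ⇑QF), f g = mv ⇑QF (g : ↥(isometryGroup (ZMod 2) ⇑QF)) v - v := by
  have cR_1_2 := coc_rel1 hf hQ (U 0) (U 1) (qU 0) (qU 1) B_0_1 (U 2)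
  simp only [Yv, QuadraticMap.polar_add_left, et_def, B_0_0, B_0_1, B_0_2, B_0_3, B_0_4, B_0_5, B_0_6, B_0_7, B_1_0, B_1_1, B_1_2, B_1_3, B_1_4, B_1_5, B_1_6, B_1_7, B_2_0, B_2_1, B_2_2, B_2_3, B_2_4, B_2_5, B_2_6, B_2_7, B_3_0, B_3_1, B_3_2, B_3_3, B_3_4, B_3_5, B_3_6, B_3_7, B_4_0, B_4_1, B_4_2, B_4_3, B_4_4, B_4_5, B_4_6, B_4_7, B_5_0, B_5_1, B_5_2, B_5_3, B_5_4, B_5_5, B_5_6, B_5_7, B_6_0, B_6_1, B_6_2, B_6_3, B_6_4, B_6_5, B_6_6, B_6_7, B_7_0, B_7_1, B_7_2, B_7_3, B_7_4, B_7_5, B_7_6, B_7_7, mul_zero, mul_one, zero_mul, one_mul, add_zero, zero_add] at cR_1_2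
  have cR_1_3 := coc_rel1 hf hQ (U 0) (U 1) (qU 0) (qU 1) B_0_1 (U 3)
  simp only [Yv, QuadraticMap.polar_add_left, et_def, B_0_0, B_0_1, B_0_2, B_0_3, B_0_4, B_0_5, B_0_6, B_0_7, B_1_0, B_1_1, B_1_2, B_1_3, B_1_4, B_1_5, B_1_6, B_1_7, B_2_0, B_2_1, B_2_2, B_2_3, B_2_4, B_2_5, B_2_6, B_2_7, B_3_0, B_3_1, B_3_2, B_3_3, B_3_4, B_3_5, B_3_6, B_3_7, B_4_0, B_4_1, B_4_2, B_4_3, B_4_4, B_4_5, B_4_6, B_4_7, B_5_0, B_5_1, B_5_2, B_5_3, B_5_4, B_5_5, B_5_6, B_5_7, B_6_0, B_6_1, B_6_2, B_6_3, B_6_4, B_6_5, B_6_6, B_6_7, B_7_0, B_7_1, B_7_2, B_7_3, B_7_4, B_7_5, B_7_6, B_7_7, mul_zero, mul_one, zero_mul, one_mul, add_zero, zero_add] at cR_1_3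
  have cR_1_4 := coc_rel1 hf hQ (U 0) (U 1) (qU 0) (qU 1) B_0_1 (U 4)
  simp only [Yv, QuadraticMap.polar_add_left, et_def, B_0_0, B_0_1, B_0_2, B_0_3, B_0_4, B_0_5, B_0_6, B_0_7, B_1_0, B_1_1, B_1_2, B_1_3, B_1_4, B_1_5, B_1_6, B_1_7, B_2_0, B_2_1, B_2_2, B_2_3, B_2_4, B_2_5, B_2_6, B_2_7, B_3_0, B_3_1, B_3_2, B_3_3, B_3_4, B_3_5, B_3_6, B_3_7, B_4_0, B_4_1, B_4_2, B_4_3, B_4_4, B_4_5, B_4_6, B_4_7, B_5_0, B_5_1, B_5_2, B_5_3, B_5_4, B_5_5, B_5_6, B_5_7, B_6_0, B_6_1, B_6_2, B_6_3, B_6_4, B_6_5, B_6_6, B_6_7, B_7_0, B_7_1, B_7_2, B_7_3, B_7_4, B_7_5, B_7_6, B_7_7, mul_zero, mul_one, zero_mul, one_mul, add_zero, zero_add] at cR_1_4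
  have cR_1_5 := coc_rel1 hf hQ (U 0) (U 1) (qU 0) (qU 1) B_0_1 (U 5)
  simp only [Yv, QuadraticMap.polar_add_left, et_def, B_0_0, B_0_1, B_0_2, B_0_3, B_0_4, B_0_5, B_0_6, B_0_7, B_1_0, B_1_1, B_1_2, B_1_3, B_1_4, B_1_5, B_1_6, B_1_7, B_2_0, B_2_1, B_2_2, B_2_3, B_2_4, B_2_5, B_2_6, B_2_7, B_3_0, B_3_1, B_3_2, B_3_3, B_3_4, B_3_5, B_3_6, B_3_7, B_4_0, B_4_1, B_4_2, B_4_3, B_4_4, B_4_5, B_4_6, B_4_7, B_5_0, B_5_1, B_5_2, B_5_3, B_5_4, B_5_5, B_5_6, B_5_7, B_6_0, B_6_1, B_6_2, B_6_3, B_6_4, B_6_5, B_6_6, B_6_7, B_7_0, B_7_1, B_7_2, B_7_3, B_7_4, B_7_5, B_7_6, B_7_7, mul_zero, mul_one, zero_mul, one_mul, add_zero, zero_add] at cR_1_5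
  have cR_1_6 := coc_rel1 hf hQ (U 0) (U 1) (qU 0) (qU 1) B_0_1 (U 6)
  simp only [Yv, QuadraticMap.polar_add_left, et_def, B_0_0, B_0_1, B_0_2, B_0_3, B_0_4, B_0_5, B_0_6, B_0_7, B_1_0, B_1_1, B_1_2, B_1_3, B_1_4, B_1_5, B_1_6, B_1_7, B_2_0, B_2_1, B_2_2, B_2_3, B_2_4, B_2_5, B_2_6, B_2_7, B_3_0, B_3_1, B_3_2, B_3_3, B_3_4, B_3_5, B_3_6, B_3_7, B_4_0, B_4_1, B_4_2, B_4_3, B_4_4, B_4_5, B_4_6, B_4_7, B_5_0, B_5_1, B_5_2, B_5_3, B_5_4, B_5_5, B_5_6, B_5_7, B_6_0, B_6_1, B_6_2, B_6_3, B_6_4, B_6_5, B_6_6, B_6_7, B_7_0, B_7_1, B_7_2, B_7_3, B_7_4, B_7_5, B_7_6, B_7_7, mul_zero, mul_one, zero_mul, one_mul, add_zero, zero_add] at cR_1_6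
  have cR_1_7 := coc_rel1 hf hQ (U 0) (U 1) (qU 0) (qU 1) B_0_1 (U 7)
  simp only [Yv, QuadraticMap.polar_add_left, et_def, B_0_0, B_0_1, B_0_2, B_0_3, B_0_4, B_0_5, B_0_6, B_0_7, B_1_0, B_1_1, B_1_2, B_1_3, B_1_4, B_1_5, B_1_6, B_1_7, B_2_0, B_2_1, B_2_2, B_2_3, B_2_4, B_2_5, B_2_6, B_2_7, B_3_0, B_3_1, B_3_2, B_3_3, B_3_4, B_3_5, B_3_6, B_3_7, B_4_0, B_4_1, B_4_2, B_4_3, B_4_4, B_4_5, B_4_6, B_4_7, B_5_0, B_5_1, B_5_2, B_5_3, B_5_4, B_5_5, B_5_6, B_5_7, B_6_0, B_6_1, B_6_2, B_6_3, B_6_4, B_6_5, B_6_6, B_6_7, B_7_0, B_7_1, B_7_2, B_7_3, B_7_4, B_7_5, B_7_6, B_7_7, mul_zero, mul_one, zero_mul, one_mul, add_zero, zero_add] at cR_1_7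
  have cR_2_1 := coc_rel0 hf hQ (U 0) (U 2) (qU 0) (qU 2) B_0_2 (U 1)
  simp only [Yv, QuadraticMap.polar_add_left, et_def, B_0_0, B_0_1, B_0_2, B_0_3, B_0_4, B_0_5, B_0_6, B_0_7, B_1_0, B_1_1, B_1_2, B_1_3, B_1_4, B_1_5, B_1_6, B_1_7, B_2_0, B_2_1, B_2_2, B_2_3, B_2_4, B_2_5, B_2_6, B_2_7, B_3_0, B_3_1, B_3_2, B_3_3, B_3_4, B_3_5, B_3_6, B_3_7, B_4_0, B_4_1, B_4_2, B_4_3, B_4_4, B_4_5, B_4_6, B_4_7, B_5_0, B_5_1, B_5_2, B_5_3, B_5_4, B_5_5, B_5_6, B_5_7, B_6_0, B_6_1, B_6_2, B_6_3, B_6_4, B_6_5, B_6_6, B_6_7, B_7_0, B_7_1, B_7_2, B_7_3, B_7_4, B_7_5, B_7_6, B_7_7, mul_zero, mul_one, zero_mul, one_mul, add_zero, zero_add] at cR_2_1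
  have cR_2_3 := coc_rel0 hf hQ (U 0) (U 2) (qU 0) (qU 2) B_0_2 (U 3)
  simp only [Yv, QuadraticMap.polar_add_left, et_def, B_0_0, B_0_1, B_0_2, B_0_3, B_0_4, B_0_5, B_0_6, B_0_7, B_1_0, B_1_1, B_1_2, B_1_3, B_1_4, B_1_5, B_1_6, B_1_7, B_2_0, B_2_1, B_2_2, B_2_3, B_2_4, B_2_5, B_2_6, B_2_7, B_3_0, B_3_1, B_3_2, B_3_3, B_3_4, B_3_5, B_3_6, B_3_7, B_4_0, B_4_1, B_4_2, B_4_3, B_4_4, B_4_5, B_4_6, B_4_7, B_5_0, B_5_1, B_5_2, B_5_3, B_5_4, B_5_5, B_5_6, B_5_7, B_6_0, B_6_1, B_6_2, B_6_3, B_6_4, B_6_5, B_6_6, B_6_7, B_7_0, B_7_1, B_7_2, B_7_3, B_7_4, B_7_5, B_7_6, B_7_7, mul_zero, mul_one, zero_mul, one_mul, add_zero, zero_add] at cR_2_3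
  have cR_3_1 := coc_rel0 hf hQ (U 0) (U 3) (qU 0) (qU 3) B_0_3 (U 1)
  simp only [Yv, QuadraticMap.polar_add_left, et_def, B_0_0, B_0_1, B_0_2, B_0_3, B_0_4, B_0_5, B_0_6, B_0_7, B_1_0, B_1_1, B_1_2, B_1_3, B_1_4, B_1_5, B_1_6, B_1_7, B_2_0, B_2_1, B_2_2, B_2_3, B_2_4, B_2_5, B_2_6, B_2_7, B_3_0, B_3_1, B_3_2, B_3_3, B_3_4, B_3_5, B_3_6, B_3_7, B_4_0, B_4_1, B_4_2, B_4_3, B_4_4, B_4_5, B_4_6, B_4_7, B_5_0, B_5_1, B_5_2, B_5_3, B_5_4, B_5_5, B_5_6, B_5_7, B_6_0, B_6_1, B_6_2, B_6_3, B_6_4, B_6_5, B_6_6, B_6_7, B_7_0, B_7_1, B_7_2, B_7_3, B_7_4, B_7_5, B_7_6, B_7_7, mul_zero, mul_one, zero_mul, one_mul, add_zero, zero_add] at cR_3_1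
  have cR_3_2 := coc_rel0 hf hQ (U 0) (U 3) (qU 0) (qU 3) B_0_3 (U 2)
  simp only [Yv, QuadraticMap.polar_add_left, et_def, B_0_0, B_0_1, B_0_2, B_0_3, B_0_4, B_0_5, B_0_6, B_0_7, B_1_0, B_1_1, B_1_2, B_1_3, B_1_4, B_1_5, B_1_6, B_1_7, B_2_0, B_2_1, B_2_2, B_2_3, B_2_4, B_2_5, B_2_6, B_2_7, B_3_0, B_3_1, B_3_2, B_3_3, B_3_4, B_3_5, B_3_6, B_3_7, B_4_0, B_4_1, B_4_2, B_4_3, B_4_4, B_4_5, B_4_6, B_4_7, B_5_0, B_5_1, B_5_2, B_5_3, B_5_4, B_5_5, B_5_6, B_5_7, B_6_0, B_6_1, B_6_2, B_6_3, B_6_4, B_6_5, B_6_6, B_6_7, B_7_0, B_7_1, B_7_2, B_7_3, B_7_4, B_7_5, B_7_6, B_7_7, mul_zero, mul_one, zero_mul, one_mul, add_zero, zero_add] at cR_3_2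
  have cR_4_1 := coc_rel0 hf hQ (U 0) (U 4) (qU 0) (qU 4) B_0_4 (U 1)
  simp only [Yv, QuadraticMap.polar_add_left, et_def, B_0_0, B_0_1, B_0_2, B_0_3, B_0_4, B_0_5, B_0_6, B_0_7, B_1_0, B_1_1, B_1_2, B_1_3, B_1_4, B_1_5, B_1_6, B_1_7, B_2_0, B_2_1, B_2_2, B_2_3, B_2_4, B_2_5, B_2_6, B_2_7, B_3_0, B_3_1, B_3_2, B_3_3, B_3_4, B_3_5, B_3_6, B_3_7, B_4_0, B_4_1, B_4_2, B_4_3, B_4_4, B_4_5, B_4_6, B_4_7, B_5_0, B_5_1, B_5_2, B_5_3, B_5_4, B_5_5, B_5_6, B_5_7, B_6_0, B_6_1, B_6_2, B_6_3, B_6_4, B_6_5, B_6_6, B_6_7, B_7_0, B_7_1, B_7_2, B_7_3, B_7_4, B_7_5, B_7_6, B_7_7, mul_zero, mul_one, zero_mul, one_mul, add_zero, zero_add] at cR_4_1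
  have cR_4_3 := coc_rel0 hf hQ (U 0) (U 4) (qU 0) (qU 4) B_0_4 (U 3)
  simp only [Yv, QuadraticMap.polar_add_left, et_def, B_0_0, B_0_1, B_0_2, B_0_3, B_0_4, B_0_5, B_0_6, B_0_7, B_1_0, B_1_1, B_1_2, B_1_3, B_1_4, B_1_5, B_1_6, B_1_7, B_2_0, B_2_1, B_2_2, B_2_3, B_2_4, B_2_5, B_2_6, B_2_7, B_3_0, B_3_1, B_3_2, B_3_3, B_3_4, B_3_5, B_3_6, B_3_7, B_4_0, B_4_1, B_4_2, B_4_3, B_4_4, B_4_5, B_4_6, B_4_7, B_5_0, B_5_1, B_5_2, B_5_3, B_5_4, B_5_5, B_5_6, B_5_7, B_6_0, B_6_1, B_6_2, B_6_3, B_6_4, B_6_5, B_6_6, B_6_7, B_7_0, B_7_1, B_7_2, B_7_3, B_7_4, B_7_5, B_7_6, B_7_7, mul_zero, mul_one, zero_mul, one_mul, add_zero, zero_add] at cR_4_3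
  have cR_5_1 := coc_rel0 hf hQ (U 0) (U 5) (qU 0) (qU 5) B_0_5 (U 1)
  simp only [Yv, QuadraticMap.polar_add_left, et_def, B_0_0, B_0_1, B_0_2, B_0_3, B_0_4, B_0_5, B_0_6, B_0_7, B_1_0, B_1_1, B_1_2, B_1_3, B_1_4, B_1_5, B_1_6, B_1_7, B_2_0, B_2_1, B_2_2, B_2_3, B_2_4, B_2_5, B_2_6, B_2_7, B_3_0, B_3_1, B_3_2, B_3_3, B_3_4, B_3_5, B_3_6, B_3_7, B_4_0, B_4_1, B_4_2, B_4_3, B_4_4, B_4_5, B_4_6, B_4_7, B_5_0, B_5_1, B_5_2, B_5_3, B_5_4, B_5_5, B_5_6, B_5_7, B_6_0, B_6_1, B_6_2, B_6_3, B_6_4, B_6_5, B_6_6, B_6_7, B_7_0, B_7_1, B_7_2, B_7_3, B_7_4, B_7_5, B_7_6, B_7_7, mul_zero, mul_one, zero_mul, one_mul, add_zero, zero_add] at cR_5_1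
  have cR_5_4 := coc_rel0 hf hQ (U 0) (U 5) (qU 0) (qU 5) B_0_5 (U 4)
  simp only [Yv, QuadraticMap.polar_add_left, et_def, B_0_0, B_0_1, B_0_2, B_0_3, B_0_4, B_0_5, B_0_6, B_0_7, B_1_0, B_1_1, B_1_2, B_1_3, B_1_4, B_1_5, B_1_6, B_1_7, B_2_0, B_2_1, B_2_2, B_2_3, B_2_4, B_2_5, B_2_6, B_2_7, B_3_0, B_3_1, B_3_2, B_3_3, B_3_4, B_3_5, B_3_6, B_3_7, B_4_0, B_4_1, B_4_2, B_4_3, B_4_4, B_4_5, B_4_6, B_4_7, B_5_0, B_5_1, B_5_2, B_5_3, B_5_4, B_5_5, B_5_6, B_5_7, B_6_0, B_6_1, B_6_2, B_6_3, B_6_4, B_6_5, B_6_6, B_6_7, B_7_0, B_7_1, B_7_2, B_7_3, B_7_4, B_7_5, B_7_6, B_7_7, mul_zero, mul_one, zero_mul, one_mul, add_zero, zero_add] at cR_5_4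
  have cR_6_1 := coc_rel0 hf hQ (U 0) (U 6) (qU 0) (qU 6) B_0_6 (U 1)
  simp only [Yv, QuadraticMap.polar_add_left, et_def, B_0_0, B_0_1, B_0_2, B_0_3, B_0_4, B_0_5, B_0_6, B_0_7, B_1_0, B_1_1, B_1_2, B_1_3, B_1_4, B_1_5, B_1_6, B_1_7, B_2_0, B_2_1, B_2_2, B_2_3, B_2_4, B_2_5, B_2_6, B_2_7, B_3_0, B_3_1, B_3_2, B_3_3, B_3_4, B_3_5, B_3_6, B_3_7, B_4_0, B_4_1, B_4_2, B_4_3, B_4_4, B_4_5, B_4_6, B_4_7, B_5_0, B_5_1, B_5_2, B_5_3, B_5_4, B_5_5, B_5_6, B_5_7, B_6_0, B_6_1, B_6_2, B_6_3, B_6_4, B_6_5, B_6_6, B_6_7, B_7_0, B_7_1, B_7_2, B_7_3, B_7_4, B_7_5, B_7_6, B_7_7, mul_zero, mul_one, zero_mul, one_mul, add_zero, zero_add] at cR_6_1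
  have cR_6_5 := coc_rel0 hf hQ (U 0) (U 6) (qU 0) (qU 6) B_0_6 (U 5)
  simp only [Yv, QuadraticMap.polar_add_left, et_def, B_0_0, B_0_1, B_0_2, B_0_3, B_0_4, B_0_5, B_0_6, B_0_7, B_1_0, B_1_1, B_1_2, B_1_3, B_1_4, B_1_5, B_1_6, B_1_7, B_2_0, B_2_1, B_2_2, B_2_3, B_2_4, B_2_5, B_2_6, B_2_7, B_3_0, B_3_1, B_3_2, B_3_3, B_3_4, B_3_5, B_3_6, B_3_7, B_4_0, B_4_1, B_4_2, B_4_3, B_4_4, B_4_5, B_4_6, B_4_7, B_5_0, B_5_1, B_5_2, B_5_3, B_5_4, B_5_5, B_5_6, B_5_7, B_6_0, B_6_1, B_6_2, B_6_3, B_6_4, B_6_5, B_6_6, B_6_7, B_7_0, B_7_1, B_7_2, B_7_3, B_7_4, B_7_5, B_7_6, B_7_7, mul_zero, mul_one, zero_mul, one_mul, add_zero, zero_add] at cR_6_5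
  have cR_7_1 := coc_rel0 hf hQ (U 0) (U 7) (qU 0) (qU 7) B_0_7 (U 1)
  simp only [Yv, QuadraticMap.polar_add_left, et_def, B_0_0, B_0_1, B_0_2, B_0_3, B_0_4, B_0_5, B_0_6, B_0_7, B_1_0, B_1_1, B_1_2, B_1_3, B_1_4, B_1_5, B_1_6, B_1_7, B_2_0, B_2_1, B_2_2, B_2_3, B_2_4, B_2_5, B_2_6, B_2_7, B_3_0, B_3_1, B_3_2, B_3_3, B_3_4, B_3_5, B_3_6, B_3_7, B_4_0, B_4_1, B_4_2, B_4_3, B_4_4, B_4_5, B_4_6, B_4_7, B_5_0, B_5_1, B_5_2, B_5_3, B_5_4, B_5_5, B_5_6, B_5_7, B_6_0, B_6_1, B_6_2, B_6_3, B_6_4, B_6_5, B_6_6, B_6_7, B_7_0, B_7_1, B_7_2, B_7_3, B_7_4, B_7_5, B_7_6, B_7_7, mul_zero, mul_one, zero_mul, one_mul, add_zero, zero_add] at cR_7_1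
  have cR_7_4 := coc_rel0 hf hQ (U 0) (U 7) (qU 0) (qU 7) B_0_7 (U 4)
  simp only [Yv, QuadraticMap.polar_add_left, et_def, B_0_0, B_0_1, B_0_2, B_0_3, B_0_4, B_0_5, B_0_6, B_0_7, B_1_0, B_1_1, B_1_2, B_1_3, B_1_4, B_1_5, B_1_6, B_1_7, B_2_0, B_2_1, B_2_2, B_2_3, B_2_4, B_2_5, B_2_6, B_2_7, B_3_0, B_3_1, B_3_2, B_3_3, B_3_4, B_3_5, B_3_6, B_3_7, B_4_0, B_4_1, B_4_2, B_4_3, B_4_4, B_4_5, B_4_6, B_4_7, B_5_0, B_5_1, B_5_2, B_5_3, B_5_4, B_5_5, B_5_6, B_5_7, B_6_0, B_6_1, B_6_2, B_6_3, B_6_4, B_6_5, B_6_6, B_6_7, B_7_0, B_7_1, B_7_2, B_7_3, B_7_4, B_7_5, B_7_6, B_7_7, mul_zero, mul_one, zero_mul, one_mul, add_zero, zero_add] at cR_7_4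
  have cP_1_2_3 := coc_relP1 hf hQ (U 0) (U 1) (U 2) (qU 0) (qU 1) (qU 2) B_1_2 (U 3)
  simp only [Yv, QuadraticMap.polar_add_left, et_def, B_0_0, B_0_1, B_0_2, B_0_3, B_0_4, B_0_5, B_0_6, B_0_7, B_1_0, B_1_1, B_1_2, B_1_3, B_1_4, B_1_5, B_1_6, B_1_7, B_2_0, B_2_1, B_2_2, B_2_3, B_2_4, B_2_5, B_2_6, B_2_7, B_3_0, B_3_1, B_3_2, B_3_3, B_3_4, B_3_5, B_3_6, B_3_7, B_4_0, B_4_1, B_4_2, B_4_3, B_4_4, B_4_5, B_4_6, B_4_7, B_5_0, B_5_1, B_5_2, B_5_3, B_5_4, B_5_5, B_5_6, B_5_7, B_6_0, B_6_1, B_6_2, B_6_3, B_6_4, B_6_5, B_6_6, B_6_7, B_7_0, B_7_1, B_7_2, B_7_3, B_7_4, B_7_5, B_7_6, B_7_7, mul_zero, mul_one, zero_mul, one_mul, add_zero, zero_add] at cP_1_2_3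
  have cP_1_2_4 := coc_relP1 hf hQ (U 0) (U 1) (U 2) (qU 0) (qU 1) (qU 2) B_1_2 (U 4)
  simp only [Yv, QuadraticMap.polar_add_left, et_def, B_0_0, B_0_1, B_0_2, B_0_3, B_0_4, B_0_5, B_0_6, B_0_7, B_1_0, B_1_1, B_1_2, B_1_3, B_1_4, B_1_5, B_1_6, B_1_7, B_2_0, B_2_1, B_2_2, B_2_3, B_2_4, B_2_5, B_2_6, B_2_7, B_3_0, B_3_1, B_3_2, B_3_3, B_3_4, B_3_5, B_3_6, B_3_7, B_4_0, B_4_1, B_4_2, B_4_3, B_4_4, B_4_5, B_4_6, B_4_7, B_5_0, B_5_1, B_5_2, B_5_3, B_5_4, B_5_5, B_5_6, B_5_7, B_6_0, B_6_1, B_6_2, B_6_3, B_6_4, B_6_5, B_6_6, B_6_7, B_7_0, B_7_1, B_7_2, B_7_3, B_7_4, B_7_5, B_7_6, B_7_7, mul_zero, mul_one, zero_mul, one_mul, add_zero, zero_add] at cP_1_2_4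
  have cP_1_2_5 := coc_relP1 hf hQ (U 0) (U 1) (U 2) (qU 0) (qU 1) (qU 2) B_1_2 (U 5)
  simp only [Yv, QuadraticMap.polar_add_left, et_def, B_0_0, B_0_1, B_0_2, B_0_3, B_0_4, B_0_5, B_0_6, B_0_7, B_1_0, B_1_1, B_1_2, B_1_3, B_1_4, B_1_5, B_1_6, B_1_7, B_2_0, B_2_1, B_2_2, B_2_3, B_2_4, B_2_5, B_2_6, B_2_7, B_3_0, B_3_1, B_3_2, B_3_3, B_3_4, B_3_5, B_3_6, B_3_7, B_4_0, B_4_1, B_4_2, B_4_3, B_4_4, B_4_5, B_4_6, B_4_7, B_5_0, B_5_1, B_5_2, B_5_3, B_5_4, B_5_5, B_5_6, B_5_7, B_6_0, B_6_1, B_6_2, B_6_3, B_6_4, B_6_5, B_6_6, B_6_7, B_7_0, B_7_1, B_7_2, B_7_3, B_7_4, B_7_5, B_7_6, B_7_7, mul_zero, mul_one, zero_mul, one_mul, add_zero, zero_add] at cP_1_2_5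
  have cP_1_2_6 := coc_relP1 hf hQ (U 0) (U 1) (U 2) (qU 0) (qU 1) (qU 2) B_1_2 (U 6)
  simp only [Yv, QuadraticMap.polar_add_left, et_def, B_0_0, B_0_1, B_0_2, B_0_3, B_0_4, B_0_5, B_0_6, B_0_7, B_1_0, B_1_1, B_1_2, B_1_3, B_1_4, B_1_5, B_1_6, B_1_7, B_2_0, B_2_1, B_2_2, B_2_3, B_2_4, B_2_5, B_2_6, B_2_7, B_3_0, B_3_1, B_3_2, B_3_3, B_3_4, B_3_5, B_3_6, B_3_7, B_4_0, B_4_1, B_4_2, B_4_3, B_4_4, B_4_5, B_4_6, B_4_7, B_5_0, B_5_1, B_5_2, B_5_3, B_5_4, B_5_5, B_5_6, B_5_7, B_6_0, B_6_1, B_6_2, B_6_3, B_6_4, B_6_5, B_6_6, B_6_7, B_7_0, B_7_1, B_7_2, B_7_3, B_7_4, B_7_5, B_7_6, B_7_7, mul_zero, mul_one, zero_mul, one_mul, add_zero, zero_add] at cP_1_2_6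
  have cP_1_2_7 := coc_relP1 hf hQ (U 0) (U 1) (U 2) (qU 0) (qU 1) (qU 2) B_1_2 (U 7)
  simp only [Yv, QuadraticMap.polar_add_left, et_def, B_0_0, B_0_1, B_0_2, B_0_3, B_0_4, B_0_5, B_0_6, B_0_7, B_1_0, B_1_1, B_1_2, B_1_3, B_1_4, B_1_5, B_1_6, B_1_7, B_2_0, B_2_1, B_2_2, B_2_3, B_2_4, B_2_5, B_2_6, B_2_7, B_3_0, B_3_1, B_3_2, B_3_3, B_3_4, B_3_5, B_3_6, B_3_7, B_4_0, B_4_1, B_4_2, B_4_3, B_4_4, B_4_5, B_4_6, B_4_7, B_5_0, B_5_1, B_5_2, B_5_3, B_5_4, B_5_5, B_5_6, B_5_7, B_6_0, B_6_1, B_6_2, B_6_3, B_6_4, B_6_5, B_6_6, B_6_7, B_7_0, B_7_1, B_7_2, B_7_3, B_7_4, B_7_5, B_7_6, B_7_7, mul_zero, mul_one, zero_mul, one_mul, add_zero, zero_add] at cP_1_2_7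
  have cP_1_3_0 := coc_relP0 hf hQ (U 0) (U 1) (U 3) (qU 0) (qU 1) (qU 3) B_1_3 (U 0)
  simp only [Yv, QuadraticMap.polar_add_left, et_def, B_0_0, B_0_1, B_0_2, B_0_3, B_0_4, B_0_5, B_0_6, B_0_7, B_1_0, B_1_1, B_1_2, B_1_3, B_1_4, B_1_5, B_1_6, B_1_7, B_2_0, B_2_1, B_2_2, B_2_3, B_2_4, B_2_5, B_2_6, B_2_7, B_3_0, B_3_1, B_3_2, B_3_3, B_3_4, B_3_5, B_3_6, B_3_7, B_4_0, B_4_1, B_4_2, B_4_3, B_4_4, B_4_5, B_4_6, B_4_7, B_5_0, B_5_1, B_5_2, B_5_3, B_5_4, B_5_5, B_5_6, B_5_7, B_6_0, B_6_1, B_6_2, B_6_3, B_6_4, B_6_5, B_6_6, B_6_7, B_7_0, B_7_1, B_7_2, B_7_3, B_7_4, B_7_5, B_7_6, B_7_7, mul_zero, mul_one, zero_mul, one_mul, add_zero, zero_add] at cP_1_3_0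
  have cP_1_4_0 := coc_relP0 hf hQ (U 0) (U 1) (U 4) (qU 0) (qU 1) (qU 4) B_1_4 (U 0)
  simp only [Yv, QuadraticMap.polar_add_left, et_def, B_0_0, B_0_1, B_0_2, B_0_3, B_0_4, B_0_5, B_0_6, B_0_7, B_1_0, B_1_1, B_1_2, B_1_3, B_1_4, B_1_5, B_1_6, B_1_7, B_2_0, B_2_1, B_2_2, B_2_3, B_2_4, B_2_5, B_2_6, B_2_7, B_3_0, B_3_1, B_3_2, B_3_3, B_3_4, B_3_5, B_3_6, B_3_7, B_4_0, B_4_1, B_4_2, B_4_3, B_4_4, B_4_5, B_4_6, B_4_7, B_5_0, B_5_1, B_5_2, B_5_3, B_5_4, B_5_5, B_5_6, B_5_7, B_6_0, B_6_1, B_6_2, B_6_3, B_6_4, B_6_5, B_6_6, B_6_7, B_7_0, B_7_1, B_7_2, B_7_3, B_7_4, B_7_5, B_7_6, B_7_7, mul_zero, mul_one, zero_mul, one_mul, add_zero, zero_add] at cP_1_4_0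
  have cP_1_5_0 := coc_relP0 hf hQ (U 0) (U 1) (U 5) (qU 0) (qU 1) (qU 5) B_1_5 (U 0)
  simp only [Yv, QuadraticMap.polar_add_left, et_def, B_0_0, B_0_1, B_0_2, B_0_3, B_0_4, B_0_5, B_0_6, B_0_7, B_1_0, B_1_1, B_1_2, B_1_3, B_1_4, B_1_5, B_1_6, B_1_7, B_2_0, B_2_1, B_2_2, B_2_3, B_2_4, B_2_5, B_2_6, B_2_7, B_3_0, B_3_1, B_3_2, B_3_3, B_3_4, B_3_5, B_3_6, B_3_7, B_4_0, B_4_1, B_4_2, B_4_3, B_4_4, B_4_5, B_4_6, B_4_7, B_5_0, B_5_1, B_5_2, B_5_3, B_5_4, B_5_5, B_5_6, B_5_7, B_6_0, B_6_1, B_6_2, B_6_3, B_6_4, B_6_5, B_6_6, B_6_7, B_7_0, B_7_1, B_7_2, B_7_3, B_7_4, B_7_5, B_7_6, B_7_7, mul_zero, mul_one, zero_mul, one_mul, add_zero, zero_add] at cP_1_5_0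
  have cP_1_6_0 := coc_relP0 hf hQ (U 0) (U 1) (U 6) (qU 0) (qU 1) (qU 6) B_1_6 (U 0)
  simp only [Yv, QuadraticMap.polar_add_left, et_def, B_0_0, B_0_1, B_0_2, B_0_3, B_0_4, B_0_5, B_0_6, B_0_7, B_1_0, B_1_1, B_1_2, B_1_3, B_1_4, B_1_5, B_1_6, B_1_7, B_2_0, B_2_1, B_2_2, B_2_3, B_2_4, B_2_5, B_2_6, B_2_7, B_3_0, B_3_1, B_3_2, B_3_3, B_3_4, B_3_5, B_3_6, B_3_7, B_4_0, B_4_1, B_4_2, B_4_3, B_4_4, B_4_5, B_4_6, B_4_7, B_5_0, B_5_1, B_5_2, B_5_3, B_5_4, B_5_5, B_5_6, B_5_7, B_6_0, B_6_1, B_6_2, B_6_3, B_6_4, B_6_5, B_6_6, B_6_7, B_7_0, B_7_1, B_7_2, B_7_3, B_7_4, B_7_5, B_7_6, B_7_7, mul_zero, mul_one, zero_mul, one_mul, add_zero, zero_add] at cP_1_6_0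
  have cP_1_7_0 := coc_relP0 hf hQ (U 0) (U 1) (U 7) (qU 0) (qU 1) (qU 7) B_1_7 (U 0)
  simp only [Yv, QuadraticMap.polar_add_left, et_def, B_0_0, B_0_1, B_0_2, B_0_3, B_0_4, B_0_5, B_0_6, B_0_7, B_1_0, B_1_1, B_1_2, B_1_3, B_1_4, B_1_5, B_1_6, B_1_7, B_2_0, B_2_1, B_2_2, B_2_3, B_2_4, B_2_5, B_2_6, B_2_7, B_3_0, B_3_1, B_3_2, B_3_3, B_3_4, B_3_5, B_3_6, B_3_7, B_4_0, B_4_1, B_4_2, B_4_3, B_4_4, B_4_5, B_4_6, B_4_7, B_5_0, B_5_1, B_5_2, B_5_3, B_5_4, B_5_5, B_5_6, B_5_7, B_6_0, B_6_1, B_6_2, B_6_3, B_6_4, B_6_5, B_6_6, B_6_7, B_7_0, B_7_1, B_7_2, B_7_3, B_7_4, B_7_5, B_7_6, B_7_7, mul_zero, mul_one, zero_mul, one_mul, add_zero, zero_add] at cP_1_7_0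
  have cP_2_3_4 := coc_relP1 hf hQ (U 0) (U 2) (U 3) (qU 0) (qU 2) (qU 3) B_2_3 (U 4)
  simp only [Yv, QuadraticMap.polar_add_left, et_def, B_0_0, B_0_1, B_0_2, B_0_3, B_0_4, B_0_5, B_0_6, B_0_7, B_1_0, B_1_1, B_1_2, B_1_3, B_1_4, B_1_5, B_1_6, B_1_7, B_2_0, B_2_1, B_2_2, B_2_3, B_2_4, B_2_5, B_2_6, B_2_7, B_3_0, B_3_1, B_3_2, B_3_3, B_3_4, B_3_5, B_3_6, B_3_7, B_4_0, B_4_1, B_4_2, B_4_3, B_4_4, B_4_5, B_4_6, B_4_7, B_5_0, B_5_1, B_5_2, B_5_3, B_5_4, B_5_5, B_5_6, B_5_7, B_6_0, B_6_1, B_6_2, B_6_3, B_6_4, B_6_5, B_6_6, B_6_7, B_7_0, B_7_1, B_7_2, B_7_3, B_7_4, B_7_5, B_7_6, B_7_7, mul_zero, mul_one, zero_mul, one_mul, add_zero, zero_add] at cP_2_3_4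
  have cP_2_3_5 := coc_relP1 hf hQ (U 0) (U 2) (U 3) (qU 0) (qU 2) (qU 3) B_2_3 (U 5)
  simp only [Yv, QuadraticMap.polar_add_left, et_def, B_0_0, B_0_1, B_0_2, B_0_3, B_0_4, B_0_5, B_0_6, B_0_7, B_1_0, B_1_1, B_1_2, B_1_3, B_1_4, B_1_5, B_1_6, B_1_7, B_2_0, B_2_1, B_2_2, B_2_3, B_2_4, B_2_5, B_2_6, B_2_7, B_3_0, B_3_1, B_3_2, B_3_3, B_3_4, B_3_5, B_3_6, B_3_7, B_4_0, B_4_1, B_4_2, B_4_3, B_4_4, B_4_5, B_4_6, B_4_7, B_5_0, B_5_1, B_5_2, B_5_3, B_5_4, B_5_5, B_5_6, B_5_7, B_6_0, B_6_1, B_6_2, B_6_3, B_6_4, B_6_5, B_6_6, B_6_7, B_7_0, B_7_1, B_7_2, B_7_3, B_7_4, B_7_5, B_7_6, B_7_7, mul_zero, mul_one, zero_mul, one_mul, add_zero, zero_add] at cP_2_3_5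
  have cP_2_3_6 := coc_relP1 hf hQ (U 0) (U 2) (U 3) (qU 0) (qU 2) (qU 3) B_2_3 (U 6)
  simp only [Yv, QuadraticMap.polar_add_left, et_def, B_0_0, B_0_1, B_0_2, B_0_3, B_0_4, B_0_5, B_0_6, B_0_7, B_1_0, B_1_1, B_1_2, B_1_3, B_1_4, B_1_5, B_1_6, B_1_7, B_2_0, B_2_1, B_2_2, B_2_3, B_2_4, B_2_5, B_2_6, B_2_7, B_3_0, B_3_1, B_3_2, B_3_3, B_3_4, B_3_5, B_3_6, B_3_7, B_4_0, B_4_1, B_4_2, B_4_3, B_4_4, B_4_5, B_4_6, B_4_7, B_5_0, B_5_1, B_5_2, B_5_3, B_5_4, B_5_5, B_5_6, B_5_7, B_6_0, B_6_1, B_6_2, B_6_3, B_6_4, B_6_5, B_6_6, B_6_7, B_7_0, B_7_1, B_7_2, B_7_3, B_7_4, B_7_5, B_7_6, B_7_7, mul_zero, mul_one, zero_mul, one_mul, add_zero, zero_add] at cP_2_3_6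
  have cP_2_3_7 := coc_relP1 hf hQ (U 0) (U 2) (U 3) (qU 0) (qU 2) (qU 3) B_2_3 (U 7)
  simp only [Yv, QuadraticMap.polar_add_left, et_def, B_0_0, B_0_1, B_0_2, B_0_3, B_0_4, B_0_5, B_0_6, B_0_7, B_1_0, B_1_1, B_1_2, B_1_3, B_1_4, B_1_5, B_1_6, B_1_7, B_2_0, B_2_1, B_2_2, B_2_3, B_2_4, B_2_5, B_2_6, B_2_7, B_3_0, B_3_1, B_3_2, B_3_3, B_3_4, B_3_5, B_3_6, B_3_7, B_4_0, B_4_1, B_4_2, B_4_3, B_4_4, B_4_5, B_4_6, B_4_7, B_5_0, B_5_1, B_5_2, B_5_3, B_5_4, B_5_5, B_5_6, B_5_7, B_6_0, B_6_1, B_6_2, B_6_3, B_6_4, B_6_5, B_6_6, B_6_7, B_7_0, B_7_1, B_7_2, B_7_3, B_7_4, B_7_5, B_7_6, B_7_7, mul_zero, mul_one, zero_mul, one_mul, add_zero, zero_add] at cP_2_3_7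
  have cP_2_4_1 := coc_relP0 hf hQ (U 0) (U 2) (U 4) (qU 0) (qU 2) (qU 4) B_2_4 (U 1)
  simp only [Yv, QuadraticMap.polar_add_left, et_def, B_0_0, B_0_1, B_0_2, B_0_3, B_0_4, B_0_5, B_0_6, B_0_7, B_1_0, B_1_1, B_1_2, B_1_3, B_1_4, B_1_5, B_1_6, B_1_7, B_2_0, B_2_1, B_2_2, B_2_3, B_2_4, B_2_5, B_2_6, B_2_7, B_3_0, B_3_1, B_3_2, B_3_3, B_3_4, B_3_5, B_3_6, B_3_7, B_4_0, B_4_1, B_4_2, B_4_3, B_4_4, B_4_5, B_4_6, B_4_7, B_5_0, B_5_1, B_5_2, B_5_3, B_5_4, B_5_5, B_5_6, B_5_7, B_6_0, B_6_1, B_6_2, B_6_3, B_6_4, B_6_5, B_6_6, B_6_7, B_7_0, B_7_1, B_7_2, B_7_3, B_7_4, B_7_5, B_7_6, B_7_7, mul_zero, mul_one, zero_mul, one_mul, add_zero, zero_add] at cP_2_4_1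
  have cP_2_5_1 := coc_relP0 hf hQ (U 0) (U 2) (U 5) (qU 0) (qU 2) (qU 5) B_2_5 (U 1)
  simp only [Yv, QuadraticMap.polar_add_left, et_def, B_0_0, B_0_1, B_0_2, B_0_3, B_0_4, B_0_5, B_0_6, B_0_7, B_1_0, B_1_1, B_1_2, B_1_3, B_1_4, B_1_5, B_1_6, B_1_7, B_2_0, B_2_1, B_2_2, B_2_3, B_2_4, B_2_5, B_2_6, B_2_7, B_3_0, B_3_1, B_3_2, B_3_3, B_3_4, B_3_5, B_3_6, B_3_7, B_4_0, B_4_1, B_4_2, B_4_3, B_4_4, B_4_5, B_4_6, B_4_7, B_5_0, B_5_1, B_5_2, B_5_3, B_5_4, B_5_5, B_5_6, B_5_7, B_6_0, B_6_1, B_6_2, B_6_3, B_6_4, B_6_5, B_6_6, B_6_7, B_7_0, B_7_1, B_7_2, B_7_3, B_7_4, B_7_5, B_7_6, B_7_7, mul_zero, mul_one, zero_mul, one_mul, add_zero, zero_add] at cP_2_5_1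
  have cP_2_6_1 := coc_relP0 hf hQ (U 0) (U 2) (U 6) (qU 0) (qU 2) (qU 6) B_2_6 (U 1)
  simp only [Yv, QuadraticMap.polar_add_left, et_def, B_0_0, B_0_1, B_0_2, B_0_3, B_0_4, B_0_5, B_0_6, B_0_7, B_1_0, B_1_1, B_1_2, B_1_3, B_1_4, B_1_5, B_1_6, B_1_7, B_2_0, B_2_1, B_2_2, B_2_3, B_2_4, B_2_5, B_2_6, B_2_7, B_3_0, B_3_1, B_3_2, B_3_3, B_3_4, B_3_5, B_3_6, B_3_7, B_4_0, B_4_1, B_4_2, B_4_3, B_4_4, B_4_5, B_4_6, B_4_7, B_5_0, B_5_1, B_5_2, B_5_3, B_5_4, B_5_5, B_5_6, B_5_7, B_6_0, B_6_1, B_6_2, B_6_3, B_6_4, B_6_5, B_6_6, B_6_7, B_7_0, B_7_1, B_7_2, B_7_3, B_7_4, B_7_5, B_7_6, B_7_7, mul_zero, mul_one, zero_mul, one_mul, add_zero, zero_add] at cP_2_6_1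
  have cP_2_7_1 := coc_relP0 hf hQ (U 0) (U 2) (U 7) (qU 0) (qU 2) (qU 7) B_2_7 (U 1)
  simp only [Yv, QuadraticMap.polar_add_left, et_def, B_0_0, B_0_1, B_0_2, B_0_3, B_0_4, B_0_5, B_0_6, B_0_7, B_1_0, B_1_1, B_1_2, B_1_3, B_1_4, B_1_5, B_1_6, B_1_7, B_2_0, B_2_1, B_2_2, B_2_3, B_2_4, B_2_5, B_2_6, B_2_7, B_3_0, B_3_1, B_3_2, B_3_3, B_3_4, B_3_5, B_3_6, B_3_7, B_4_0, B_4_1, B_4_2, B_4_3, B_4_4, B_4_5, B_4_6, B_4_7, B_5_0, B_5_1, B_5_2, B_5_3, B_5_4, B_5_5, B_5_6, B_5_7, B_6_0, B_6_1, B_6_2, B_6_3, B_6_4, B_6_5, B_6_6, B_6_7, B_7_0, B_7_1, B_7_2, B_7_3, B_7_4, B_7_5, B_7_6, B_7_7, mul_zero, mul_one, zero_mul, one_mul, add_zero, zero_add] at cP_2_7_1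
  have cP_3_4_5 := coc_relP1 hf hQ (U 0) (U 3) (U 4) (qU 0) (qU 3) (qU 4) B_3_4 (U 5)
  simp only [Yv, QuadraticMap.polar_add_left, et_def, B_0_0, B_0_1, B_0_2, B_0_3, B_0_4, B_0_5, B_0_6, B_0_7, B_1_0, B_1_1, B_1_2, B_1_3, B_1_4, B_1_5, B_1_6, B_1_7, B_2_0, B_2_1, B_2_2, B_2_3, B_2_4, B_2_5, B_2_6, B_2_7, B_3_0, B_3_1, B_3_2, B_3_3, B_3_4, B_3_5, B_3_6, B_3_7, B_4_0, B_4_1, B_4_2, B_4_3, B_4_4, B_4_5, B_4_6, B_4_7, B_5_0, B_5_1, B_5_2, B_5_3, B_5_4, B_5_5, B_5_6, B_5_7, B_6_0, B_6_1, B_6_2, B_6_3, B_6_4, B_6_5, B_6_6, B_6_7, B_7_0, B_7_1, B_7_2, B_7_3, B_7_4, B_7_5, B_7_6, B_7_7, mul_zero, mul_one, zero_mul, one_mul, add_zero, zero_add] at cP_3_4_5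
  have cP_3_4_6 := coc_relP1 hf hQ (U 0) (U 3) (U 4) (qU 0) (qU 3) (qU 4) B_3_4 (U 6)
  simp only [Yv, QuadraticMap.polar_add_left, et_def, B_0_0, B_0_1, B_0_2, B_0_3, B_0_4, B_0_5, B_0_6, B_0_7, B_1_0, B_1_1, B_1_2, B_1_3, B_1_4, B_1_5, B_1_6, B_1_7, B_2_0, B_2_1, B_2_2, B_2_3, B_2_4, B_2_5, B_2_6, B_2_7, B_3_0, B_3_1, B_3_2, B_3_3, B_3_4, B_3_5, B_3_6, B_3_7, B_4_0, B_4_1, B_4_2, B_4_3, B_4_4, B_4_5, B_4_6, B_4_7, B_5_0, B_5_1, B_5_2, B_5_3, B_5_4, B_5_5, B_5_6, B_5_7, B_6_0, B_6_1, B_6_2, B_6_3, B_6_4, B_6_5, B_6_6, B_6_7, B_7_0, B_7_1, B_7_2, B_7_3, B_7_4, B_7_5, B_7_6, B_7_7, mul_zero, mul_one, zero_mul, one_mul, add_zero, zero_add] at cP_3_4_6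
  have cP_3_4_7 := coc_relP1 hf hQ (U 0) (U 3) (U 4) (qU 0) (qU 3) (qU 4) B_3_4 (U 7)
  simp only [Yv, QuadraticMap.polar_add_left, et_def, B_0_0, B_0_1, B_0_2, B_0_3, B_0_4, B_0_5, B_0_6, B_0_7, B_1_0, B_1_1, B_1_2, B_1_3, B_1_4, B_1_5, B_1_6, B_1_7, B_2_0, B_2_1, B_2_2, B_2_3, B_2_4, B_2_5, B_2_6, B_2_7, B_3_0, B_3_1, B_3_2, B_3_3, B_3_4, B_3_5, B_3_6, B_3_7, B_4_0, B_4_1, B_4_2, B_4_3, B_4_4, B_4_5, B_4_6, B_4_7, B_5_0, B_5_1, B_5_2, B_5_3, B_5_4, B_5_5, B_5_6, B_5_7, B_6_0, B_6_1, B_6_2, B_6_3, B_6_4, B_6_5, B_6_6, B_6_7, B_7_0, B_7_1, B_7_2, B_7_3, B_7_4, B_7_5, B_7_6, B_7_7, mul_zero, mul_one, zero_mul, one_mul, add_zero, zero_add] at cP_3_4_7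
  have cP_3_5_2 := coc_relP0 hf hQ (U 0) (U 3) (U 5) (qU 0) (qU 3) (qU 5) B_3_5 (U 2)
  simp only [Yv, QuadraticMap.polar_add_left, et_def, B_0_0, B_0_1, B_0_2, B_0_3, B_0_4, B_0_5, B_0_6, B_0_7, B_1_0, B_1_1, B_1_2, B_1_3, B_1_4, B_1_5, B_1_6, B_1_7, B_2_0, B_2_1, B_2_2, B_2_3, B_2_4, B_2_5, B_2_6, B_2_7, B_3_0, B_3_1, B_3_2, B_3_3, B_3_4, B_3_5, B_3_6, B_3_7, B_4_0, B_4_1, B_4_2, B_4_3, B_4_4, B_4_5, B_4_6, B_4_7, B_5_0, B_5_1, B_5_2, B_5_3, B_5_4, B_5_5, B_5_6, B_5_7, B_6_0, B_6_1, B_6_2, B_6_3, B_6_4, B_6_5, B_6_6, B_6_7, B_7_0, B_7_1, B_7_2, B_7_3, B_7_4, B_7_5, B_7_6, B_7_7, mul_zero, mul_one, zero_mul, one_mul, add_zero, zero_add] at cP_3_5_2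
  have cP_3_6_2 := coc_relP0 hf hQ (U 0) (U 3) (U 6) (qU 0) (qU 3) (qU 6) B_3_6 (U 2)
  simp only [Yv, QuadraticMap.polar_add_left, et_def, B_0_0, B_0_1, B_0_2, B_0_3, B_0_4, B_0_5, B_0_6, B_0_7, B_1_0, B_1_1, B_1_2, B_1_3, B_1_4, B_1_5, B_1_6, B_1_7, B_2_0, B_2_1, B_2_2, B_2_3, B_2_4, B_2_5, B_2_6, B_2_7, B_3_0, B_3_1, B_3_2, B_3_3, B_3_4, B_3_5, B_3_6, B_3_7, B_4_0, B_4_1, B_4_2, B_4_3, B_4_4, B_4_5, B_4_6, B_4_7, B_5_0, B_5_1, B_5_2, B_5_3, B_5_4, B_5_5, B_5_6, B_5_7, B_6_0, B_6_1, B_6_2, B_6_3, B_6_4, B_6_5, B_6_6, B_6_7, B_7_0, B_7_1, B_7_2, B_7_3, B_7_4, B_7_5, B_7_6, B_7_7, mul_zero, mul_one, zero_mul, one_mul, add_zero, zero_add] at cP_3_6_2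
  have cP_3_7_2 := coc_relP0 hf hQ (U 0) (U 3) (U 7) (qU 0) (qU 3) (qU 7) B_3_7 (U 2)
  simp only [Yv, QuadraticMap.polar_add_left, et_def, B_0_0, B_0_1, B_0_2, B_0_3, B_0_4, B_0_5, B_0_6, B_0_7, B_1_0, B_1_1, B_1_2, B_1_3, B_1_4, B_1_5, B_1_6, B_1_7, B_2_0, B_2_1, B_2_2, B_2_3, B_2_4, B_2_5, B_2_6, B_2_7, B_3_0, B_3_1, B_3_2, B_3_3, B_3_4, B_3_5, B_3_6, B_3_7, B_4_0, B_4_1, B_4_2, B_4_3, B_4_4, B_4_5, B_4_6, B_4_7, B_5_0, B_5_1, B_5_2, B_5_3, B_5_4, B_5_5, B_5_6, B_5_7, B_6_0, B_6_1, B_6_2, B_6_3, B_6_4, B_6_5, B_6_6, B_6_7, B_7_0, B_7_1, B_7_2, B_7_3, B_7_4, B_7_5, B_7_6, B_7_7, mul_zero, mul_one, zero_mul, one_mul, add_zero, zero_add] at cP_3_7_2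
  have cP_4_5_6 := coc_relP1 hf hQ (U 0) (U 4) (U 5) (qU 0) (qU 4) (qU 5) B_4_5 (U 6)
  simp only [Yv, QuadraticMap.polar_add_left, et_def, B_0_0, B_0_1, B_0_2, B_0_3, B_0_4, B_0_5, B_0_6, B_0_7, B_1_0, B_1_1, B_1_2, B_1_3, B_1_4, B_1_5, B_1_6, B_1_7, B_2_0, B_2_1, B_2_2, B_2_3, B_2_4, B_2_5, B_2_6, B_2_7, B_3_0, B_3_1, B_3_2, B_3_3, B_3_4, B_3_5, B_3_6, B_3_7, B_4_0, B_4_1, B_4_2, B_4_3, B_4_4, B_4_5, B_4_6, B_4_7, B_5_0, B_5_1, B_5_2, B_5_3, B_5_4, B_5_5, B_5_6, B_5_7, B_6_0, B_6_1, B_6_2, B_6_3, B_6_4, B_6_5, B_6_6, B_6_7, B_7_0, B_7_1, B_7_2, B_7_3, B_7_4, B_7_5, B_7_6, B_7_7, mul_zero, mul_one, zero_mul, one_mul, add_zero, zero_add] at cP_4_5_6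
  have cP_4_5_7 := coc_relP1 hf hQ (U 0) (U 4) (U 5) (qU 0) (qU 4) (qU 5) B_4_5 (U 7)
  simp only [Yv, QuadraticMap.polar_add_left, et_def, B_0_0, B_0_1, B_0_2, B_0_3, B_0_4, B_0_5, B_0_6, B_0_7, B_1_0, B_1_1, B_1_2, B_1_3, B_1_4, B_1_5, B_1_6, B_1_7, B_2_0, B_2_1, B_2_2, B_2_3, B_2_4, B_2_5, B_2_6, B_2_7, B_3_0, B_3_1, B_3_2, B_3_3, B_3_4, B_3_5, B_3_6, B_3_7, B_4_0, B_4_1, B_4_2, B_4_3, B_4_4, B_4_5, B_4_6, B_4_7, B_5_0, B_5_1, B_5_2, B_5_3, B_5_4, B_5_5, B_5_6, B_5_7, B_6_0, B_6_1, B_6_2, B_6_3, B_6_4, B_6_5, B_6_6, B_6_7, B_7_0, B_7_1, B_7_2, B_7_3, B_7_4, B_7_5, B_7_6, B_7_7, mul_zero, mul_one, zero_mul, one_mul, add_zero, zero_add] at cP_4_5_7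
  have cP_4_6_3 := coc_relP0 hf hQ (U 0) (U 4) (U 6) (qU 0) (qU 4) (qU 6) B_4_6 (U 3)
  simp only [Yv, QuadraticMap.polar_add_left, et_def, B_0_0, B_0_1, B_0_2, B_0_3, B_0_4, B_0_5, B_0_6, B_0_7, B_1_0, B_1_1, B_1_2, B_1_3, B_1_4, B_1_5, B_1_6, B_1_7, B_2_0, B_2_1, B_2_2, B_2_3, B_2_4, B_2_5, B_2_6, B_2_7, B_3_0, B_3_1, B_3_2, B_3_3, B_3_4, B_3_5, B_3_6, B_3_7, B_4_0, B_4_1, B_4_2, B_4_3, B_4_4, B_4_5, B_4_6, B_4_7, B_5_0, B_5_1, B_5_2, B_5_3, B_5_4, B_5_5, B_5_6, B_5_7, B_6_0, B_6_1, B_6_2, B_6_3, B_6_4, B_6_5, B_6_6, B_6_7, B_7_0, B_7_1, B_7_2, B_7_3, B_7_4, B_7_5, B_7_6, B_7_7, mul_zero, mul_one, zero_mul, one_mul, add_zero, zero_add] at cP_4_6_3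
  have cP_4_7_5 := coc_relP1 hf hQ (U 0) (U 4) (U 7) (qU 0) (qU 4) (qU 7) B_4_7 (U 5)
  simp only [Yv, QuadraticMap.polar_add_left, et_def, B_0_0, B_0_1, B_0_2, B_0_3, B_0_4, B_0_5, B_0_6, B_0_7, B_1_0, B_1_1, B_1_2, B_1_3, B_1_4, B_1_5, B_1_6, B_1_7, B_2_0, B_2_1, B_2_2, B_2_3, B_2_4, B_2_5, B_2_6, B_2_7, B_3_0, B_3_1, B_3_2, B_3_3, B_3_4, B_3_5, B_3_6, B_3_7, B_4_0, B_4_1, B_4_2, B_4_3, B_4_4, B_4_5, B_4_6, B_4_7, B_5_0, B_5_1, B_5_2, B_5_3, B_5_4, B_5_5, B_5_6, B_5_7, B_6_0, B_6_1, B_6_2, B_6_3, B_6_4, B_6_5, B_6_6, B_6_7, B_7_0, B_7_1, B_7_2, B_7_3, B_7_4, B_7_5, B_7_6, B_7_7, mul_zero, mul_one, zero_mul, one_mul, add_zero, zero_add] at cP_4_7_5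
  have cP_4_7_6 := coc_relP1 hf hQ (U 0) (U 4) (U 7) (qU 0) (qU 4) (qU 7) B_4_7 (U 6)
  simp only [Yv, QuadraticMap.polar_add_left, et_def, B_0_0, B_0_1, B_0_2, B_0_3, B_0_4, B_0_5, B_0_6, B_0_7, B_1_0, B_1_1, B_1_2, B_1_3, B_1_4, B_1_5, B_1_6, B_1_7, B_2_0, B_2_1, B_2_2, B_2_3, B_2_4, B_2_5, B_2_6, B_2_7, B_3_0, B_3_1, B_3_2, B_3_3, B_3_4, B_3_5, B_3_6, B_3_7, B_4_0, B_4_1, B_4_2, B_4_3, B_4_4, B_4_5, B_4_6, B_4_7, B_5_0, B_5_1, B_5_2, B_5_3, B_5_4, B_5_5, B_5_6, B_5_7, B_6_0, B_6_1, B_6_2, B_6_3, B_6_4, B_6_5, B_6_6, B_6_7, B_7_0, B_7_1, B_7_2, B_7_3, B_7_4, B_7_5, B_7_6, B_7_7, mul_zero, mul_one, zero_mul, one_mul, add_zero, zero_add] at cP_4_7_6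
  have cP_5_6_7 := coc_relP1 hf hQ (U 0) (U 5) (U 6) (qU 0) (qU 5) (qU 6) B_5_6 (U 7)
  simp only [Yv, QuadraticMap.polar_add_left, et_def, B_0_0, B_0_1, B_0_2, B_0_3, B_0_4, B_0_5, B_0_6, B_0_7, B_1_0, B_1_1, B_1_2, B_1_3, B_1_4, B_1_5, B_1_6, B_1_7, B_2_0, B_2_1, B_2_2, B_2_3, B_2_4, B_2_5, B_2_6, B_2_7, B_3_0, B_3_1, B_3_2, B_3_3, B_3_4, B_3_5, B_3_6, B_3_7, B_4_0, B_4_1, B_4_2, B_4_3, B_4_4, B_4_5, B_4_6, B_4_7, B_5_0, B_5_1, B_5_2, B_5_3, B_5_4, B_5_5, B_5_6, B_5_7, B_6_0, B_6_1, B_6_2, B_6_3, B_6_4, B_6_5, B_6_6, B_6_7, B_7_0, B_7_1, B_7_2, B_7_3, B_7_4, B_7_5, B_7_6, B_7_7, mul_zero, mul_one, zero_mul, one_mul, add_zero, zero_add] at cP_5_6_7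
  obtain ⟨v, hv0, hv1, hv2, hv3, hv4, hv5, hv6, hv7⟩ : ∃ v : V, QuadraticMap.polar ⇑QF v (U 0) = et f 1 0 + et f 1 1 ∧ QuadraticMap.polar ⇑QF v (U 1) = et f 1 0 ∧ QuadraticMap.polar ⇑QF v (U 2) = et f 2 3 ∧ QuadraticMap.polar ⇑QF v (U 3) = et f 3 2 ∧ QuadraticMap.polar ⇑QF v (U 4) = et f 4 3 ∧ QuadraticMap.polar ⇑QF v (U 5) = et f 5 4 ∧ QuadraticMap.polar ⇑QF v (U 6) = et f 6 5 ∧ QuadraticMap.polar ⇑QF v (U 7) = et f 7 4 := by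
    refine ⟨(et f 1 0 + et f 1 1) • W 0 + (et f 1 0) • W 1 + (et f 2 3) • W 2 + (et f 3 2) • W 3 + (et f 4 3) • W 4 + (et f 5 4) • W 5 + (et f 6 5) • W 6 + (et f 7 4) • W 7, ?_, ?_, ?_, ?_, ?_, ?_, ?_, ?_⟩ <;>
    simp only [QuadraticMap.polar_add_left, QuadraticMap.polar_smul_left, W_0_0, W_0_1, W_0_2, W_0_3, W_0_4, W_0_5, W_0_6, W_0_7, W_1_0, W_1_1, W_1_2, W_1_3, W_1_4, W_1_5, W_1_6, W_1_7, W_2_0, W_2_1, W_2_2, W_2_3, W_2_4, W_2_5, W_2_6, W_2_7, W_3_0, W_3_1, W_3_2, W_3_3, W_3_4, W_3_5, W_3_6, W_3_7, W_4_0, W_4_1, W_4_2, W_4_3, W_4_4, W_4_5, W_4_6, W_4_7, W_5_0, W_5_1, W_5_2, W_5_3, W_5_4, W_5_5, W_5_6, W_5_7, W_6_0, W_6_1, W_6_2, W_6_3, W_6_4, W_6_5, W_6_6, W_6_7, W_7_0, W_7_1, W_7_2, W_7_3, W_7_4, W_7_5, W_7_6, W_7_7, smul_eq_mul, mul_zero, mul_one, add_zero, zero_add]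
  have vec_1 : f (pO QF hQ (U 0) (U 1) (qU 0) (qU 1)) = mv ⇑QF (rO QF (U 0) (qU 0) * rO QF (U 1) (qU 1)) v - v := by
    apply eq_of_polar
    refine ⟨?_, ?_, ?_, ?_, ?_, ?_, ?_, ?_⟩
    · rw [QuadraticMap.polar_sub_left, polar_mv_pair]
      simp only [et_def, hv0, hv1, hv2, hv3, hv4, hv5, hv6, hv7, B_0_0, B_0_1, B_0_2, B_0_3, B_0_4, B_0_5, B_0_6, B_0_7, B_1_0, B_1_1, B_1_2, B_1_3, B_1_4, B_1_5, B_1_6, B_1_7, B_2_0, B_2_1, B_2_2, B_2_3, B_2_4, B_2_5, B_2_6, B_2_7, B_3_0, B_3_1, B_3_2, B_3_3, B_3_4, B_3_5, B_3_6, B_3_7, B_4_0, B_4_1, B_4_2, B_4_3, B_4_4, B_4_5, B_4_6, B_4_7, B_5_0, B_5_1, B_5_2, B_5_3, B_5_4, B_5_5, B_5_6, B_5_7, B_6_0, B_6_1, B_6_2, B_6_3, B_6_4, B_6_5, B_6_6, B_6_7, B_7_0, B_7_1, B_7_2, B_7_3, B_7_4, B_7_5, B_7_6, B_7_7, mul_zero, mul_one, zero_mul, one_mul, add_zero,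 zero_add] <;>
      ring
    · rw [QuadraticMap.polar_sub_left, polar_mv_pair]
      simp only [et_def, hv0, hv1, hv2, hv3, hv4, hv5, hv6, hv7, B_0_0, B_0_1, B_0_2, B_0_3, B_0_4, B_0_5, B_0_6, B_0_7, B_1_0, B_1_1, B_1_2, B_1_3, B_1_4, B_1_5, B_1_6, B_1_7, B_2_0, B_2_1, B_2_2, B_2_3, B_2_4, B_2_5, B_2_6, B_2_7, B_3_0, B_3_1, B_3_2, B_3_3, B_3_4, B_3_5, B_3_6, B_3_7, B_4_0, B_4_1, B_4_2, B_4_3, B_4_4, B_4_5, B_4_6, B_4_7, B_5_0, B_5_1, B_5_2, B_5_3, B_5_4, B_5_5, B_5_6, B_5_7, B_6_0, B_6_1, B_6_2, B_6_3, B_6_4, B_6_5, B_6_6, B_6_7, B_7_0, B_7_1, B_7_2, B_7_3, B_7_4, B_7_5, B_7_6, B_7_7, mul_zero, mul_one, zero_mul, one_mul, add_zero, zero_add] <;>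
      linear_combination 0 - (et f 1 0) * z2_two
    · rw [QuadraticMap.polar_sub_left, polar_mv_pair]
      simp only [et_def, hv0, hv1, hv2, hv3, hv4, hv5, hv6, hv7, B_0_0, B_0_1, B_0_2, B_0_3, B_0_4, B_0_5, B_0_6, B_0_7, B_1_0, B_1_1, B_1_2, B_1_3, B_1_4, B_1_5, B_1_6, B_1_7, B_2_0, B_2_1, B_2_2, B_2_3, B_2_4, B_2_5, B_2_6, B_2_7, B_3_0, B_3_1, B_3_2, B_3_3, B_3_4, B_3_5, B_3_6, B_3_7, B_4_0, B_4_1, B_4_2, B_4_3, B_4_4, B_4_5, B_4_6, B_4_7, B_5_0, B_5_1, B_5_2, B_5_3, B_5_4, B_5_5, B_5_6, B_5_7, B_6_0, B_6_1, B_6_2, B_6_3, B_6_4, B_6_5, B_6_6, B_6_7, B_7_0, B_7_1, B_7_2, B_7_3, B_7_4, B_7_5, B_7_6, B_7_7, mul_zero, mul_one, zero_mul, one_mul, add_zero, zero_add] <;>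
      linear_combination cR_1_2
    · rw [QuadraticMap.polar_sub_left, polar_mv_pair]
      simp only [et_def, hv0, hv1, hv2, hv3, hv4, hv5, hv6, hv7, B_0_0, B_0_1, B_0_2, B_0_3, B_0_4, B_0_5, B_0_6, B_0_7, B_1_0, B_1_1, B_1_2, B_1_3, B_1_4, B_1_5, B_1_6, B_1_7, B_2_0, B_2_1, B_2_2, B_2_3, B_2_4, B_2_5, B_2_6, B_2_7, B_3_0, B_3_1, B_3_2, B_3_3, B_3_4, B_3_5, B_3_6, B_3_7, B_4_0, B_4_1, B_4_2, B_4_3, B_4_4, B_4_5, B_4_6, B_4_7, B_5_0, B_5_1, B_5_2, B_5_3, B_5_4, B_5_5, B_5_6, B_5_7, B_6_0, B_6_1, B_6_2, B_6_3, B_6_4, B_6_5, B_6_6, B_6_7, B_7_0, B_7_1, B_7_2, B_7_3, B_7_4, B_7_5, B_7_6, B_7_7, mul_zero, mul_one, zero_mul, one_mul, add_zero, zero_add] <;>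
      linear_combination cR_1_3
    · rw [QuadraticMap.polar_sub_left, polar_mv_pair]
      simp only [et_def, hv0, hv1, hv2, hv3, hv4, hv5, hv6, hv7, B_0_0, B_0_1, B_0_2, B_0_3, B_0_4, B_0_5, B_0_6, B_0_7, B_1_0, B_1_1, B_1_2, B_1_3, B_1_4, B_1_5, B_1_6, B_1_7, B_2_0, B_2_1, B_2_2, B_2_3, B_2_4, B_2_5, B_2_6, B_2_7, B_3_0, B_3_1, B_3_2, B_3_3, B_3_4, B_3_5, B_3_6, B_3_7, B_4_0, B_4_1, B_4_2, B_4_3, B_4_4, B_4_5, B_4_6, B_4_7, B_5_0, B_5_1, B_5_2, B_5_3, B_5_4, B_5_5, B_5_6, B_5_7, B_6_0, B_6_1, B_6_2, B_6_3, B_6_4, B_6_5, B_6_6, B_6_7, B_7_0, B_7_1, B_7_2, B_7_3, B_7_4, B_7_5, B_7_6, B_7_7, mul_zero, mul_one, zero_mul, one_mul, add_zero, zero_add] <;>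
      linear_combination cR_1_4
    · rw [QuadraticMap.polar_sub_left, polar_mv_pair]
      simp only [et_def, hv0, hv1, hv2, hv3, hv4, hv5, hv6, hv7, B_0_0, B_0_1, B_0_2, B_0_3, B_0_4, B_0_5, B_0_6, B_0_7, B_1_0, B_1_1, B_1_2, B_1_3, B_1_4, B_1_5, B_1_6, B_1_7, B_2_0, B_2_1, B_2_2, B_2_3, B_2_4, B_2_5, B_2_6, B_2_7, B_3_0, B_3_1, B_3_2, B_3_3, B_3_4, B_3_5, B_3_6, B_3_7, B_4_0, B_4_1, B_4_2, B_4_3, B_4_4, B_4_5, B_4_6, B_4_7, B_5_0, B_5_1, B_5_2, B_5_3, B_5_4, B_5_5, B_5_6, B_5_7, B_6_0, B_6_1, B_6_2, B_6_3, B_6_4, B_6_5, B_6_6, B_6_7, B_7_0, B_7_1, B_7_2, B_7_3, B_7_4, B_7_5, B_7_6, B_7_7, mul_zero, mul_one, zero_mul, one_mul, add_zero, zero_add] <;>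
      linear_combination cR_1_5
    · rw [QuadraticMap.polar_sub_left, polar_mv_pair]
      simp only [et_def, hv0, hv1, hv2, hv3, hv4, hv5, hv6, hv7, B_0_0, B_0_1, B_0_2, B_0_3, B_0_4, B_0_5, B_0_6, B_0_7, B_1_0, B_1_1, B_1_2, B_1_3, B_1_4, B_1_5, B_1_6, B_1_7, B_2_0, B_2_1, B_2_2, B_2_3, B_2_4, B_2_5, B_2_6, B_2_7, B_3_0, B_3_1, B_3_2, B_3_3, B_3_4, B_3_5, B_3_6, B_3_7, B_4_0, B_4_1, B_4_2, B_4_3, B_4_4, B_4_5, B_4_6, B_4_7, B_5_0, B_5_1, B_5_2, B_5_3, B_5_4, B_5_5, B_5_6, B_5_7, B_6_0, B_6_1, B_6_2, B_6_3, B_6_4, B_6_5, B_6_6, B_6_7, B_7_0, B_7_1, B_7_2, B_7_3, B_7_4, B_7_5, B_7_6, B_7_7, mul_zero, mul_one, zero_mul, one_mul, add_zero, zero_add] <;>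
      linear_combination cR_1_6
    · rw [QuadraticMap.polar_sub_left, polar_mv_pair]
      simp only [et_def, hv0, hv1, hv2, hv3, hv4, hv5, hv6, hv7, B_0_0, B_0_1, B_0_2, B_0_3, B_0_4, B_0_5, B_0_6, B_0_7, B_1_0, B_1_1, B_1_2, B_1_3, B_1_4, B_1_5, B_1_6, B_1_7, B_2_0, B_2_1, B_2_2, B_2_3, B_2_4, B_2_5, B_2_6, B_2_7, B_3_0, B_3_1, B_3_2, B_3_3, B_3_4, B_3_5, B_3_6, B_3_7, B_4_0, B_4_1, B_4_2, B_4_3, B_4_4, B_4_5, B_4_6, B_4_7, B_5_0, B_5_1, B_5_2, B_5_3, B_5_4, B_5_5, B_5_6, B_5_7, B_6_0, B_6_1, B_6_2, B_6_3, B_6_4, B_6_5, B_6_6, B_6_7, B_7_0, B_7_1, B_7_2, B_7_3, B_7_4, B_7_5, B_7_6, B_7_7, mul_zero, mul_one, zero_mul, one_mul, add_zero, zero_add] <;>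
      linear_combination cR_1_7
  have vec_2 : f (pO QF hQ (U 0) (U 2) (qU 0) (qU 2)) = mv ⇑QF (rO QF (U 0) (qU 0) * rO QF (U 2) (qU 2)) v - v := by
    apply eq_of_polar
    refine ⟨?_, ?_, ?_, ?_, ?_, ?_, ?_, ?_⟩
    · rw [QuadraticMap.polar_sub_left, polar_mv_pair]
      simp only [et_def, hv0, hv1, hv2, hv3, hv4, hv5, hv6, hv7, B_0_0, B_0_1, B_0_2, B_0_3, B_0_4, B_0_5, B_0_6, B_0_7, B_1_0, B_1_1, B_1_2, B_1_3, B_1_4, B_1_5, B_1_6, B_1_7, B_2_0, B_2_1, B_2_2, B_2_3, B_2_4, B_2_5, B_2_6, B_2_7, B_3_0, B_3_1, B_3_2, B_3_3, B_3_4, B_3_5, B_3_6, B_3_7, B_4_0, B_4_1, B_4_2, B_4_3, B_4_4, B_4_5, B_4_6, B_4_7, B_5_0, B_5_1, B_5_2, B_5_3, B_5_4, B_5_5, B_5_6, B_5_7, B_6_0, B_6_1, B_6_2, B_6_3, B_6_4, B_6_5, B_6_6, B_6_7, B_7_0, B_7_1, B_7_2, B_7_3, B_7_4, B_7_5, B_7_6, B_7_7, mul_zero,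 mul_one, zero_mul, one_mul, add_zero, zero_add] <;>
      linear_combination cR_2_1 + cR_2_3 - (et f 2 2) * z2_two
    · rw [QuadraticMap.polar_sub_left, polar_mv_pair]
      simp only [et_def, hv0, hv1, hv2, hv3, hv4, hv5, hv6, hv7, B_0_0, B_0_1, B_0_2, B_0_3, B_0_4, B_0_5, B_0_6, B_0_7, B_1_0, B_1_1, B_1_2, B_1_3, B_1_4, B_1_5, B_1_6, B_1_7, B_2_0, B_2_1, B_2_2, B_2_3, B_2_4, B_2_5, B_2_6, B_2_7, B_3_0, B_3_1, B_3_2, B_3_3, B_3_4, B_3_5, B_3_6, B_3_7, B_4_0, B_4_1, B_4_2, B_4_3, B_4_4, B_4_5, B_4_6, B_4_7, B_5_0, B_5_1, B_5_2, B_5_3, B_5_4, B_5_5, B_5_6, B_5_7, B_6_0, B_6_1, B_6_2, B_6_3, B_6_4, B_6_5, B_6_6, B_6_7, B_7_0, B_7_1, B_7_2, B_7_3, B_7_4, B_7_5, B_7_6, B_7_7, mul_zero, mul_one, zero_mul, one_mul, add_zero, zero_add] <;>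
      linear_combination cR_1_3 + cR_2_1 + cR_2_3 + cP_1_2_3 - (et f 1 3 + (-1) * et f 2 1 + et f 2 2 + et f 2 3) * z2_two
    · rw [QuadraticMap.polar_sub_left, polar_mv_pair]
      simp only [et_def, hv0, hv1, hv2, hv3, hv4, hv5, hv6, hv7, B_0_0, B_0_1, B_0_2, B_0_3, B_0_4, B_0_5, B_0_6, B_0_7, B_1_0, B_1_1, B_1_2, B_1_3, B_1_4, B_1_5, B_1_6, B_1_7, B_2_0, B_2_1, B_2_2, B_2_3, B_2_4, B_2_5, B_2_6, B_2_7, B_3_0, B_3_1, B_3_2, B_3_3, B_3_4, B_3_5, B_3_6, B_3_7, B_4_0, B_4_1, B_4_2, B_4_3, B_4_4, B_4_5, B_4_6, B_4_7, B_5_0, B_5_1, B_5_2, B_5_3, B_5_4, B_5_5, B_5_6, B_5_7, B_6_0, B_6_1, B_6_2, B_6_3, B_6_4, B_6_5, B_6_6, B_6_7, B_7_0, B_7_1, B_7_2, B_7_3, B_7_4, B_7_5, B_7_6, B_7_7, mul_zero, mul_one, zero_mul, one_mul, add_zero, zero_add] <;>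
      linear_combination cR_2_3
    · rw [QuadraticMap.polar_sub_left, polar_mv_pair]
      simp only [et_def, hv0, hv1, hv2, hv3, hv4, hv5, hv6, hv7, B_0_0, B_0_1, B_0_2, B_0_3, B_0_4, B_0_5, B_0_6, B_0_7, B_1_0, B_1_1, B_1_2, B_1_3, B_1_4, B_1_5, B_1_6, B_1_7, B_2_0, B_2_1, B_2_2, B_2_3, B_2_4, B_2_5, B_2_6, B_2_7, B_3_0, B_3_1, B_3_2, B_3_3, B_3_4, B_3_5, B_3_6, B_3_7, B_4_0, B_4_1, B_4_2, B_4_3, B_4_4, B_4_5, B_4_6, B_4_7, B_5_0, B_5_1, B_5_2, B_5_3, B_5_4, B_5_5, B_5_6, B_5_7, B_6_0, B_6_1, B_6_2, B_6_3, B_6_4, B_6_5, B_6_6, B_6_7, B_7_0, B_7_1, B_7_2, B_7_3, B_7_4, B_7_5, B_7_6, B_7_7, mul_zero, mul_one, zero_mul, one_mul, add_zero, zero_add] <;>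
      ring
    · rw [QuadraticMap.polar_sub_left, polar_mv_pair]
      simp only [et_def, hv0, hv1, hv2, hv3, hv4, hv5, hv6, hv7, B_0_0, B_0_1, B_0_2, B_0_3, B_0_4, B_0_5, B_0_6, B_0_7, B_1_0, B_1_1, B_1_2, B_1_3, B_1_4, B_1_5, B_1_6, B_1_7, B_2_0, B_2_1, B_2_2, B_2_3, B_2_4, B_2_5, B_2_6, B_2_7, B_3_0, B_3_1, B_3_2, B_3_3, B_3_4, B_3_5, B_3_6, B_3_7, B_4_0, B_4_1, B_4_2, B_4_3, B_4_4, B_4_5, B_4_6, B_4_7, B_5_0, B_5_1, B_5_2, B_5_3, B_5_4, B_5_5, B_5_6, B_5_7, B_6_0, B_6_1, B_6_2, B_6_3, B_6_4, B_6_5, B_6_6, B_6_7, B_7_0, B_7_1, B_7_2, B_7_3, B_7_4, B_7_5, B_7_6, B_7_7, mul_zero, mul_one, zero_mul, one_mul, add_zero, zero_add] <;>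
      linear_combination cR_1_4 + cP_1_2_4 - (et f 1 4) * z2_two
    · rw [QuadraticMap.polar_sub_left, polar_mv_pair]
      simp only [et_def, hv0, hv1, hv2, hv3, hv4, hv5, hv6, hv7, B_0_0, B_0_1, B_0_2, B_0_3, B_0_4, B_0_5, B_0_6, B_0_7, B_1_0, B_1_1, B_1_2, B_1_3, B_1_4, B_1_5, B_1_6, B_1_7, B_2_0, B_2_1, B_2_2, B_2_3, B_2_4, B_2_5, B_2_6, B_2_7, B_3_0, B_3_1, B_3_2, B_3_3, B_3_4, B_3_5, B_3_6, B_3_7, B_4_0, B_4_1, B_4_2, B_4_3, B_4_4, B_4_5, B_4_6, B_4_7, B_5_0, B_5_1, B_5_2, B_5_3, B_5_4, B_5_5, B_5_6, B_5_7, B_6_0, B_6_1, B_6_2, B_6_3, B_6_4, B_6_5, B_6_6, B_6_7, B_7_0, B_7_1, B_7_2, B_7_3, B_7_4, B_7_5, B_7_6, B_7_7, mul_zero, mul_one, zero_mul, one_mul, add_zero, zero_add] <;>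
      linear_combination cR_1_5 + cP_1_2_5 - (et f 1 5) * z2_two
    · rw [QuadraticMap.polar_sub_left, polar_mv_pair]
      simp only [et_def, hv0, hv1, hv2, hv3, hv4, hv5, hv6, hv7, B_0_0, B_0_1, B_0_2, B_0_3, B_0_4, B_0_5, B_0_6, B_0_7, B_1_0, B_1_1, B_1_2, B_1_3, B_1_4, B_1_5, B_1_6, B_1_7, B_2_0, B_2_1, B_2_2, B_2_3, B_2_4, B_2_5, B_2_6, B_2_7, B_3_0, B_3_1, B_3_2, B_3_3, B_3_4, B_3_5, B_3_6, B_3_7, B_4_0, B_4_1, B_4_2, B_4_3, B_4_4, B_4_5, B_4_6, B_4_7, B_5_0, B_5_1, B_5_2, B_5_3, B_5_4, B_5_5, B_5_6, B_5_7, B_6_0, B_6_1, B_6_2, B_6_3, B_6_4, B_6_5, B_6_6, B_6_7, B_7_0, B_7_1, B_7_2, B_7_3, B_7_4, B_7_5, B_7_6, B_7_7, mul_zero, mul_one, zero_mul, one_mul, add_zero, zero_add] <;>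
      linear_combination cR_1_6 + cP_1_2_6 - (et f 1 6) * z2_two
    · rw [QuadraticMap.polar_sub_left, polar_mv_pair]
      simp only [et_def, hv0, hv1, hv2, hv3, hv4, hv5, hv6, hv7, B_0_0, B_0_1, B_0_2, B_0_3, B_0_4, B_0_5, B_0_6, B_0_7, B_1_0, B_1_1, B_1_2, B_1_3, B_1_4, B_1_5, B_1_6, B_1_7, B_2_0, B_2_1, B_2_2, B_2_3, B_2_4, B_2_5, B_2_6, B_2_7, B_3_0, B_3_1, B_3_2, B_3_3, B_3_4, B_3_5, B_3_6, B_3_7, B_4_0, B_4_1, B_4_2, B_4_3, B_4_4, B_4_5, B_4_6, B_4_7, B_5_0, B_5_1, B_5_2, B_5_3, B_5_4, B_5_5, B_5_6, B_5_7, B_6_0, B_6_1, B_6_2, B_6_3, B_6_4, B_6_5, B_6_6, B_6_7, B_7_0, B_7_1, B_7_2, B_7_3, B_7_4, B_7_5, B_7_6, B_7_7, mul_zero, mul_one, zero_mul, one_mul, add_zero, zero_add] <;>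
      linear_combination cR_1_7 + cP_1_2_7 - (et f 1 7) * z2_two
  have vec_3 : f (pO QF hQ (U 0) (U 3) (qU 0) (qU 3)) = mv ⇑QF (rO QF (U 0) (qU 0) * rO QF (U 3) (qU 3)) v - v := by
    apply eq_of_polar
    refine ⟨?_, ?_, ?_, ?_, ?_, ?_, ?_, ?_⟩
    · rw [QuadraticMap.polar_sub_left, polar_mv_pair]
      simp only [et_def, hv0, hv1, hv2, hv3, hv4, hv5, hv6, hv7, B_0_0, B_0_1, B_0_2, B_0_3, B_0_4, B_0_5, B_0_6, B_0_7, B_1_0, B_1_1, B_1_2, B_1_3, B_1_4, B_1_5, B_1_6, B_1_7, B_2_0, B_2_1, B_2_2, B_2_3, B_2_4, B_2_5, B_2_6, B_2_7, B_3_0, B_3_1, B_3_2, B_3_3, B_3_4, B_3_5, B_3_6, B_3_7, B_4_0, B_4_1, B_4_2, B_4_3, B_4_4, B_4_5, B_4_6, B_4_7, B_5_0, B_5_1, B_5_2, B_5_3, B_5_4, B_5_5, B_5_6, B_5_7, B_6_0, B_6_1, B_6_2, B_6_3, B_6_4, B_6_5, B_6_6, B_6_7, B_7_0, B_7_1, B_7_2, B_7_3, B_7_4,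 B_7_5, B_7_6, B_7_7, mul_zero, mul_one, zero_mul, one_mul, add_zero, zero_add] <;>
      linear_combination cR_3_1
    · rw [QuadraticMap.polar_sub_left, polar_mv_pair]
      simp only [et_def, hv0, hv1, hv2, hv3, hv4, hv5, hv6, hv7, B_0_0, B_0_1, B_0_2, B_0_3, B_0_4, B_0_5, B_0_6, B_0_7, B_1_0, B_1_1, B_1_2, B_1_3, B_1_4, B_1_5, B_1_6, B_1_7, B_2_0, B_2_1, B_2_2, B_2_3, B_2_4, B_2_5, B_2_6, B_2_7, B_3_0, B_3_1, B_3_2, B_3_3, B_3_4, B_3_5, B_3_6, B_3_7, B_4_0, B_4_1, B_4_2, B_4_3, B_4_4, B_4_5, B_4_6, B_4_7, B_5_0, B_5_1, B_5_2, B_5_3, B_5_4, B_5_5, B_5_6, B_5_7, B_6_0, B_6_1, B_6_2, B_6_3, B_6_4, B_6_5, B_6_6, B_6_7, B_7_0, B_7_1, B_7_2, B_7_3, B_7_4, B_7_5, B_7_6, B_7_7, mul_zero, mul_one, zero_mul, one_mul, add_zero, zero_add] <;>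
      linear_combination cR_3_1 + cP_1_3_0 - (et f 1 0 + et f 1 1 + et f 3 0) * z2_two
    · rw [QuadraticMap.polar_sub_left, polar_mv_pair]
      simp only [et_def, hv0, hv1, hv2, hv3, hv4, hv5, hv6, hv7, B_0_0, B_0_1, B_0_2, B_0_3, B_0_4, B_0_5, B_0_6, B_0_7, B_1_0, B_1_1, B_1_2, B_1_3, B_1_4, B_1_5, B_1_6, B_1_7, B_2_0, B_2_1, B_2_2, B_2_3, B_2_4, B_2_5, B_2_6, B_2_7, B_3_0, B_3_1, B_3_2, B_3_3, B_3_4, B_3_5, B_3_6, B_3_7, B_4_0, B_4_1, B_4_2, B_4_3, B_4_4, B_4_5, B_4_6, B_4_7, B_5_0, B_5_1, B_5_2, B_5_3, B_5_4, B_5_5, B_5_6, B_5_7, B_6_0, B_6_1, B_6_2, B_6_3, B_6_4, B_6_5, B_6_6, B_6_7, B_7_0, B_7_1, B_7_2, B_7_3, B_7_4, B_7_5, B_7_6, B_7_7, mul_zero, mul_one, zero_mul, one_mul, add_zero, zero_add] <;>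
      ring
    · rw [QuadraticMap.polar_sub_left, polar_mv_pair]
      simp only [et_def, hv0, hv1, hv2, hv3, hv4, hv5, hv6, hv7, B_0_0, B_0_1, B_0_2, B_0_3, B_0_4, B_0_5, B_0_6, B_0_7, B_1_0, B_1_1, B_1_2, B_1_3, B_1_4, B_1_5, B_1_6, B_1_7, B_2_0, B_2_1, B_2_2, B_2_3, B_2_4, B_2_5, B_2_6, B_2_7, B_3_0, B_3_1, B_3_2, B_3_3, B_3_4, B_3_5, B_3_6, B_3_7, B_4_0, B_4_1, B_4_2, B_4_3, B_4_4, B_4_5, B_4_6, B_4_7, B_5_0, B_5_1, B_5_2, B_5_3, B_5_4, B_5_5, B_5_6, B_5_7, B_6_0, B_6_1, B_6_2, B_6_3, B_6_4, B_6_5, B_6_6, B_6_7, B_7_0, B_7_1, B_7_2, B_7_3, B_7_4, B_7_5, B_7_6, B_7_7, mul_zero, mul_one, zero_mul, one_mul, add_zero, zero_add] <;>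
      linear_combination cR_3_2
    · rw [QuadraticMap.polar_sub_left, polar_mv_pair]
      simp only [et_def, hv0, hv1, hv2, hv3, hv4, hv5, hv6, hv7, B_0_0, B_0_1, B_0_2, B_0_3, B_0_4, B_0_5, B_0_6, B_0_7, B_1_0, B_1_1, B_1_2, B_1_3, B_1_4, B_1_5, B_1_6, B_1_7, B_2_0, B_2_1, B_2_2, B_2_3, B_2_4, B_2_5, B_2_6, B_2_7, B_3_0, B_3_1, B_3_2, B_3_3, B_3_4, B_3_5, B_3_6, B_3_7, B_4_0, B_4_1, B_4_2, B_4_3, B_4_4, B_4_5, B_4_6, B_4_7, B_5_0, B_5_1, B_5_2, B_5_3, B_5_4, B_5_5, B_5_6, B_5_7, B_6_0, B_6_1, B_6_2, B_6_3, B_6_4, B_6_5, B_6_6, B_6_7, B_7_0, B_7_1, B_7_2, B_7_3, B_7_4, B_7_5, B_7_6, B_7_7, mul_zero, mul_one, zero_mul, one_mul, add_zero, zero_add] <;>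
      linear_combination cR_1_4 + cR_2_3 + cP_1_2_4 + cP_2_3_4 - (et f 1 4 + et f 2 4) * z2_two
    · rw [QuadraticMap.polar_sub_left, polar_mv_pair]
      simp only [et_def, hv0, hv1, hv2, hv3, hv4, hv5, hv6, hv7, B_0_0, B_0_1, B_0_2, B_0_3, B_0_4, B_0_5, B_0_6, B_0_7, B_1_0, B_1_1, B_1_2, B_1_3, B_1_4, B_1_5, B_1_6, B_1_7, B_2_0, B_2_1, B_2_2, B_2_3, B_2_4, B_2_5, B_2_6, B_2_7, B_3_0, B_3_1, B_3_2, B_3_3, B_3_4, B_3_5, B_3_6, B_3_7, B_4_0, B_4_1, B_4_2, B_4_3, B_4_4, B_4_5, B_4_6, B_4_7, B_5_0, B_5_1, B_5_2, B_5_3, B_5_4, B_5_5, B_5_6, B_5_7, B_6_0, B_6_1, B_6_2, B_6_3, B_6_4, B_6_5, B_6_6, B_6_7, B_7_0, B_7_1, B_7_2, B_7_3, B_7_4, B_7_5, B_7_6, B_7_7, mul_zero, mul_one, zero_mul, one_mul, add_zero, zero_add] <;>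
      linear_combination cR_1_5 + cP_1_2_5 + cP_2_3_5 - (et f 1 5 + et f 2 5) * z2_two
    · rw [QuadraticMap.polar_sub_left, polar_mv_pair]
      simp only [et_def, hv0, hv1, hv2, hv3, hv4, hv5, hv6, hv7, B_0_0, B_0_1, B_0_2, B_0_3, B_0_4, B_0_5, B_0_6, B_0_7, B_1_0, B_1_1, B_1_2, B_1_3, B_1_4, B_1_5, B_1_6, B_1_7, B_2_0, B_2_1, B_2_2, B_2_3, B_2_4, B_2_5, B_2_6, B_2_7, B_3_0, B_3_1, B_3_2, B_3_3, B_3_4, B_3_5, B_3_6, B_3_7, B_4_0, B_4_1, B_4_2, B_4_3, B_4_4, B_4_5, B_4_6, B_4_7, B_5_0, B_5_1, B_5_2, B_5_3, B_5_4, B_5_5, B_5_6, B_5_7, B_6_0, B_6_1, B_6_2, B_6_3, B_6_4, B_6_5, B_6_6, B_6_7, B_7_0, B_7_1, B_7_2, B_7_3, B_7_4, B_7_5, B_7_6, B_7_7, mul_zero, mul_one, zero_mul, one_mul, add_zero, zero_add] <;>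
      linear_combination cR_1_6 + cP_1_2_6 + cP_2_3_6 - (et f 1 6 + et f 2 6) * z2_two
    · rw [QuadraticMap.polar_sub_left, polar_mv_pair]
      simp only [et_def, hv0, hv1, hv2, hv3, hv4, hv5, hv6, hv7, B_0_0, B_0_1, B_0_2, B_0_3, B_0_4, B_0_5, B_0_6, B_0_7, B_1_0, B_1_1, B_1_2, B_1_3, B_1_4, B_1_5, B_1_6, B_1_7, B_2_0, B_2_1, B_2_2, B_2_3, B_2_4, B_2_5, B_2_6, B_2_7, B_3_0, B_3_1, B_3_2, B_3_3, B_3_4, B_3_5, B_3_6, B_3_7, B_4_0, B_4_1, B_4_2, B_4_3, B_4_4, B_4_5, B_4_6, B_4_7, B_5_0, B_5_1, B_5_2, B_5_3, B_5_4, B_5_5, B_5_6, B_5_7, B_6_0, B_6_1, B_6_2, B_6_3, B_6_4, B_6_5, B_6_6, B_6_7, B_7_0, B_7_1, B_7_2, B_7_3, B_7_4, B_7_5, B_7_6, B_7_7, mul_zero, mul_one, zero_mul, one_mul, add_zero, zero_add] <;>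
      linear_combination cR_1_7 + cP_1_2_7 + cP_2_3_7 - (et f 1 7 + et f 2 7) * z2_two
  have vec_4 : f (pO QF hQ (U 0) (U 4) (qU 0) (qU 4)) = mv ⇑QF (rO QF (U 0) (qU 0) * rO QF (U 4) (qU 4)) v - v := by
    apply eq_of_polar
    refine ⟨?_, ?_, ?_, ?_, ?_, ?_, ?_, ?_⟩
    · rw [QuadraticMap.polar_sub_left, polar_mv_pair]
      simp only [et_def, hv0, hv1, hv2, hv3, hv4, hv5, hv6, hv7, B_0_0, B_0_1, B_0_2, B_0_3, B_0_4, B_0_5, B_0_6, B_0_7, B_1_0, B_1_1, B_1_2, B_1_3, B_1_4, B_1_5, B_1_6, B_1_7, B_2_0, B_2_1, B_2_2, B_2_3, B_2_4, B_2_5, B_2_6, B_2_7, B_3_0, B_3_1, B_3_2, B_3_3, B_3_4, B_3_5, B_3_6, B_3_7, B_4_0, B_4_1, B_4_2, B_4_3, B_4_4, B_4_5, B_4_6, B_4_7, B_5_0, B_5_1, B_5_2, B_5_3, B_5_4, B_5_5, B_5_6, B_5_7, B_6_0, B_6_1, B_6_2, B_6_3, B_6_4, B_6_5, B_6_6, B_6_7, B_7_0, B_7_1,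 B_7_2, B_7_3, B_7_4, B_7_5, B_7_6, B_7_7, mul_zero, mul_one, zero_mul, one_mul, add_zero, zero_add] <;>
      linear_combination cR_4_1
    · rw [QuadraticMap.polar_sub_left, polar_mv_pair]
      simp only [et_def, hv0, hv1, hv2, hv3, hv4, hv5, hv6, hv7, B_0_0, B_0_1, B_0_2, B_0_3, B_0_4, B_0_5, B_0_6, B_0_7, B_1_0, B_1_1, B_1_2, B_1_3, B_1_4, B_1_5, B_1_6, B_1_7, B_2_0, B_2_1, B_2_2, B_2_3, B_2_4, B_2_5, B_2_6, B_2_7, B_3_0, B_3_1, B_3_2, B_3_3, B_3_4, B_3_5, B_3_6, B_3_7, B_4_0, B_4_1, B_4_2, B_4_3, B_4_4, B_4_5, B_4_6, B_4_7, B_5_0, B_5_1, B_5_2, B_5_3, B_5_4, B_5_5, B_5_6, B_5_7, B_6_0, B_6_1, B_6_2, B_6_3, B_6_4, B_6_5, B_6_6, B_6_7, B_7_0, B_7_1, B_7_2, B_7_3, B_7_4, B_7_5, B_7_6, B_7_7, mul_zero, mul_one, zero_mul, one_mul, add_zero, zero_add] <;>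
      linear_combination cR_4_1 + cP_1_4_0 - (et f 1 0 + et f 1 1 + et f 4 0) * z2_two
    · rw [QuadraticMap.polar_sub_left, polar_mv_pair]
      simp only [et_def, hv0, hv1, hv2, hv3, hv4, hv5, hv6, hv7, B_0_0, B_0_1, B_0_2, B_0_3, B_0_4, B_0_5, B_0_6, B_0_7, B_1_0, B_1_1, B_1_2, B_1_3, B_1_4, B_1_5, B_1_6, B_1_7, B_2_0, B_2_1, B_2_2, B_2_3, B_2_4, B_2_5, B_2_6, B_2_7, B_3_0, B_3_1, B_3_2, B_3_3, B_3_4, B_3_5, B_3_6, B_3_7, B_4_0, B_4_1, B_4_2, B_4_3, B_4_4, B_4_5, B_4_6, B_4_7, B_5_0, B_5_1, B_5_2, B_5_3, B_5_4, B_5_5, B_5_6, B_5_7, B_6_0, B_6_1, B_6_2, B_6_3, B_6_4, B_6_5, B_6_6, B_6_7, B_7_0, B_7_1, B_7_2, B_7_3, B_7_4, B_7_5, B_7_6, B_7_7, mul_zero, mul_one, zero_mul, one_mul, add_zero, zero_add] <;>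
      linear_combination cR_2_3 + cP_2_4_1 - (et f 2 2) * z2_two
    · rw [QuadraticMap.polar_sub_left, polar_mv_pair]
      simp only [et_def, hv0, hv1, hv2, hv3, hv4, hv5, hv6, hv7, B_0_0, B_0_1, B_0_2, B_0_3, B_0_4, B_0_5, B_0_6, B_0_7, B_1_0, B_1_1, B_1_2, B_1_3, B_1_4, B_1_5, B_1_6, B_1_7, B_2_0, B_2_1, B_2_2, B_2_3, B_2_4, B_2_5, B_2_6, B_2_7, B_3_0, B_3_1, B_3_2, B_3_3, B_3_4, B_3_5, B_3_6, B_3_7, B_4_0, B_4_1, B_4_2, B_4_3, B_4_4, B_4_5, B_4_6, B_4_7, B_5_0, B_5_1, B_5_2, B_5_3, B_5_4, B_5_5, B_5_6, B_5_7, B_6_0, B_6_1, B_6_2, B_6_3, B_6_4, B_6_5, B_6_6, B_6_7, B_7_0, B_7_1, B_7_2, B_7_3, B_7_4, B_7_5, B_7_6, B_7_7, mul_zero, mul_one, zero_mul, one_mul, add_zero, zero_add] <;>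
      ring
    · rw [QuadraticMap.polar_sub_left, polar_mv_pair]
      simp only [et_def, hv0, hv1, hv2, hv3, hv4, hv5, hv6, hv7, B_0_0, B_0_1, B_0_2, B_0_3, B_0_4, B_0_5, B_0_6, B_0_7, B_1_0, B_1_1, B_1_2, B_1_3, B_1_4, B_1_5, B_1_6, B_1_7, B_2_0, B_2_1, B_2_2, B_2_3, B_2_4, B_2_5, B_2_6, B_2_7, B_3_0, B_3_1, B_3_2, B_3_3, B_3_4, B_3_5, B_3_6, B_3_7, B_4_0, B_4_1, B_4_2, B_4_3, B_4_4, B_4_5, B_4_6, B_4_7, B_5_0, B_5_1, B_5_2, B_5_3, B_5_4, B_5_5, B_5_6, B_5_7, B_6_0, B_6_1, B_6_2, B_6_3, B_6_4, B_6_5, B_6_6, B_6_7, B_7_0, B_7_1, B_7_2, B_7_3, B_7_4, B_7_5, B_7_6, B_7_7, mul_zero, mul_one, zero_mul, one_mul, add_zero, zero_add] <;>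
      linear_combination cR_4_3
    · rw [QuadraticMap.polar_sub_left, polar_mv_pair]
      simp only [et_def, hv0, hv1, hv2, hv3, hv4, hv5, hv6, hv7, B_0_0, B_0_1, B_0_2, B_0_3, B_0_4, B_0_5, B_0_6, B_0_7, B_1_0, B_1_1, B_1_2, B_1_3, B_1_4, B_1_5, B_1_6, B_1_7, B_2_0, B_2_1, B_2_2, B_2_3, B_2_4, B_2_5, B_2_6, B_2_7, B_3_0, B_3_1, B_3_2, B_3_3, B_3_4, B_3_5, B_3_6, B_3_7, B_4_0, B_4_1, B_4_2, B_4_3, B_4_4, B_4_5, B_4_6, B_4_7, B_5_0, B_5_1, B_5_2, B_5_3, B_5_4, B_5_5, B_5_6, B_5_7, B_6_0, B_6_1, B_6_2, B_6_3, B_6_4, B_6_5, B_6_6, B_6_7, B_7_0, B_7_1, B_7_2, B_7_3, B_7_4, B_7_5, B_7_6, B_7_7, mul_zero, mul_one, zero_mul, one_mul, add_zero, zero_add] <;>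
      linear_combination cR_1_5 + cR_3_2 + cP_1_2_5 + cP_2_3_5 + cP_3_4_5 - (et f 1 5 + et f 2 5 + et f 3 5) * z2_two
    · rw [QuadraticMap.polar_sub_left, polar_mv_pair]
      simp only [et_def, hv0, hv1, hv2, hv3, hv4, hv5, hv6, hv7, B_0_0, B_0_1, B_0_2, B_0_3, B_0_4, B_0_5, B_0_6, B_0_7, B_1_0, B_1_1, B_1_2, B_1_3, B_1_4, B_1_5, B_1_6, B_1_7, B_2_0, B_2_1, B_2_2, B_2_3, B_2_4, B_2_5, B_2_6, B_2_7, B_3_0, B_3_1, B_3_2, B_3_3, B_3_4, B_3_5, B_3_6, B_3_7, B_4_0, B_4_1, B_4_2, B_4_3, B_4_4, B_4_5, B_4_6, B_4_7, B_5_0, B_5_1, B_5_2, B_5_3, B_5_4, B_5_5, B_5_6, B_5_7, B_6_0, B_6_1, B_6_2, B_6_3, B_6_4, B_6_5, B_6_6, B_6_7, B_7_0, B_7_1, B_7_2, B_7_3, B_7_4, B_7_5, B_7_6, B_7_7, mul_zero, mul_one, zero_mul, one_mul, add_zero, zero_add] <;>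
      linear_combination cR_1_6 + cP_1_2_6 + cP_2_3_6 + cP_3_4_6 - (et f 1 6 + et f 2 6 + et f 3 6) * z2_two
    · rw [QuadraticMap.polar_sub_left, polar_mv_pair]
      simp only [et_def, hv0, hv1, hv2, hv3, hv4, hv5, hv6, hv7, B_0_0, B_0_1, B_0_2, B_0_3, B_0_4, B_0_5, B_0_6, B_0_7, B_1_0, B_1_1, B_1_2, B_1_3, B_1_4, B_1_5, B_1_6, B_1_7, B_2_0, B_2_1, B_2_2, B_2_3, B_2_4, B_2_5, B_2_6, B_2_7, B_3_0, B_3_1, B_3_2, B_3_3, B_3_4, B_3_5, B_3_6, B_3_7, B_4_0, B_4_1, B_4_2, B_4_3, B_4_4, B_4_5, B_4_6, B_4_7, B_5_0, B_5_1, B_5_2, B_5_3, B_5_4, B_5_5, B_5_6, B_5_7, B_6_0, B_6_1, B_6_2, B_6_3, B_6_4, B_6_5, B_6_6, B_6_7, B_7_0, B_7_1, B_7_2, B_7_3, B_7_4, B_7_5, B_7_6, B_7_7, mul_zero, mul_one, zero_mul, one_mul, add_zero, zero_add] <;>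
      linear_combination cR_1_7 + cR_3_2 + cP_1_2_7 + cP_2_3_7 + cP_3_4_7 - (et f 1 7 + et f 2 7 + et f 3 7) * z2_two
  have vec_5 : f (pO QF hQ (U 0) (U 5) (qU 0) (qU 5)) = mv ⇑QF (rO QF (U 0) (qU 0) * rO QF (U 5) (qU 5)) v - v := by
    apply eq_of_polar
    refine ⟨?_, ?_, ?_, ?_, ?_, ?_, ?_, ?_⟩
    · rw [QuadraticMap.polar_sub_left, polar_mv_pair]
      simp only [et_def, hv0, hv1, hv2, hv3, hv4, hv5, hv6, hv7, B_0_0, B_0_1, B_0_2, B_0_3, B_0_4, B_0_5, B_0_6, B_0_7, B_1_0, B_1_1, B_1_2, B_1_3, B_1_4, B_1_5, B_1_6, B_1_7, B_2_0, B_2_1, B_2_2, B_2_3, B_2_4, B_2_5, B_2_6, B_2_7, B_3_0, B_3_1, B_3_2, B_3_3, B_3_4, B_3_5, B_3_6, B_3_7, B_4_0, B_4_1, B_4_2, B_4_3, B_4_4, B_4_5, B_4_6, B_4_7, B_5_0, B_5_1, B_5_2, B_5_3, B_5_4, B_5_5, B_5_6, B_5_7, B_6_0, B_6_1, B_6_2, B_6_3, B_6_4,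 B_6_5, B_6_6, B_6_7, B_7_0, B_7_1, B_7_2, B_7_3, B_7_4, B_7_5, B_7_6, B_7_7, mul_zero, mul_one, zero_mul, one_mul, add_zero, zero_add] <;>
      linear_combination cR_5_1
    · rw [QuadraticMap.polar_sub_left, polar_mv_pair]
      simp only [et_def, hv0, hv1, hv2, hv3, hv4, hv5, hv6, hv7, B_0_0, B_0_1, B_0_2, B_0_3, B_0_4, B_0_5, B_0_6, B_0_7, B_1_0, B_1_1, B_1_2, B_1_3, B_1_4, B_1_5, B_1_6, B_1_7, B_2_0, B_2_1, B_2_2, B_2_3, B_2_4, B_2_5, B_2_6, B_2_7, B_3_0, B_3_1, B_3_2, B_3_3, B_3_4, B_3_5, B_3_6, B_3_7, B_4_0, B_4_1, B_4_2, B_4_3, B_4_4, B_4_5, B_4_6, B_4_7, B_5_0, B_5_1, B_5_2, B_5_3, B_5_4, B_5_5, B_5_6, B_5_7, B_6_0, B_6_1, B_6_2, B_6_3, B_6_4, B_6_5, B_6_6, B_6_7, B_7_0, B_7_1, B_7_2, B_7_3, B_7_4, B_7_5, B_7_6, B_7_7, mul_zero, mul_one, zero_mul, one_mul, add_zero, zero_add]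 <;>
      linear_combination cR_5_1 + cP_1_5_0 - (et f 1 0 + et f 1 1 + et f 5 0) * z2_two
    · rw [QuadraticMap.polar_sub_left, polar_mv_pair]
      simp only [et_def, hv0, hv1, hv2, hv3, hv4, hv5, hv6, hv7, B_0_0, B_0_1, B_0_2, B_0_3, B_0_4, B_0_5, B_0_6, B_0_7, B_1_0, B_1_1, B_1_2, B_1_3, B_1_4, B_1_5, B_1_6, B_1_7, B_2_0, B_2_1, B_2_2, B_2_3, B_2_4, B_2_5, B_2_6, B_2_7, B_3_0, B_3_1, B_3_2, B_3_3, B_3_4, B_3_5, B_3_6, B_3_7, B_4_0, B_4_1, B_4_2, B_4_3, B_4_4, B_4_5, B_4_6, B_4_7, B_5_0, B_5_1, B_5_2, B_5_3, B_5_4, B_5_5, B_5_6, B_5_7, B_6_0, B_6_1, B_6_2, B_6_3, B_6_4, B_6_5, B_6_6, B_6_7, B_7_0, B_7_1, B_7_2, B_7_3, B_7_4, B_7_5, B_7_6, B_7_7, mul_zero, mul_one, zero_mul, one_mul, add_zero, zero_add] <;>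
      linear_combination cR_2_3 + cP_2_5_1 - (et f 2 2) * z2_two
    · rw [QuadraticMap.polar_sub_left, polar_mv_pair]
      simp only [et_def, hv0, hv1, hv2, hv3, hv4, hv5, hv6, hv7, B_0_0, B_0_1, B_0_2, B_0_3, B_0_4, B_0_5, B_0_6, B_0_7, B_1_0, B_1_1, B_1_2, B_1_3, B_1_4, B_1_5, B_1_6, B_1_7, B_2_0, B_2_1, B_2_2, B_2_3, B_2_4, B_2_5, B_2_6, B_2_7, B_3_0, B_3_1, B_3_2, B_3_3, B_3_4, B_3_5, B_3_6, B_3_7, B_4_0, B_4_1, B_4_2, B_4_3, B_4_4, B_4_5, B_4_6, B_4_7, B_5_0, B_5_1, B_5_2, B_5_3, B_5_4, B_5_5, B_5_6, B_5_7, B_6_0, B_6_1, B_6_2, B_6_3, B_6_4, B_6_5, B_6_6, B_6_7, B_7_0, B_7_1, B_7_2, B_7_3, B_7_4, B_7_5, B_7_6, B_7_7, mul_zero, mul_one, zero_mul, one_mul, add_zero, zero_add] <;>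
      linear_combination cR_3_2 + cP_3_5_2 - (et f 3 3) * z2_two
    · rw [QuadraticMap.polar_sub_left, polar_mv_pair]
      simp only [et_def, hv0, hv1, hv2, hv3, hv4, hv5, hv6, hv7, B_0_0, B_0_1, B_0_2, B_0_3, B_0_4, B_0_5, B_0_6, B_0_7, B_1_0, B_1_1, B_1_2, B_1_3, B_1_4, B_1_5, B_1_6, B_1_7, B_2_0, B_2_1, B_2_2, B_2_3, B_2_4, B_2_5, B_2_6, B_2_7, B_3_0, B_3_1, B_3_2, B_3_3, B_3_4, B_3_5, B_3_6, B_3_7, B_4_0, B_4_1, B_4_2, B_4_3, B_4_4, B_4_5, B_4_6, B_4_7, B_5_0, B_5_1, B_5_2, B_5_3, B_5_4, B_5_5, B_5_6, B_5_7, B_6_0, B_6_1, B_6_2, B_6_3, B_6_4, B_6_5, B_6_6, B_6_7, B_7_0, B_7_1, B_7_2, B_7_3, B_7_4, B_7_5, B_7_6, B_7_7, mul_zero, mul_one, zero_mul, one_mul, add_zero, zero_add] <;>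
      ring
    · rw [QuadraticMap.polar_sub_left, polar_mv_pair]
      simp only [et_def, hv0, hv1, hv2, hv3, hv4, hv5, hv6, hv7, B_0_0, B_0_1, B_0_2, B_0_3, B_0_4, B_0_5, B_0_6, B_0_7, B_1_0, B_1_1, B_1_2, B_1_3, B_1_4, B_1_5, B_1_6, B_1_7, B_2_0, B_2_1, B_2_2, B_2_3, B_2_4, B_2_5, B_2_6, B_2_7, B_3_0, B_3_1, B_3_2, B_3_3, B_3_4, B_3_5, B_3_6, B_3_7, B_4_0, B_4_1, B_4_2, B_4_3, B_4_4, B_4_5, B_4_6, B_4_7, B_5_0, B_5_1, B_5_2, B_5_3, B_5_4, B_5_5, B_5_6, B_5_7, B_6_0, B_6_1, B_6_2, B_6_3, B_6_4, B_6_5, B_6_6, B_6_7, B_7_0, B_7_1, B_7_2, B_7_3, B_7_4, B_7_5, B_7_6, B_7_7, mul_zero, mul_one, zero_mul, one_mul, add_zero, zero_add] <;>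
      linear_combination cR_5_4
    · rw [QuadraticMap.polar_sub_left, polar_mv_pair]
      simp only [et_def, hv0, hv1, hv2, hv3, hv4, hv5, hv6, hv7, B_0_0, B_0_1, B_0_2, B_0_3, B_0_4, B_0_5, B_0_6, B_0_7, B_1_0, B_1_1, B_1_2, B_1_3, B_1_4, B_1_5, B_1_6, B_1_7, B_2_0, B_2_1, B_2_2, B_2_3, B_2_4, B_2_5, B_2_6, B_2_7, B_3_0, B_3_1, B_3_2, B_3_3, B_3_4, B_3_5, B_3_6, B_3_7, B_4_0, B_4_1, B_4_2, B_4_3, B_4_4, B_4_5, B_4_6, B_4_7, B_5_0, B_5_1, B_5_2, B_5_3, B_5_4, B_5_5, B_5_6, B_5_7, B_6_0, B_6_1, B_6_2, B_6_3, B_6_4, B_6_5, B_6_6, B_6_7, B_7_0, B_7_1, B_7_2, B_7_3, B_7_4, B_7_5, B_7_6, B_7_7, mul_zero, mul_one, zero_mul, one_mul, add_zero, zero_add] <;>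
      linear_combination cR_1_6 + cR_4_3 + cP_1_2_6 + cP_2_3_6 + cP_3_4_6 + cP_4_5_6 - (et f 1 6 + et f 2 6 + et f 3 6 + et f 4 6) * z2_two
    · rw [QuadraticMap.polar_sub_left, polar_mv_pair]
      simp only [et_def, hv0, hv1, hv2, hv3, hv4, hv5, hv6, hv7, B_0_0, B_0_1, B_0_2, B_0_3, B_0_4, B_0_5, B_0_6, B_0_7, B_1_0, B_1_1, B_1_2, B_1_3, B_1_4, B_1_5, B_1_6, B_1_7, B_2_0, B_2_1, B_2_2, B_2_3, B_2_4, B_2_5, B_2_6, B_2_7, B_3_0, B_3_1, B_3_2, B_3_3, B_3_4, B_3_5, B_3_6, B_3_7, B_4_0, B_4_1, B_4_2, B_4_3, B_4_4, B_4_5, B_4_6, B_4_7, B_5_0, B_5_1, B_5_2, B_5_3, B_5_4, B_5_5, B_5_6, B_5_7, B_6_0, B_6_1, B_6_2, B_6_3, B_6_4, B_6_5, B_6_6, B_6_7, B_7_0, B_7_1, B_7_2, B_7_3, B_7_4, B_7_5, B_7_6, B_7_7, mul_zero, mul_one, zero_mul, one_mul, add_zero, zero_add] <;>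
      linear_combination cR_1_5 + cR_1_7 + cR_5_4 + cP_1_2_5 + cP_1_2_7 + cP_2_3_5 + cP_2_3_7 + cP_3_4_5 + cP_3_4_7 + cP_4_5_7 - (et f 1 5 + et f 1 7 + et f 2 5 + et f 2 7 + (-1) * et f 3 3 + et f 3 5 + et f 3 7 + (-1) * et f 4 3 + et f 4 7) * z2_two
  have vec_6 : f (pO QF hQ (U 0) (U 6) (qU 0) (qU 6)) = mv ⇑QF (rO QF (U 0) (qU 0) * rO QF (U 6) (qU 6)) v - v := by
    apply eq_of_polar
    refine ⟨?_, ?_, ?_, ?_, ?_, ?_, ?_, ?_⟩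
    · rw [QuadraticMap.polar_sub_left, polar_mv_pair]
      simp only [et_def, hv0, hv1, hv2, hv3, hv4, hv5, hv6, hv7, B_0_0, B_0_1, B_0_2, B_0_3, B_0_4, B_0_5, B_0_6, B_0_7, B_1_0, B_1_1, B_1_2, B_1_3, B_1_4, B_1_5, B_1_6, B_1_7, B_2_0, B_2_1, B_2_2, B_2_3, B_2_4, B_2_5, B_2_6, B_2_7, B_3_0, B_3_1, B_3_2, B_3_3, B_3_4, B_3_5, B_3_6, B_3_7, B_4_0, B_4_1, B_4_2, B_4_3, B_4_4, B_4_5, B_4_6, B_4_7, B_5_0, B_5_1, B_5_2, B_5_3, B_5_4, B_5_5, B_5_6, B_5_7, B_6_0, B_6_1, B_6_2, B_6_3, B_6_4, B_6_5, B_6_6, B_6_7, B_7_0, B_7_1, B_7_2, B_7_3, B_7_4, B_7_5, B_7_6, B_7_7, mul_zero, mul_one, zero_mul, one_mul, add_zero, zero_add] <;>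
      linear_combination cR_6_1
    · rw [QuadraticMap.polar_sub_left, polar_mv_pair]
      simp only [et_def, hv0, hv1, hv2, hv3, hv4, hv5, hv6, hv7, B_0_0, B_0_1, B_0_2, B_0_3, B_0_4, B_0_5, B_0_6, B_0_7, B_1_0, B_1_1, B_1_2, B_1_3, B_1_4, B_1_5, B_1_6, B_1_7, B_2_0, B_2_1, B_2_2, B_2_3, B_2_4, B_2_5, B_2_6, B_2_7, B_3_0, B_3_1, B_3_2, B_3_3, B_3_4, B_3_5, B_3_6, B_3_7, B_4_0, B_4_1, B_4_2, B_4_3, B_4_4, B_4_5, B_4_6, B_4_7, B_5_0, B_5_1, B_5_2, B_5_3, B_5_4, B_5_5, B_5_6, B_5_7, B_6_0, B_6_1, B_6_2, B_6_3, B_6_4, B_6_5, B_6_6, B_6_7, B_7_0, B_7_1, B_7_2, B_7_3, B_7_4, B_7_5, B_7_6, B_7_7, mul_zero, mul_one, zero_mul, one_mul, add_zero, zero_add] <;>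
      linear_combination cR_6_1 + cP_1_6_0 - (et f 1 0 + et f 1 1 + et f 6 0) * z2_two
    · rw [QuadraticMap.polar_sub_left, polar_mv_pair]
      simp only [et_def, hv0, hv1, hv2, hv3, hv4, hv5, hv6, hv7, B_0_0, B_0_1, B_0_2, B_0_3, B_0_4, B_0_5, B_0_6, B_0_7, B_1_0, B_1_1, B_1_2, B_1_3, B_1_4, B_1_5, B_1_6, B_1_7, B_2_0, B_2_1, B_2_2, B_2_3, B_2_4, B_2_5, B_2_6, B_2_7, B_3_0, B_3_1, B_3_2, B_3_3, B_3_4, B_3_5, B_3_6, B_3_7, B_4_0, B_4_1, B_4_2, B_4_3, B_4_4, B_4_5, B_4_6, B_4_7, B_5_0, B_5_1, B_5_2, B_5_3, B_5_4, B_5_5, B_5_6, B_5_7, B_6_0, B_6_1, B_6_2, B_6_3, B_6_4, B_6_5, B_6_6, B_6_7, B_7_0, B_7_1, B_7_2, B_7_3, B_7_4, B_7_5, B_7_6, B_7_7, mul_zero, mul_one, zero_mul, one_mul, add_zero, zero_add] <;>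
      linear_combination cR_2_3 + cP_2_6_1 - (et f 2 2) * z2_two
    · rw [QuadraticMap.polar_sub_left, polar_mv_pair]
      simp only [et_def, hv0, hv1, hv2, hv3, hv4, hv5, hv6, hv7, B_0_0, B_0_1, B_0_2, B_0_3, B_0_4, B_0_5, B_0_6, B_0_7, B_1_0, B_1_1, B_1_2, B_1_3, B_1_4, B_1_5, B_1_6, B_1_7, B_2_0, B_2_1, B_2_2, B_2_3, B_2_4, B_2_5, B_2_6, B_2_7, B_3_0, B_3_1, B_3_2, B_3_3, B_3_4, B_3_5, B_3_6, B_3_7, B_4_0, B_4_1, B_4_2, B_4_3, B_4_4, B_4_5, B_4_6, B_4_7, B_5_0, B_5_1, B_5_2, B_5_3, B_5_4, B_5_5, B_5_6, B_5_7, B_6_0, B_6_1, B_6_2, B_6_3, B_6_4, B_6_5, B_6_6, B_6_7, B_7_0, B_7_1, B_7_2, B_7_3, B_7_4, B_7_5, B_7_6, B_7_7, mul_zero, mul_one, zero_mul, one_mul, add_zero, zero_add] <;>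
      linear_combination cR_3_2 + cP_3_6_2 - (et f 3 3) * z2_two
    · rw [QuadraticMap.polar_sub_left, polar_mv_pair]
      simp only [et_def, hv0, hv1, hv2, hv3, hv4, hv5, hv6, hv7, B_0_0, B_0_1, B_0_2, B_0_3, B_0_4, B_0_5, B_0_6, B_0_7, B_1_0, B_1_1, B_1_2, B_1_3, B_1_4, B_1_5, B_1_6, B_1_7, B_2_0, B_2_1, B_2_2, B_2_3, B_2_4, B_2_5, B_2_6, B_2_7, B_3_0, B_3_1, B_3_2, B_3_3, B_3_4, B_3_5, B_3_6, B_3_7, B_4_0, B_4_1, B_4_2, B_4_3, B_4_4, B_4_5, B_4_6, B_4_7, B_5_0, B_5_1, B_5_2, B_5_3, B_5_4, B_5_5, B_5_6, B_5_7, B_6_0, B_6_1, B_6_2, B_6_3, B_6_4, B_6_5, B_6_6, B_6_7, B_7_0, B_7_1, B_7_2, B_7_3, B_7_4, B_7_5, B_7_6, B_7_7, mul_zero, mul_one, zero_mul, one_mul, add_zero, zero_add] <;>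
      linear_combination cR_4_3 + cP_4_6_3 - (et f 4 4) * z2_two
    · rw [QuadraticMap.polar_sub_left, polar_mv_pair]
      simp only [et_def, hv0, hv1, hv2, hv3, hv4, hv5, hv6, hv7, B_0_0, B_0_1, B_0_2, B_0_3, B_0_4, B_0_5, B_0_6, B_0_7, B_1_0, B_1_1, B_1_2, B_1_3, B_1_4, B_1_5, B_1_6, B_1_7, B_2_0, B_2_1, B_2_2, B_2_3, B_2_4, B_2_5, B_2_6, B_2_7, B_3_0, B_3_1, B_3_2, B_3_3, B_3_4, B_3_5, B_3_6, B_3_7, B_4_0, B_4_1, B_4_2, B_4_3, B_4_4, B_4_5, B_4_6, B_4_7, B_5_0, B_5_1, B_5_2, B_5_3, B_5_4, B_5_5, B_5_6, B_5_7, B_6_0, B_6_1, B_6_2, B_6_3, B_6_4, B_6_5, B_6_6, B_6_7, B_7_0, B_7_1, B_7_2, B_7_3, B_7_4, B_7_5, B_7_6, B_7_7, mul_zero, mul_one, zero_mul, one_mul, add_zero, zero_add] <;>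
      ring
    · rw [QuadraticMap.polar_sub_left, polar_mv_pair]
      simp only [et_def, hv0, hv1, hv2, hv3, hv4, hv5, hv6, hv7, B_0_0, B_0_1, B_0_2, B_0_3, B_0_4, B_0_5, B_0_6, B_0_7, B_1_0, B_1_1, B_1_2, B_1_3, B_1_4, B_1_5, B_1_6, B_1_7, B_2_0, B_2_1, B_2_2, B_2_3, B_2_4, B_2_5, B_2_6, B_2_7, B_3_0, B_3_1, B_3_2, B_3_3, B_3_4, B_3_5, B_3_6, B_3_7, B_4_0, B_4_1, B_4_2, B_4_3, B_4_4, B_4_5, B_4_6, B_4_7, B_5_0, B_5_1, B_5_2, B_5_3, B_5_4, B_5_5, B_5_6, B_5_7, B_6_0, B_6_1, B_6_2, B_6_3, B_6_4, B_6_5, B_6_6, B_6_7, B_7_0, B_7_1, B_7_2, B_7_3, B_7_4, B_7_5, B_7_6, B_7_7, mul_zero, mul_one, zero_mul, one_mul, add_zero, zero_add] <;>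
      linear_combination cR_6_5
    · rw [QuadraticMap.polar_sub_left, polar_mv_pair]
      simp only [et_def, hv0, hv1, hv2, hv3, hv4, hv5, hv6, hv7, B_0_0, B_0_1, B_0_2, B_0_3, B_0_4, B_0_5, B_0_6, B_0_7, B_1_0, B_1_1, B_1_2, B_1_3, B_1_4, B_1_5, B_1_6, B_1_7, B_2_0, B_2_1, B_2_2, B_2_3, B_2_4, B_2_5, B_2_6, B_2_7, B_3_0, B_3_1, B_3_2, B_3_3, B_3_4, B_3_5, B_3_6, B_3_7, B_4_0, B_4_1, B_4_2, B_4_3, B_4_4, B_4_5, B_4_6, B_4_7, B_5_0, B_5_1, B_5_2, B_5_3, B_5_4, B_5_5, B_5_6, B_5_7, B_6_0, B_6_1, B_6_2, B_6_3, B_6_4, B_6_5, B_6_6, B_6_7, B_7_0, B_7_1, B_7_2, B_7_3, B_7_4, B_7_5, B_7_6, B_7_7, mul_zero, mul_one, zero_mul, one_mul, add_zero, zero_add] <;>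
      linear_combination cR_1_5 + cR_1_7 + cR_5_4 + cP_1_2_5 + cP_1_2_7 + cP_2_3_5 + cP_2_3_7 + cP_3_4_5 + cP_3_4_7 + cP_4_5_7 + cP_5_6_7 - (et f 1 5 + et f 1 7 + et f 2 5 + et f 2 7 + (-1) * et f 3 3 + et f 3 5 + et f 3 7 + (-1) * et f 4 3 + et f 4 7 + et f 5 7) * z2_two
  have vec_7 : f (pO QF hQ (U 0) (U 7) (qU 0) (qU 7)) = mv ⇑QF (rO QF (U 0) (qU 0) * rO QF (U 7) (qU 7)) v - v := by
    apply eq_of_polar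
    refine ⟨?_, ?_, ?_, ?_, ?_, ?_, ?_, ?_⟩
    · rw [QuadraticMap.polar_sub_left, polar_mv_pair]
      simp only [et_def, hv0, hv1, hv2, hv3, hv4, hv5, hv6, hv7, B_0_0, B_0_1, B_0_2, B_0_3, B_0_4, B_0_5, B_0_6, B_0_7, B_1_0, B_1_1, B_1_2, B_1_3, B_1_4, B_1_5, B_1_6, B_1_7, B_2_0, B_2_1, B_2_2, B_2_3, B_2_4, B_2_5, B_2_6, B_2_7, B_3_0, B_3_1, B_3_2, B_3_3, B_3_4, B_3_5, B_3_6, B_3_7, B_4_0, B_4_1, B_4_2, B_4_3, B_4_4, B_4_5, B_4_6, B_4_7, B_5_0, B_5_1, B_5_2, B_5_3, B_5_4, B_5_5, B_5_6, B_5_7, B_6_0, B_6_1, B_6_2, B_6_3, B_6_4, B_6_5, B_6_6, B_6_7, B_7_0, B_7_1, B_7_2, B_7_3, B_7_4, B_7_5, B_7_6, B_7_7, mul_zero, mul_one, zero_mul, one_mul, add_zero, zero_add] <;>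
      linear_combination cR_7_1
    · rw [QuadraticMap.polar_sub_left, polar_mv_pair]
      simp only [et_def, hv0, hv1, hv2, hv3, hv4, hv5, hv6, hv7, B_0_0, B_0_1, B_0_2, B_0_3, B_0_4, B_0_5, B_0_6, B_0_7, B_1_0, B_1_1, B_1_2, B_1_3, B_1_4, B_1_5, B_1_6, B_1_7, B_2_0, B_2_1, B_2_2, B_2_3, B_2_4, B_2_5, B_2_6, B_2_7, B_3_0, B_3_1, B_3_2, B_3_3, B_3_4, B_3_5, B_3_6, B_3_7, B_4_0, B_4_1, B_4_2, B_4_3, B_4_4, B_4_5, B_4_6, B_4_7, B_5_0, B_5_1, B_5_2, B_5_3, B_5_4, B_5_5, B_5_6, B_5_7, B_6_0, B_6_1, B_6_2, B_6_3, B_6_4, B_6_5, B_6_6, B_6_7, B_7_0, B_7_1, B_7_2, B_7_3, B_7_4, B_7_5, B_7_6, B_7_7, mul_zero, mul_one, zero_mul, one_mul, add_zero, zero_add] <;>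
      linear_combination cR_7_1 + cP_1_7_0 - (et f 1 0 + et f 1 1 + et f 7 0) * z2_two
    · rw [QuadraticMap.polar_sub_left, polar_mv_pair]
      simp only [et_def, hv0, hv1, hv2, hv3, hv4, hv5, hv6, hv7, B_0_0, B_0_1, B_0_2, B_0_3, B_0_4, B_0_5, B_0_6, B_0_7, B_1_0, B_1_1, B_1_2, B_1_3, B_1_4, B_1_5, B_1_6, B_1_7, B_2_0, B_2_1, B_2_2, B_2_3, B_2_4, B_2_5, B_2_6, B_2_7, B_3_0, B_3_1, B_3_2, B_3_3, B_3_4, B_3_5, B_3_6, B_3_7, B_4_0, B_4_1, B_4_2, B_4_3, B_4_4, B_4_5, B_4_6, B_4_7, B_5_0, B_5_1, B_5_2, B_5_3, B_5_4, B_5_5, B_5_6, B_5_7, B_6_0, B_6_1, B_6_2, B_6_3, B_6_4, B_6_5, B_6_6, B_6_7, B_7_0, B_7_1, B_7_2, B_7_3, B_7_4, B_7_5, B_7_6, B_7_7, mul_zero, mul_one, zero_mul, one_mul, add_zero, zero_add] <;>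
      linear_combination cR_2_3 + cP_2_7_1 - (et f 2 2) * z2_two
    · rw [QuadraticMap.polar_sub_left, polar_mv_pair]
      simp only [et_def, hv0, hv1, hv2, hv3, hv4, hv5, hv6, hv7, B_0_0, B_0_1, B_0_2, B_0_3, B_0_4, B_0_5, B_0_6, B_0_7, B_1_0, B_1_1, B_1_2, B_1_3, B_1_4, B_1_5, B_1_6, B_1_7, B_2_0, B_2_1, B_2_2, B_2_3, B_2_4, B_2_5, B_2_6, B_2_7, B_3_0, B_3_1, B_3_2, B_3_3, B_3_4, B_3_5, B_3_6, B_3_7, B_4_0, B_4_1, B_4_2, B_4_3, B_4_4, B_4_5, B_4_6, B_4_7, B_5_0, B_5_1, B_5_2, B_5_3, B_5_4, B_5_5, B_5_6, B_5_7, B_6_0, B_6_1, B_6_2, B_6_3, B_6_4, B_6_5, B_6_6, B_6_7, B_7_0, B_7_1, B_7_2, B_7_3, B_7_4, B_7_5, B_7_6, B_7_7, mul_zero, mul_one, zero_mul, one_mul, add_zero, zero_add] <;>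
      linear_combination cR_3_2 + cP_3_7_2 - (et f 3 3) * z2_two
    · rw [QuadraticMap.polar_sub_left, polar_mv_pair]
      simp only [et_def, hv0, hv1, hv2, hv3, hv4, hv5, hv6, hv7, B_0_0, B_0_1, B_0_2, B_0_3, B_0_4, B_0_5, B_0_6, B_0_7, B_1_0, B_1_1, B_1_2, B_1_3, B_1_4, B_1_5, B_1_6, B_1_7, B_2_0, B_2_1, B_2_2, B_2_3, B_2_4, B_2_5, B_2_6, B_2_7, B_3_0, B_3_1, B_3_2, B_3_3, B_3_4, B_3_5, B_3_6, B_3_7, B_4_0, B_4_1, B_4_2, B_4_3, B_4_4, B_4_5, B_4_6, B_4_7, B_5_0, B_5_1, B_5_2, B_5_3, B_5_4, B_5_5, B_5_6, B_5_7, B_6_0, B_6_1, B_6_2, B_6_3, B_6_4, B_6_5, B_6_6, B_6_7, B_7_0, B_7_1, B_7_2, B_7_3, B_7_4, B_7_5, B_7_6, B_7_7, mul_zero, mul_one, zero_mul, one_mul, add_zero, zero_add] <;>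
      ring
    · rw [QuadraticMap.polar_sub_left, polar_mv_pair]
      simp only [et_def, hv0, hv1, hv2, hv3, hv4, hv5, hv6, hv7, B_0_0, B_0_1, B_0_2, B_0_3, B_0_4, B_0_5, B_0_6, B_0_7, B_1_0, B_1_1, B_1_2, B_1_3, B_1_4, B_1_5, B_1_6, B_1_7, B_2_0, B_2_1, B_2_2, B_2_3, B_2_4, B_2_5, B_2_6, B_2_7, B_3_0, B_3_1, B_3_2, B_3_3, B_3_4, B_3_5, B_3_6, B_3_7, B_4_0, B_4_1, B_4_2, B_4_3, B_4_4, B_4_5, B_4_6, B_4_7, B_5_0, B_5_1, B_5_2, B_5_3, B_5_4, B_5_5, B_5_6, B_5_7, B_6_0, B_6_1, B_6_2, B_6_3, B_6_4, B_6_5, B_6_6, B_6_7, B_7_0, B_7_1, B_7_2, B_7_3, B_7_4, B_7_5, B_7_6, B_7_7, mul_zero, mul_one, zero_mul, one_mul, add_zero, zero_add] <;>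
      linear_combination cR_1_5 + cR_1_7 + cR_7_4 + cP_1_2_5 + cP_1_2_7 + cP_2_3_5 + cP_2_3_7 + cP_3_4_5 + cP_3_4_7 + cP_4_7_5 - (et f 1 5 + et f 1 7 + et f 2 5 + et f 2 7 + (-1) * et f 3 3 + et f 3 5 + et f 3 7 + (-1) * et f 4 3 + et f 4 5) * z2_two
    · rw [QuadraticMap.polar_sub_left, polar_mv_pair]
      simp only [et_def, hv0, hv1, hv2, hv3, hv4, hv5, hv6, hv7, B_0_0, B_0_1, B_0_2, B_0_3, B_0_4, B_0_5, B_0_6, B_0_7, B_1_0, B_1_1, B_1_2, B_1_3, B_1_4, B_1_5, B_1_6, B_1_7, B_2_0, B_2_1, B_2_2, B_2_3, B_2_4, B_2_5, B_2_6, B_2_7, B_3_0, B_3_1, B_3_2, B_3_3, B_3_4, B_3_5, B_3_6, B_3_7, B_4_0, B_4_1, B_4_2, B_4_3, B_4_4, B_4_5, B_4_6, B_4_7, B_5_0, B_5_1, B_5_2, B_5_3, B_5_4, B_5_5, B_5_6, B_5_7, B_6_0, B_6_1, B_6_2, B_6_3, B_6_4, B_6_5, B_6_6, B_6_7, B_7_0, B_7_1, B_7_2, B_7_3,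 B_7_4, B_7_5, B_7_6, B_7_7, mul_zero, mul_one, zero_mul, one_mul, add_zero, zero_add] <;>
      linear_combination cR_1_6 + cP_1_2_6 + cP_2_3_6 + cP_3_4_6 + cP_4_7_6 - (et f 1 6 + et f 2 6 + et f 3 6 + et f 4 6) * z2_two
    · rw [QuadraticMap.polar_sub_left, polar_mv_pair]
      simp only [et_def, hv0, hv1, hv2, hv3, hv4, hv5, hv6, hv7, B_0_0, B_0_1, B_0_2, B_0_3, B_0_4, B_0_5, B_0_6, B_0_7, B_1_0, B_1_1, B_1_2, B_1_3, B_1_4, B_1_5, B_1_6, B_1_7, B_2_0, B_2_1, B_2_2, B_2_3, B_2_4, B_2_5, B_2_6, B_2_7, B_3_0, B_3_1, B_3_2, B_3_3, B_3_4, B_3_5, B_3_6, B_3_7, B_4_0, B_4_1, B_4_2, B_4_3, B_4_4, B_4_5, B_4_6, B_4_7, B_5_0, B_5_1, B_5_2, B_5_3, B_5_4, B_5_5, B_5_6, B_5_7, B_6_0, B_6_1, B_6_2, B_6_3, B_6_4, B_6_5, B_6_6, B_6_7, B_7_0, B_7_1, B_7_2, B_7_3, B_7_4, B_7_5, B_7_6, B_7_7, mul_zero,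 mul_one, zero_mul, one_mul, add_zero, zero_add] <;>
      linear_combination cR_7_4
  refine ⟨v, principal_of_simple hQ hR hf (U 0) (qU 0) v S dep ?_ reach⟩
  intro s hs hs1
  simp only [S, List.mem_cons, List.not_mem_nil, or_false] at hs
  rcases hs with rfl | rfl | rfl | rfl | rfl | rfl | rfl | rfl
  · exact coc_base hf hQ (U 0) (qU 0) hs1 v
  · exact vec_1
  · exact vec_2
  · exact vec_3
  · exact vec_4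
  · exact vec_5
  · exact vec_6
  · exact vec_7

end Cfsg.Agent.Helper91.H1.E8
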