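/-
Helper91: the two-point stabilizer `M22` of `Cfsg.M24` has no subgroup of order 7920 and none of order 2112
(so none of index 56 or 210): Sylow counting with the normalizers of subgroups of orders 11 and 5.
-/
import Cfsg.Agent.Helper91.NormEnum
import Cfsg.Agent.Helper91.PSL23c
import Cfsg.Agent.Helper91.M22Chain
import Cfsg.Agent.Helper7.AutTools

set_option autoImplicit false
set_option maxRecDepth 100000

namespace Cfsg.Agent.Helper91.Idx22

open Cfsg Cfsg.Agent.Helper91 Cfsg.Agent.Helper91.PSL23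

/-- The stabilizer in `M22` of the set of fixed points of `u`. Levels of the stabilizer chain (base 1, 2, 4, 3; orbit lengths 2, 20, 16, 3). -/

def nuLevels : List Level := [
  ⟨[.sub 0, .compl 0, .sub 8388609, .compl 8388609, .compl 8388643, .and 8388606 8388643],
    34, 1,
    [[0, 1, 2, 3, 4, 5, 6, 7, 8, 9, 10, 11, 12, 13, 14, 15, 16, 17, 18, 19, 20, 21, 22, 23],
     [0, 5, 2, 17, 10, 1, 20, 19, 12, 21, 15, 9, 7, 11, 14, 16, 4, 3, 22, 8, 18, 13, 6, 23]]⟩,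
  ⟨[.sub 2, .compl 2, .and 34 16777213, .fix 5],
    8388572, 2,
    [[0, 1, 2, 3, 4, 5, 6, 7, 8, 9, 10, 11, 12, 13, 14, 15, 16, 17, 18, 19, 20, 21, 22, 23],
     [0, 1, 3, 14, 22, 5, 11, 20, 6, 7, 16, 8, 10, 15, 2, 18, 12, 17, 13, 19, 9, 4, 21, 23],
     [0, 1, 4, 15, 13, 5, 12, 9, 21, 20, 3, 18, 14, 22, 8, 11, 2, 7, 10, 17, 19, 6, 16, 23],
     [0, 1, 6, 20, 10, 5, 4, 12, 19, 14, 11, 2, 21, 3, 22, 16, 13, 18, 7, 9, 15, 17, 8, 23],
     [0, 1, 7, 8, 13, 5, 16, 9, 21, 22, 17, 6, 2, 20, 15, 11, 14, 4, 19, 3, 10, 18, 12, 23],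
     [0, 1, 8, 7, 9, 5, 10, 13, 11, 20, 17, 18, 2, 22, 4, 21, 14, 15, 12, 3, 16, 6, 19, 23],
     [0, 1, 9, 13, 22, 5, 7, 18, 20, 17, 12, 2, 10, 14, 21, 6, 19, 11, 15, 16, 4, 3, 8, 23],
     [0, 1, 10, 19, 13, 5, 22, 11, 9, 4, 14, 15, 2, 8, 12, 21, 3, 16, 20, 17, 18, 7, 6, 23],
     [0, 1, 11, 13, 20, 5, 17, 22, 18, 16, 15, 12, 8, 19, 9, 6, 4, 21, 2, 7, 14, 10, 3, 23],
     [0, 1, 12, 19, 14, 5, 21, 3, 2, 4, 6, 8, 18, 7, 16, 17, 20, 10, 11, 22, 9, 15, 13, 23],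
     [0, 1, 13, 9, 3, 5, 12, 14, 17, 22, 4, 18, 15, 6, 11, 2, 8, 21, 19, 7, 16, 20, 10, 23],
     [0, 1, 14, 3, 7, 5, 19, 8, 4, 6, 11, 18, 21, 20, 17, 15, 13, 2, 10, 9, 16, 22, 12, 23],
     [0, 1, 15, 8, 18, 5, 16, 6, 20, 3, 21, 2, 9, 17, 4, 22, 13, 7, 10, 11, 12, 14, 19, 23],
     [0, 1, 16, 10, 15, 5, 18, 7, 4, 17, 21, 2, 13, 14, 12, 8, 11, 19, 22, 9, 20, 3, 6, 23],
     [0, 1, 17, 14, 22, 5, 4, 6, 18, 16, 21, 19, 13, 10, 3, 20, 11, 2, 15, 9, 8, 12, 7, 23],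
     [0, 1, 18, 22, 16, 5, 15, 19, 12, 14, 21, 2, 11, 3, 20, 10, 9, 6, 8, 13, 4, 17, 7, 23],
     [0, 1, 19, 16, 13, 5, 8, 9, 21, 3, 20, 2, 6, 17, 12, 11, 18, 10, 7, 22, 4, 14, 15, 23],
     [0, 1, 20, 6, 19, 5, 8, 16, 10, 14, 13, 2, 9, 3, 18, 12, 11, 22, 15, 21, 7, 17, 4, 23],
     [0, 1, 21, 9, 3, 5, 20, 17, 2, 4, 10, 7, 19, 15, 13, 14, 12, 11, 6, 16, 18, 8, 22, 23],
     [0, 1, 22, 18, 12, 5, 7, 10, 16, 14, 9, 2, 13, 3, 6, 19, 21, 20, 4, 11, 8, 17, 15, 23]]⟩,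
  ⟨[.sub 4, .compl 4, .and 8388572 16777211, .cw 8536111 [8388568], .compl 8536111, .and 8388568 8536111],
    8241104, 4,
    [[0, 1, 2, 3, 4, 5, 6, 7, 8, 9, 10, 11, 12, 13, 14, 15, 16, 17, 18, 19, 20, 21, 22, 23],
     [0, 1, 2, 14, 6, 5, 10, 20, 18, 13, 4, 11, 8, 21, 17, 22, 7, 3, 12, 15, 16, 9, 19, 23],
     [0, 1, 2, 3, 7, 5, 22, 4, 15, 11, 12, 9, 10, 21, 14, 8, 19, 17, 20, 16, 18, 13, 6, 23],
     [0, 1, 2, 3, 8, 5, 20, 15, 4, 21, 19, 13, 16, 11, 14, 7, 12, 17, 22, 10, 6, 9, 18, 23],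
     [0, 1, 2, 14, 9, 5, 7, 21, 13, 18, 12, 22, 16, 20, 17, 11, 10, 3, 4, 19, 8, 6, 15, 23],
     [0, 1, 2, 17, 10, 5, 4, 16, 12, 21, 6, 11, 18, 9, 3, 19, 20, 14, 8, 22, 7, 13, 15, 23],
     [0, 1, 2, 14, 11, 5, 4, 13, 21, 20, 10, 6, 19, 18, 17, 9, 12, 3, 7, 16, 15, 22, 8, 23],
     [0, 1, 2, 17, 12, 5, 7, 19, 10, 13, 22, 9, 20, 11, 3, 16, 18, 14, 15, 6, 4, 21, 8, 23],
     [0, 1, 2, 14, 13, 5, 8, 11, 9, 6, 19, 20, 10, 22, 17, 21, 16, 3, 15, 12, 7, 18, 4, 23],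
     [0, 1, 2, 3, 15, 5, 18, 8, 7, 13, 16, 21, 19, 9, 14, 4, 10, 17, 6, 12, 22, 11, 20, 23],
     [0, 1, 2, 17, 16, 5, 15, 10, 19, 11, 18, 21, 6, 13, 3, 12, 22, 14, 7, 20, 8, 9, 4, 23],
     [0, 1, 2, 14, 18, 5, 16, 22, 6, 9, 15, 21, 7, 11, 17, 20, 8, 3, 19, 4, 10, 13, 12, 23],
     [0, 1, 2, 17, 19, 5, 8, 12, 16, 9, 20, 13, 22, 21, 3, 10, 6, 14, 4, 18, 15, 11, 7, 23],
     [0, 1, 2, 14, 20, 5, 19, 6, 22, 11, 8, 13, 4, 9, 17, 18, 15, 3, 16, 7, 12, 21, 10, 23],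
     [0, 1, 2, 14, 21, 5, 15, 9, 11, 22, 16, 18, 12, 6, 17, 13, 19, 3, 8, 10, 4, 20, 7, 23],
     [0, 1, 2, 14, 22, 5, 12, 18, 20, 21, 7, 9, 15, 13, 17, 6, 4, 3, 10, 8, 19, 11, 16, 23]]⟩,
  ⟨[.sub 16, .compl 16, .and 8241104 16777199],
    147464, 3,
    [[0, 1, 2, 3, 4, 5, 6, 7, 8, 9, 10, 11, 12, 13, 14, 15, 16, 17, 18, 19, 20, 21, 22, 23],
     [0, 1, 2, 14, 4, 5, 11, 8, 15, 19, 6, 10, 20, 16, 17, 7, 22, 3, 9, 18, 21, 12, 13, 23],
     [0, 1, 2, 17, 4, 5, 10, 15, 7, 18, 11, 6, 21, 22, 3, 8, 13, 14, 19, 9, 12, 20, 16, 23]]⟩]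

/-- The stabilizer in `M22` of the set of fixed points of `u`. Final rigidity certificate. -/

def nuFin : List Step :=
  [.sub 8, .compl 8, .and 147464 16777207, .cw 13811730 [8241088], .compl 13811730, .and 8241088 13811730,
   .and 8241088 2965485, .cw 14716939 [2965440], .compl 14716939, .and 5275648 14716939, .and 5275648 2060276,
   .fix 20, .and 2965440 14716939, .and 2965440 2060276, .cw 15747077 [864192], .compl 15747077,
   .and 147456 15747077, .and 147456 1030138, .fix 14, .fix 17, .and 4227072 15747077, .and 4227072 1030138,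
   .fix 22, .fix 15, .and 2101248 15747077, .and 2101248 1030138, .fix 21, .fix 12, .and 864192 15747077,
   .and 864192 1030138, .fix 11, .cw 15335473 [862144], .compl 15335473, .and 862144 15335473,
   .and 862144 1441742, .fix 19, .cw 16262146 [337856], .compl 16262146, .and 337856 16262146,
   .and 337856 515069, .cw 14949408 [328640], .compl 14949408, .and 9216 14949408, .and 9216 1827807, .fix 10,
   .fix 13, .and 328640 14949408, .and 328640 1827807, .fix 18, .cw 16056344 [], .compl 16056344,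
   .and 66496 16056344, .and 66496 720871, .fix 16, .cw 15515712 [], .compl 15515712, .and 960 15515712,
   .and 960 1261503, .fix 6, .cw 15864000 [], .compl 15864000, .and 896 15864000, .and 896 913215, .fix 7,
   .cw 15274244 [], .compl 15274244, .and 768 15274244, .and 768 1502971, .fix 8, .fix 9]

theorem nu_chain_ok : checkChain [8388643] 8388609 8388609 [8388643] nuLevels nuFin = true := by
  decide +kernel

/-- Table of an element `u` of order 5 normalizing `⟨sigma⟩`. -/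
def uT : List Nat := [0, 1, 8, 4, 18, 5, 9, 22, 6, 16, 17, 10, 3, 12, 15, 20, 2, 7, 13, 14, 21, 19, 11, 23]

/-- Table of an element `w` of order 4 normalizing `⟨u⟩`. -/
def wT : List Nat := [0, 5, 2, 17, 11, 1, 8, 13, 9, 16, 18, 12, 22, 10, 14, 21, 6, 3, 7, 20, 15, 19, 4, 23]

/-- Tables of the powers of `u`. -/
def uK : List (List Nat) :=
  [[0, 1, 2, 3, 4, 5, 6, 7, 8, 9, 10, 11, 12, 13, 14, 15, 16, 17, 18, 19, 20, 21, 22, 23],
   [0, 1, 8, 4, 18, 5, 9, 22, 6, 16, 17, 10, 3, 12, 15, 20, 2, 7, 13, 14, 21, 19, 11, 23],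
   [0, 1, 6, 18, 13, 5, 16, 11, 9, 2, 7, 17, 4, 3, 20, 21, 8, 22, 12, 15, 19, 14, 10, 23],
   [0, 1, 9, 13, 12, 5, 2, 10, 16, 8, 22, 7, 18, 4, 21, 19, 6, 11, 3, 20, 14, 15, 17, 23],
   [0, 1, 16, 12, 3, 5, 8, 17, 2, 6, 11, 22, 13, 18, 19, 14, 9, 10, 4, 21, 15, 20, 7, 23]]

/-- The packed tables of the normalizer of `⟨u⟩` in `M22`. -/
def nuL : List Nat :=
  [984818244535754528103549039458486304, 970499966350631336865513127433832480, 978239198764604640668953934463309856, 968955966875123533138286166201145376, 969240118097008726526406917528625184, 970459361523271695787015306425278496, 978076899444677511050001024522036256, 965056821765719142683987426599674912, 965300289861748889990672440075108384, 984574657262612311324662570656612384, 961365466224211430041156085672872096, 971592914598343034710976577235617952, 961446358753518740900183265768052896, 972893446712482006054773520181434528, 979342077611468069252967465706823840,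 960106661994280428078404200614305952, 971795461774024463324370387449783456, 979544664369796679732502151852041376, 972852921263189925364643225991987360, 960147068656942840113441962451091616]

theorem uT_valid : validTab uT = true := by decide
theorem wT_valid : validTab wT = true := by decide

/-- An element of order 5 normalizing `⟨sigma⟩`. -/
noncomputable def u : Equiv.Perm GolayPt := permT uT uT_valid

/-- An element of order 4 normalizing `⟨u⟩`. -/
noncomputable def w : Equiv.Perm GolayPt := permT wT wT_valid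

theorem u_apply (p : GolayPt) : u p = pt (uT.getD (idx p) 0) := rfl
theorem w_apply (p : GolayPt) : w p = pt (wT.getD (idx p) 0) := rfl

theorem u_pow_five : u ^ 5 = 1 := Equiv.ext (by decide)

theorem u_ne_one : u ≠ 1 := fun h => absurd (congrArg (fun f : Equiv.Perm GolayPt => f (pt 2)) h) (by decide)

theorem orderOf_u : orderOf u = 5 := by
  have : Fact (Nat.Prime 5) := ⟨by norm_num⟩
  exact orderOf_eq_prime u_pow_five u_ne_one

theorem u_pow_tab : ∀ k < 5, ∃ K ∈ uK, (∀ i < 24, K.getD i 0 < 24) ∧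
    ∀ p, (u ^ k) p = pt (K.getD (idx p) 0) := by
  intro k hk
  interval_cases k
  · exact ⟨uK.getD 0 [], by decide, by decide, by decide⟩
  · exact ⟨uK.getD 1 [], by decide, by decide, by decide⟩
  · exact ⟨uK.getD 2 [], by decide, by decide, by decide⟩
  · exact ⟨uK.getD 3 [], by decide, by decide, by decide⟩
  · exact ⟨uK.getD 4 [], by decide, by decide, by decide⟩

theorem u_fix : ∀ k < 5, 0 < k → ∀ q, (u ^ k) q = q → u q = q := by decide

/-- The group `M22`, as the stabilizer of the points `∞` and `0`. -/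
abbrev M : Subgroup (Equiv.Perm GolayPt) := stabSub 8388609 []

theorem fix_M {g : Equiv.Perm GolayPt} (hg : g ∈ M) : g none = none ∧ g (some 0) = some 0 :=
  ⟨hg.2.1 none (by decide), hg.2.1 (some 0) (by decide)⟩

theorem mem_M {g : Equiv.Perm GolayPt} (h24 : g ∈ M24) (h1 : g none = none) (h2 : g (some 0) = some 0) :
    g ∈ M := by
  refine ⟨h24, ?_, fun I hI => absurd hI List.not_mem_nil⟩
  have key : ∀ r : GolayPt, (8388609 : Nat).testBit (idx r) = true → r = none ∨ r = some 0 := by decide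
  intro r hr
  rcases key r hr with rfl | rfl
  · exact h1
  · exact h2

theorem sigma_mem_M : sigma ∈ M :=
  mem_M (mulU_mem_M24 ⟨⟨5, 14, by decide, by decide⟩, by decide⟩) rfl (by decide)

theorem u_mem_M : u ∈ M := mem_M (permT_mem_M24 _ (by decide +kernel)) (by decide) (by decide)

theorem w_mem_M : w ∈ M := mem_M (permT_mem_M24 _ (by decide +kernel)) (by decide) (by decide)

theorem u_sigma : u * sigma = sigma ^ 3 * u := Equiv.ext (by decide)

theorem w_u : w * u = u ^ 3 * w := Equiv.ext (by decide)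

theorem y_pow : (sigma * w) ^ 7 = 1 := Equiv.ext (by decide)

theorem y_ne_one : sigma * w ≠ 1 :=
  fun h => absurd (congrArg (fun f : Equiv.Perm GolayPt => f (pt 1)) h) (by decide)

theorem orderOf_y : orderOf (sigma * w) = 7 := by
  have : Fact (Nat.Prime 7) := ⟨by norm_num⟩
  exact orderOf_eq_prime y_pow y_ne_one

theorem norm_sigma_le : Subgroup.normalizer (Subgroup.zpowers sigma : Set (Equiv.Perm GolayPt)) ⊓ M ≤ N2 := by
  rintro g ⟨hn, hg⟩
  exact ⟨⟨⟨hn, hg.1⟩, (fix_M hg).1⟩, (fix_M hg).2⟩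

theorem card_norm_sigma_le {K : Subgroup (Equiv.Perm GolayPt)} (hK : K ≤ M) :
    Nat.card ↥(Subgroup.normalizer (Subgroup.zpowers sigma : Set (Equiv.Perm GolayPt)) ⊓ K) ≤ 55 :=
  le_trans (Subgroup.card_le_of_le (le_trans (inf_le_inf_left _ hK) norm_sigma_le)) card_N2_le

theorem norm_u_le : Subgroup.normalizer (Subgroup.zpowers u : Set (Equiv.Perm GolayPt)) ⊓ M ≤
    Subgroup.normalizer (Subgroup.zpowers u : Set (Equiv.Perm GolayPt)) ⊓ stabSub 8388609 [8388643] := by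
  rintro g ⟨hn, hg⟩
  refine ⟨hn, hg.1, hg.2.1, ?_⟩
  intro I hI
  rw [List.mem_singleton] at hI
  subst hI
  exact NormEnum.inv_fix_of_norm u_pow_five (by norm_num) u_ne_one u_fix (by decide) hn

theorem nu_all : allProdP (fun P => !(NormEnum.normB uT uK P) || nuL.contains P)
    (nuLevels.map (fun lv => lv.tabs)) pkId = true := by
  decide +kernel

theorem card_norm_u_le {K : Subgroup (Equiv.Perm GolayPt)} (hK : K ≤ M) :
    Nat.card ↥(Subgroup.normalizer (Subgroup.zpowers u : Set (Equiv.Perm GolayPt)) ⊓ K) ≤ 20 :=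
  NormEnum.card_norm_le u_pow_five (by norm_num) u_apply (by decide) u_pow_tab nu_chain_ok
    (fun g hg => ⟨hg.2.1, hg.2.2⟩) nu_all _ (le_trans (inf_le_inf_left _ hK) norm_u_le)

end Cfsg.Agent.Helper91.Idx22
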