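/-
Helper91: data for the subgroups of small index of `Cfsg.M24`: an element `s5` of order 5 of `M23` (the
stabilizer of `∞`), an element `c3` of order 3 centralizing it, the normalizer of `⟨s5⟩` in `M23` (of order
60), by enumeration of the stabilizer of a set of 3 points (of order 5760), and an element `s11` of
order 11.
-/
import Cfsg.Agent.Helper91.Idx23a

set_option autoImplicit false
set_option maxRecDepth 100000
set_option linter.unusedSimpArgs false

namespace Cfsg.Agent.Helper91.Idx24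

open Cfsg Cfsg.Agent.Helper91 Cfsg.Agent.Helper91.Idx23
open scoped Pointwise

/-- The stabilizer in `M23` of a set of 3 points. Levels of the stabilizer chain (base 1, 0, 2, 4; orbit lengths 20, 16, 9, 2). -/

def g4Levels : List Level := [
  ⟨[.sub 0, .compl 0, .sub 8388608, .compl 8388608, .compl 4325392, .and 8388607 12451823],
    4063215, 1,
    [[8, 0, 14, 1, 17, 9, 2, 10, 18, 6, 12, 20, 15, 11, 19, 5, 13, 22, 3, 16, 21, 7, 4, 23],
     [0, 1, 2, 3, 4, 5, 6, 7, 8, 9, 10, 11, 12, 13, 14, 15, 16, 17, 18, 19, 20, 21, 22, 23],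
     [0, 2, 1, 14, 4, 5, 7, 6, 10, 18, 8, 15, 20, 16, 3, 11, 13, 17, 9, 19, 12, 21, 22, 23],
     [19, 3, 15, 20, 4, 21, 9, 6, 10, 18, 16, 1, 14, 8, 2, 12, 13, 17, 7, 0, 11, 5, 22, 23],
     [6, 5, 14, 1, 17, 13, 3, 16, 7, 8, 12, 15, 20, 11, 19, 0, 9, 4, 2, 10, 21, 18, 22, 23],
     [19, 6, 20, 14, 22, 0, 16, 11, 12, 3, 7, 15, 1, 9, 10, 13, 2, 17, 8, 21, 18, 5, 4, 23],
     [0, 7, 1, 15, 17, 5, 2, 6, 13, 18, 3, 14, 20, 11, 8, 16, 10, 4, 12, 21, 9, 19, 22, 23],
     [18, 8, 19, 0, 22, 6, 14, 12, 3, 2, 15, 21, 5, 20, 16, 9, 11, 4, 1, 13, 7, 10, 17, 23],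
     [12, 9, 1, 20, 4, 11, 13, 19, 5, 21, 10, 15, 14, 6, 16, 8, 0, 22, 18, 3, 7, 2, 17, 23],
     [9, 10, 1, 14, 22, 16, 12, 21, 0, 19, 11, 20, 15, 3, 13, 6, 5, 17, 2, 7, 18, 8, 4, 23],
     [15, 11, 0, 5, 4, 20, 6, 16, 8, 7, 13, 21, 19, 18, 12, 2, 9, 17, 10, 14, 3, 1, 22, 23],
     [20, 12, 21, 5, 17, 1, 16, 10, 18, 13, 8, 0, 19, 7, 2, 3, 6, 4, 9, 15, 11, 14, 22, 23],
     [12, 13, 1, 15, 22, 11, 9, 19, 0, 21, 16, 20, 14, 8, 10, 6, 5, 4, 7, 2, 18, 3, 17, 23],
     [8, 14, 0, 19, 17, 9, 10, 2, 12, 3, 18, 5, 21, 13, 1, 20, 11, 22, 6, 16, 15, 7, 4, 23],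
     [19, 15, 3, 2, 4, 21, 6, 9, 16, 7, 10, 12, 11, 13, 20, 1, 8, 17, 18, 0, 14, 5, 22, 23],
     [20, 16, 2, 11, 22, 15, 18, 19, 0, 21, 13, 12, 3, 10, 8, 7, 5, 4, 6, 1, 9, 14, 17, 23],
     [14, 18, 3, 11, 4, 1, 8, 0, 21, 5, 16, 12, 2, 9, 13, 10, 19, 22, 7, 20, 6, 15, 17, 23],
     [9, 19, 20, 1, 4, 7, 3, 10, 13, 18, 12, 15, 14, 2, 5, 0, 6, 17, 11, 16, 21, 8, 22, 23],
     [12, 20, 21, 5, 17, 2, 13, 8, 9, 16, 10, 0, 19, 6, 1, 14, 7, 4, 18, 11, 15, 3, 22, 23],
     [12, 21, 20, 1, 17, 2, 8, 13, 10, 18, 9, 14, 15, 7, 5, 0, 6, 4, 16, 11, 19, 3, 22, 23]]⟩,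
  ⟨[.sub 2, .compl 2, .and 4063215 16777213, .cw 13811730 [4063213], .compl 13811730, .and 4063213 13811730],
    2965485, 0,
    [[0, 1, 2, 3, 4, 5, 6, 7, 8, 9, 10, 11, 12, 13, 14, 15, 16, 17, 18, 19, 20, 21, 22, 23],
     [2, 1, 0, 5, 4, 3, 8, 18, 6, 10, 9, 21, 19, 16, 14, 15, 13, 17, 7, 12, 20, 11, 22, 23],
     [3, 1, 6, 18, 22, 2, 5, 7, 8, 9, 21, 13, 10, 19, 15, 20, 16, 4, 0, 11, 14, 12, 17, 23],
     [5, 1, 10, 6, 4, 21, 16, 12, 2, 11, 8, 13, 18, 9, 15, 20, 3, 17, 7, 19, 14, 0, 22, 23],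
     [6, 1, 16, 7, 22, 10, 21, 12, 2, 11, 0, 9, 8, 19, 20, 14, 3, 4, 5, 13, 15, 18, 17, 23],
     [7, 1, 0, 5, 17, 8, 3, 18, 6, 13, 12, 19, 21, 11, 15, 14, 10, 4, 2, 9, 20, 16, 22, 23],
     [8, 1, 5, 0, 17, 7, 2, 6, 18, 10, 11, 21, 19, 12, 15, 14, 13, 4, 3, 16, 20, 9, 22, 23],
     [9, 1, 10, 13, 22, 16, 21, 12, 11, 2, 0, 6, 18, 5, 14, 20, 3, 17, 19, 7, 15, 8, 4, 23],
     [10, 1, 9, 16, 4, 13, 19, 11, 12, 2, 0, 7, 8, 5, 14, 15, 3, 17, 21, 6, 20, 18, 22, 23],
     [11, 1, 16, 9, 4, 12, 21, 10, 13, 6, 0, 7, 8, 5, 20, 15, 18, 22, 19, 2, 14, 3, 17, 23],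
     [12, 1, 13, 10, 22, 11, 19, 9, 16, 7, 0, 6, 18, 5, 15, 20, 8, 4, 21, 2, 14, 3, 17, 23],
     [13, 1, 12, 11, 17, 10, 21, 16, 9, 7, 0, 2, 3, 5, 15, 14, 8, 4, 19, 6, 20, 18, 22, 23],
     [16, 1, 11, 12, 17, 9, 19, 13, 10, 6, 0, 2, 3, 5, 20, 14, 18, 22, 21, 7, 15, 8, 4, 23],
     [18, 1, 5, 0, 17, 6, 2, 7, 8, 9, 12, 19, 21, 11, 20, 14, 16, 22, 3, 13, 15, 10, 4, 23],
     [19, 1, 8, 9, 17, 0, 3, 18, 13, 6, 12, 7, 16, 2, 14, 15, 10, 22, 11, 5, 20, 21, 4, 23],
     [21, 1, 11, 12, 4, 19, 13, 9, 16, 7, 18, 2, 3, 6, 14, 15, 8, 17, 10, 5, 20, 0, 22, 23]]⟩,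
  ⟨[.sub 1, .compl 1, .and 2965485 16777214, .cw 15335473 [1097728, 2965484], .compl 15335473,
     .and 2965484 15335473, .and 2965484 1441742, .cw 11272490 [1097728, 2621472, 344012], .compl 11272490,
     .and 344012 11272490, .and 344012 5504725],
    81604, 2,
    [[0, 1, 2, 3, 4, 5, 6, 7, 8, 9, 10, 11, 12, 13, 14, 15, 16, 17, 18, 19, 20, 21, 22, 23],
     [0, 1, 6, 18, 17, 5, 7, 2, 3, 11, 16, 13, 10, 9, 20, 14, 12, 22, 8, 19, 15, 21, 4, 23],
     [0, 1, 7, 8, 17, 5, 6, 2, 3, 12, 13, 16, 9, 10, 15, 14, 11, 4, 18, 21, 20, 19, 22, 23],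
     [0, 1, 9, 8, 17, 19, 11, 13, 18, 10, 2, 16, 7, 12, 14, 15, 6, 22, 3, 21, 20, 5, 4, 23],
     [0, 1, 10, 18, 17, 21, 12, 16, 8, 9, 2, 13, 6, 11, 14, 20, 7, 4, 3, 19, 15, 5, 22, 23],
     [0, 1, 11, 3, 17, 19, 9, 13, 18, 6, 16, 2, 12, 7, 20, 15, 10, 4, 8, 5, 14, 21, 22, 23],
     [0, 1, 12, 3, 17, 21, 10, 16, 8, 7, 13, 2, 11, 6, 15, 20, 9, 22, 18, 5, 14, 19, 4, 23],
     [0, 1, 13, 18, 4, 19, 9, 11, 3, 12, 7, 10, 6, 16, 15, 20, 2, 17, 8, 21, 14, 5, 22, 23],
     [0, 1, 16, 8, 22, 21, 10, 12, 3, 11, 6, 9, 7, 13, 20, 15, 2, 17, 18, 19, 14, 5, 4, 23]]⟩,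
  ⟨[.sub 4, .compl 4, .and 81604 16777211, .cw 12861748 [262408, 81600], .compl 12861748,
     .and 4325392 12861748, .and 4325392 3915467, .fix 17, .and 1097728 12861748, .and 1097728 3915467, .fix 14,
     .and 2621472 12861748, .and 2621472 3915467, .fix 5, .and 262408 12861748, .and 262408 3915467, .fix 3],
    4194320, 4,
    [[0, 1, 2, 3, 4, 5, 6, 7, 8, 9, 10, 11, 12, 13, 14, 15, 16, 17, 18, 19, 20, 21, 22, 23],
     [0, 1, 2, 3, 22, 5, 7, 6, 18, 10, 9, 12, 11, 16, 14, 20, 13, 17, 8, 21, 15, 19, 4, 23]]⟩]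

/-- The stabilizer in `M23` of a set of 3 points. Final rigidity certificate. -/

def g4Fin : List Step :=
  [.sub 16, .compl 16, .and 4194320 16777199, .fix 22, .cw 15762208 [81600], .compl 15762208,
   .and 2621440 15762208, .and 2621440 1015007, .fix 21, .fix 19, .and 262400 15762208, .and 262400 1015007,
   .fix 8, .fix 18, .and 81600 15762208, .and 81600 1015007, .fix 9, .cw 16056344 [81088], .compl 16056344,
   .and 1081344 16056344, .and 1081344 720871, .fix 20, .fix 15, .and 81088 16056344, .and 81088 720871,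
   .fix 16, .cw 15747077 [], .compl 15747077, .and 15552 15747077, .and 15552 1030138, .fix 11, .cw 15515712 [],
   .compl 15515712, .and 13504 15515712, .and 13504 1261503, .fix 6, .cw 15274244 [], .compl 15274244,
   .and 13440 15274244, .and 13440 1502971, .fix 12, .cw 16262146 [], .compl 16262146, .and 9344 16262146,
   .and 9344 515069, .fix 7, .cw 14950785 [], .compl 14950785, .and 9216 14950785, .and 9216 1826430, .fix 13,
   .fix 10]

theorem g4_chain_ok : checkChain [4325392] 8388608 8388608 [4325392] g4Levels g4Fin = true := by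
  decide +kernel

/-- The stabilizer in `M23` of the set of 3 points has order 5760. -/
theorem card_G4 : Nat.card (stabSub 8388608 [4325392]) = 5760 := by
  rw [chain_card [4325392] g4Levels 8388608 8388608 [4325392] g4Fin g4_chain_ok (fun g hg => ⟨hg.2.1, hg.2.2⟩)]
  decide +kernel

/-- Table of an element `s5` of order 5 of `M23`. -/
def s5T : List Nat := [20, 3, 18, 10, 4, 1, 8, 0, 19, 5, 9, 13, 6, 16, 12, 11, 21, 17, 7, 14, 2, 15, 22, 23]

/-- Table of an element `c3` of order 3 of `M23` centralizing `s5`. -/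
def c3T : List Nat := [21, 20, 11, 2, 17, 0, 6, 16, 8, 7, 18, 3, 12, 10, 14, 1, 9, 22, 13, 19, 15, 5, 4, 23]

/-- Table of an element `s11` of order 11 of `M24`. -/
def s11T : List Nat := [7, 8, 21, 20, 4, 16, 0, 14, 6, 2, 23, 12, 19, 9, 10, 5, 13, 22, 18, 1, 17, 3, 15, 11]

/-- Tables of the powers of `s5`. -/
def s5K : List (List Nat) :=
  [[0, 1, 2, 3, 4, 5, 6, 7, 8, 9, 10, 11, 12, 13, 14, 15, 16, 17, 18, 19, 20, 21, 22, 23],
   [20, 3, 18, 10, 4, 1, 8, 0, 19, 5, 9, 13, 6, 16, 12, 11, 21, 17, 7, 14, 2, 15, 22, 23],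
   [2, 10, 7, 9, 4, 3, 19, 20, 14, 1, 5, 16, 8, 21, 6, 13, 15, 17, 0, 12, 18, 11, 22, 23],
   [18, 9, 0, 5, 4, 10, 14, 2, 12, 3, 1, 21, 19, 15, 8, 16, 11, 17, 20, 6, 7, 13, 22, 23],
   [7, 5, 20, 1, 4, 9, 12, 18, 6, 10, 3, 15, 14, 11, 19, 21, 13, 17, 2, 8, 0, 16, 22, 23]]

/-- The packed tables of the normalizer of `⟨s5⟩` in `M23`. -/
def n5L : List Nat :=
  [984818244535754528103549039458486304, 984801745269732621477165754873104672, 984146391682890793448712947671506272, 984166657991069124423472715551723936, 978070326416945210827190722021625057, 978265548848558501707899748533840225, 978071591595176079463569207257470529, 978268085390049963103089935470044833, 984412305424145604281972015788884002, 984409761459697893468393521797176642, 984071320517206110213439562106524162, 984062449443581824298782056536001186, 977902912361620843582053839532533763, 977907994111324793504979963213382883, 977544171501881607185487004936185251, 977532767595907131898500665999791587,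 978306302547049391952407151167906885, 977451916480703578238312508022951397, 977462049035142358427750699461159429, 978315186002421970275827258197935685, 984589611862384717536909885492482215, 984612451865463505335506172127578439, 984308212718066111988197663176294759, 984331008148293968672911780834888167, 978103053839997191075093934967362633, 977746832165655164122003925572619689, 978100512344414591672417923782748809, 977740496409629432083131917843007145, 977983814217859339658951013280320522, 978184097354195912611089121167246698, 978191698300177410947603168334878218, 977978736194838980492159503982372490, 960683163734179488929715274132042923, 960676822997087190008315600766549291, 960713594962761668574375303561069131, 960716124084811855448783716134966923, 961324352293933805843054792980873261, 960994775720938836920930121253796941, 961331964410664401265093899381222573, 961001106539267997019779472240432365, 960642675856035576867241948324544527, 960630003066187402887776543130072143,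 961407078896261476401404678284356911, 961403263552175503693972155666715983, 960966954257788611324977826793929744, 960878230892634152156768415867286576, 960873150407791886180218211657766000, 960956817998875784500345006640410192, 984470371005161764074040264325386354, 984476734011103018738552951766417714, 984371496217636616431350272195304946, 984346149390653789439174311102745266, 984551826227851138150325833821407348, 984549304532287800829047025221016756, 984004194461386768432359581001875892, 983990247830077753064795475258214932, 960589634901696879526887033206521973, 960798792472109873212494173947114741, 960592171422091469296644147833257301, 960797527306766247142885820575329941]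

theorem s5T_valid : validTab s5T = true := by decide
theorem c3T_valid : validTab c3T = true := by decide
theorem s11T_valid : validTab s11T = true := by decide

/-- An element of order 5 of `M23`. -/
noncomputable def s5 : Equiv.Perm GolayPt := permT s5T s5T_valid

/-- An element of order 3 of `M23` centralizing `s5`. -/
noncomputable def c3 : Equiv.Perm GolayPt := permT c3T c3T_valid

/-- An element of order 11 of `M24`. -/
noncomputable def s11 : Equiv.Perm GolayPt := permT s11T s11T_valid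

theorem s5_apply (p : GolayPt) : s5 p = pt (s5T.getD (idx p) 0) := rfl
theorem c3_apply (p : GolayPt) : c3 p = pt (c3T.getD (idx p) 0) := rfl
theorem s11_apply (p : GolayPt) : s11 p = pt (s11T.getD (idx p) 0) := rfl

theorem s5_pow_five : s5 ^ 5 = 1 := Equiv.ext (by decide)

theorem s5_ne_one : s5 ≠ 1 := fun h => absurd (congrArg (fun f : Equiv.Perm GolayPt => f (pt 0)) h) (by decide)

theorem orderOf_s5 : orderOf s5 = 5 := by
  have : Fact (Nat.Prime 5) := ⟨by norm_num⟩
  exact orderOf_eq_prime s5_pow_five s5_ne_one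

theorem c3_pow_three : c3 ^ 3 = 1 := Equiv.ext (by decide)

theorem c3_ne_one : c3 ≠ 1 := fun h => absurd (congrArg (fun f : Equiv.Perm GolayPt => f (pt 0)) h) (by decide)

theorem orderOf_c3 : orderOf c3 = 3 := by
  have : Fact (Nat.Prime 3) := ⟨by norm_num⟩
  exact orderOf_eq_prime c3_pow_three c3_ne_one

theorem s11_pow_eleven : s11 ^ 11 = 1 := Equiv.ext (by decide)

theorem s11_ne_one : s11 ≠ 1 := fun h => absurd (congrArg (fun f : Equiv.Perm GolayPt => f (pt 0)) h) (by decide)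

theorem orderOf_s11 : orderOf s11 = 11 := by
  have : Fact (Nat.Prime 11) := ⟨by norm_num⟩
  exact orderOf_eq_prime s11_pow_eleven s11_ne_one

theorem s5_pow_tab : ∀ k < 5, ∃ K ∈ s5K, (∀ i < 24, K.getD i 0 < 24) ∧
    ∀ p, (s5 ^ k) p = pt (K.getD (idx p) 0) := by
  intro k hk
  interval_cases k
  · exact ⟨s5K.getD 0 [], by decide, by decide, by decide⟩
  · exact ⟨s5K.getD 1 [], by decide, by decide, by decide⟩
  · exact ⟨s5K.getD 2 [], by decide, by decide, by decide⟩
  · exact ⟨s5K.getD 3 [], by decide, by decide, by decide⟩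
  · exact ⟨s5K.getD 4 [], by decide, by decide, by decide⟩

theorem s5_fix : ∀ k < 5, 0 < k → ∀ q, (s5 ^ k) q = q → s5 q = q := by decide

theorem s11_fix : ∀ k < 11, 0 < k → ∀ q, (s11 ^ k) q = q → s11 q = q := by decide

theorem s5_fix_mask : ∀ p : GolayPt, (12714000 : Nat).testBit (idx p) = decide (s5 p = p) := by decide

theorem s7_fix_mask : ∀ p : GolayPt, (9437200 : Nat).testBit (idx p) = decide (s7 p = p) := by decide

theorem s11_fix_mask : ∀ p : GolayPt, (262160 : Nat).testBit (idx p) = decide (s11 p = p) := by decide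

theorem s5_mem_M24 : s5 ∈ M24 := permT_mem_M24 _ (by decide +kernel)

theorem s5_mem_M : s5 ∈ M := mem_M s5_mem_M24 (by decide)

theorem c3_mem_M : c3 ∈ M := mem_M (permT_mem_M24 _ (by decide +kernel)) (by decide)

theorem s11_mem_M24 : s11 ∈ M24 := permT_mem_M24 _ (by decide +kernel)

theorem c3_s5 : c3 * s5 = s5 * c3 := Equiv.ext (by decide)

theorem norm_s5_le : Subgroup.normalizer (Subgroup.zpowers s5 : Set (Equiv.Perm GolayPt)) ⊓ M ≤
    Subgroup.normalizer (Subgroup.zpowers s5 : Set (Equiv.Perm GolayPt)) ⊓ stabSub 8388608 [4325392] := by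
  rintro g ⟨hn, hg⟩
  refine ⟨hn, hg.1, hg.2.1, ?_⟩
  intro I hI
  rw [List.mem_singleton] at hI
  subst hI
  have h1 : Inv g 12714000 :=
    NormEnum.inv_fix_of_norm s5_pow_five (by norm_num) s5_ne_one s5_fix s5_fix_mask hn
  have h2 : Inv g (1 <<< 23) := Inv_single_of_fix (i := 23) (fix_M hg)
  exact h1.xor h2

theorem n5_all : allProdP (fun P => !(NormEnum.normB s5T s5K P) || n5L.contains P)
    (g4Levels.map (fun lv => lv.tabs)) pkId = true := by
  decide +kernel

theorem card_norm_s5_le {K : Subgroup (Equiv.Perm GolayPt)} (hK : K ≤ M) :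
    Nat.card ↥(Subgroup.normalizer (Subgroup.zpowers s5 : Set (Equiv.Perm GolayPt)) ⊓ K) ≤ 60 :=
  NormEnum.card_norm_le s5_pow_five (by norm_num) s5_apply (by decide) s5_pow_tab g4_chain_ok
    (fun g hg => ⟨hg.2.1, hg.2.2⟩) n5_all _ (le_trans (inf_le_inf_left _ hK) norm_s5_le)

end Cfsg.Agent.Helper91.Idx24
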