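import Cfsg.Agent.Helper63.N14Defs

set_option autoImplicit false

namespace Cfsg.Agent.Helper91.N14

open Cfsg.Agent.Helper63.N14

/-- D1. From the identity `∑_{a ∈ A} ∑_{i < q} ρ (a g^i a⁻¹) = 1`: `g` fixes a nonzero vector
of every nonzero `A⟨g⟩`-invariant subspace. -/
theorem frob_fixed {S : Type*} [Group S] [Finite S] {E : Type*} [AddCommGroup E]
    [Module (ZMod 2) E] (ρ : Representation (ZMod 2) S E) (A : Subgroup S) (hAN : A.Normal)
    (hAodd : Odd (Nat.card A)) (hfixA : ∀ v : E, (∀ a ∈ A, ρ a v = v) → v = 0)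
    (g : S) (q : ℕ) (hq : q.Prime) (hgq : g ^ q = 1)
    (hcent : ∀ i : ℕ, 0 < i → i < q → ∀ a ∈ A, g ^ i * a = a * g ^ i → a = 1)
    (W : Submodule (ZMod 2) E) (hWA : ∀ a ∈ A, ∀ w ∈ W, ρ a w ∈ W) (hWg : ∀ w ∈ W, ρ g w ∈ W)
    (hW : W ≠ ⊥) :
    ∃ w ∈ W, w ≠ 0 ∧ ρ g w = w := by
  classical
  haveI : Fintype ↥A := Fintype.ofFinite _
  -- the sum over `A` vanishes
  have hT : ∀ v : E, ∑ b : ↥A, ρ (b : S) v = 0 := by
    intro v
    apply hfixA
    intro a ha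
    rw [map_sum]
    have e : ∀ b : ↥A, ρ a (ρ (b : S) v) = ρ (((⟨a, ha⟩ : ↥A) * b : ↥A) : S) v := by
      intro b
      rw [Subgroup.coe_mul, map_mul]
      rfl
    rw [Finset.sum_congr rfl (fun b _ => e b)]
    exact Equiv.sum_comp (Equiv.mulLeft (⟨a, ha⟩ : ↥A)) (fun b : ↥A => ρ (b : S) v)
  -- the sums over the conjugates of `g ^ i`
  have hconj : ∀ i : ℕ, 0 < i → i < q → ∀ v : E,
      ∑ a : ↥A, ρ ((a : S) * g ^ i * (a : S)⁻¹) v = 0 := by
    intro i hi0 hiq v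
    have hmem : ∀ a : ↥A, (a : S) * g ^ i * (a : S)⁻¹ * (g ^ i)⁻¹ ∈ A := by
      intro a
      have e : (a : S) * g ^ i * (a : S)⁻¹ * (g ^ i)⁻¹ = a * (g ^ i * (a : S)⁻¹ * (g ^ i)⁻¹) := by
        group
      rw [e]
      exact A.mul_mem a.2 (hAN.conj_mem _ (A.inv_mem a.2) _)
    have hinj : Function.Injective (fun a : ↥A => (⟨_, hmem a⟩ : ↥A)) := by
      intro a b hab
      have h1 : (a : S) * g ^ i * (a : S)⁻¹ * (g ^ i)⁻¹ = (b : S) * g ^ i * (b : S)⁻¹ * (g ^ i)⁻¹ :=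
        congrArg Subtype.val hab
      have h2 : g ^ i * ((a : S)⁻¹ * b) = ((a : S)⁻¹ * b) * g ^ i := by
        have h3 : (a : S) * g ^ i * (a : S)⁻¹ = (b : S) * g ^ i * (b : S)⁻¹ :=
          mul_right_cancel h1
        calc g ^ i * ((a : S)⁻¹ * b) = (a : S)⁻¹ * ((a : S) * g ^ i * (a : S)⁻¹) * b := by group
          _ = (a : S)⁻¹ * ((b : S) * g ^ i * (b : S)⁻¹) * b := by rw [h3]
          _ = ((a : S)⁻¹ * b) * g ^ i := by group
      have h4 := hcent i hi0 hiq _ (A.mul_mem (A.inv_mem a.2) b.2) h2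
      apply Subtype.ext
      exact (inv_mul_eq_one.1 h4)
    have hbij : Function.Bijective (fun a : ↥A => (⟨_, hmem a⟩ : ↥A)) :=
      Finite.injective_iff_bijective.1 hinj
    have e : ∀ a : ↥A, ρ ((a : S) * g ^ i * (a : S)⁻¹) v =
        ρ (((Equiv.ofBijective _ hbij) a : ↥A) : S) (ρ (g ^ i) v) := by
      intro a
      have e1 : (a : S) * g ^ i * (a : S)⁻¹ =
          ((a : S) * g ^ i * (a : S)⁻¹ * (g ^ i)⁻¹) * g ^ i := by group
      rw [e1, map_mul]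
      rfl
    rw [Finset.sum_congr rfl (fun a _ => e a)]
    rw [Equiv.sum_comp (Equiv.ofBijective _ hbij) (fun b : ↥A => ρ (b : S) (ρ (g ^ i) v))]
    exact hT _
  -- odd multiples
  have hodd : ∀ v : E, ∑ _a : ↥A, v = v := by
    intro v
    rw [Finset.sum_const, Finset.card_univ, ← Nat.card_eq_fintype_card,
      ← Nat.cast_smul_eq_nsmul (ZMod 2), ZMod.natCast_eq_one_iff_odd.2 hAodd, one_smul]
  obtain ⟨w, hwW, hw0⟩ := Submodule.exists_mem_ne_zero_of_ne_bot hW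
  -- the key identity
  have hkey : ∑ a : ↥A, ∑ i ∈ Finset.range q, ρ ((a : S) * g ^ i * (a : S)⁻¹) w = w := by
    rw [Finset.sum_comm]
    rw [Finset.sum_eq_single 0]
    · have e : ∀ a : ↥A, ρ ((a : S) * g ^ 0 * (a : S)⁻¹) w = w := by
        intro a
        have e1 : (a : S) * g ^ 0 * (a : S)⁻¹ = 1 := by group
        rw [e1, map_one]
        rfl
      rw [Finset.sum_congr rfl (fun a _ => e a)]
      exact hodd w
    · intro i hi hi0
      exact hconj i (Nat.pos_of_ne_zero hi0) (Finset.mem_range.1 hi) w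
    · intro h
      exact absurd (Finset.mem_range.2 hq.pos) h
  -- some summand is nonzero
  obtain ⟨a, ha⟩ : ∃ a : ↥A, ∑ i ∈ Finset.range q, ρ ((a : S) * g ^ i * (a : S)⁻¹) w ≠ 0 := by
    by_contra hno
    push_neg at hno
    rw [Finset.sum_eq_zero (fun a _ => hno a)] at hkey
    exact hw0 hkey.symm
  have e : ∀ i : ℕ, ρ ((a : S) * g ^ i * (a : S)⁻¹) w = ρ (a : S) (ρ (g ^ i) (ρ (a : S)⁻¹ w)) := by
    intro i
    rw [map_mul, map_mul]
    rfl
  rw [Finset.sum_congr rfl (fun i _ => e i), ← map_sum] at ha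
  have hpow : ∀ i : ℕ, ∀ v ∈ W, ρ (g ^ i) v ∈ W := by
    intro i
    induction i with
    | zero =>
      intro v hv
      rw [pow_zero, map_one]
      exact hv
    | succ i ih =>
      intro v hv
      rw [pow_succ, map_mul]
      exact ih _ (hWg v hv)
  have hvW : ρ (a : S)⁻¹ w ∈ W := hWA _ (A.inv_mem a.2) w hwW
  refine ⟨∑ i ∈ Finset.range q, ρ (g ^ i) (ρ (a : S)⁻¹ w),
    Submodule.sum_mem _ (fun i _ => hpow i _ hvW), ?_, ?_⟩
  · intro h0
    rw [h0, map_zero] at ha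
    exact ha rfl
  · rw [map_sum]
    have e2 : ∀ i : ℕ, ρ g (ρ (g ^ i) (ρ (a : S)⁻¹ w)) = ρ (g ^ (i + 1)) (ρ (a : S)⁻¹ w) := by
      intro i
      rw [pow_succ', map_mul]
      rfl
    rw [Finset.sum_congr rfl (fun i _ => e2 i)]
    have h1 := Finset.sum_range_succ' (fun i => ρ (g ^ i) (ρ (a : S)⁻¹ w)) q
    have h2 := Finset.sum_range_succ (fun i => ρ (g ^ i) (ρ (a : S)⁻¹ w)) q
    rw [h1] at h2
    simp only [hgq, pow_zero] at h2
    exact add_right_cancel h2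

end Cfsg.Agent.Helper91.N14
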