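import Cfsg.Agent.Helper63.N14Defs

set_option autoImplicit false

namespace Cfsg.Agent.Helper91.N14

open Cfsg.Agent.Helper63.N14

/-- D2. The centralizer `N₁` of `A / K` in `N_{S₂ S_q}(K)` (`hcomm` is D2a, `h2grp` is D2b). -/
theorem n1_group {S : Type*} [Group S] [Finite S] (A : Subgroup S) (hAN : A.Normal)
    (S₂ Sq : Subgroup S) (K : Subgroup S) (hKA : K ≤ A)
    (hKq : ∀ x ∈ Sq, ∀ k ∈ K, x * k * x⁻¹ ∈ K)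
    (hcomm : ∀ x t : S, (∀ k ∈ K, x * k * x⁻¹ ∈ K) → (∀ k ∈ K, t * k * t⁻¹ ∈ K) →
      ∀ a ∈ A, (x * t * x⁻¹ * t⁻¹) * a * (x * t * x⁻¹ * t⁻¹)⁻¹ * a⁻¹ ∈ K)
    (h2grp : ∀ N₁ : Subgroup S, N₁ ≤ S₂ ⊔ Sq → (∀ n ∈ N₁, ∀ a ∈ A, n * a * n⁻¹ * a⁻¹ ∈ K) →
      IsPGroup 2 N₁) :
    ∃ N₁ : Subgroup S, IsPGroup 2 N₁ ∧
      (∀ n ∈ N₁, (∀ k ∈ K, n * k * n⁻¹ ∈ K) ∧ ∀ a ∈ A, n * a * n⁻¹ * a⁻¹ ∈ K) ∧
      (∀ x ∈ Sq, ∀ n ∈ N₁, x * n * x⁻¹ ∈ N₁) ∧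
      (∀ t ∈ S₂, (∀ k ∈ K, t * k * t⁻¹ ∈ K) → ∀ n ∈ N₁, t * n * t⁻¹ ∈ N₁) ∧
      (∀ x ∈ Sq, ∀ t ∈ S₂, (∀ k ∈ K, t * k * t⁻¹ ∈ K) → x * t * x⁻¹ * t⁻¹ ∈ N₁) := by
  let N₁ : Subgroup S :=
    { carrier := {n | n ∈ S₂ ⊔ Sq ∧ (∀ k ∈ K, n * k * n⁻¹ ∈ K) ∧
        ∀ a ∈ A, n * a * n⁻¹ * a⁻¹ ∈ K}
      one_mem' := by
        refine ⟨Subgroup.one_mem _, fun k hk => ?_, fun a _ => ?_⟩
        · have e : (1 : S) * k * 1⁻¹ = k := by group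
          rw [e]
          exact hk
        · have e : (1 : S) * a * 1⁻¹ * a⁻¹ = 1 := by group
          rw [e]
          exact K.one_mem
      mul_mem' := by
        rintro n n' ⟨hn1, hn2, hn3⟩ ⟨hn1', hn2', hn3'⟩
        refine ⟨Subgroup.mul_mem _ hn1 hn1', fun k hk => ?_, fun a ha => ?_⟩
        · have e : n * n' * k * (n * n')⁻¹ = n * (n' * k * n'⁻¹) * n⁻¹ := by group
          rw [e]
          exact hn2 _ (hn2' k hk)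
        · have e : n * n' * a * (n * n')⁻¹ * a⁻¹ =
              (n * (n' * a * n'⁻¹ * a⁻¹) * n⁻¹) * (n * a * n⁻¹ * a⁻¹) := by group
          rw [e]
          exact K.mul_mem (hn2 _ (hn3' a ha)) (hn3 a ha)
      inv_mem' := by
        rintro n ⟨hn1, hn2, hn3⟩
        have hn2' := conj_inv_mem K n hn2
        refine ⟨Subgroup.inv_mem _ hn1, fun k hk => ?_, fun a ha => ?_⟩
        · have e : n⁻¹ * k * n⁻¹⁻¹ = n⁻¹ * k * n := by group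
          rw [e]
          exact hn2' k hk
        · have e : n⁻¹ * a * n⁻¹⁻¹ * a⁻¹ = n⁻¹ * (n * a * n⁻¹ * a⁻¹)⁻¹ * n := by group
          rw [e]
          exact hn2' _ (K.inv_mem (hn3 a ha)) }
  have hmem : ∀ n : S, n ∈ N₁ ↔ n ∈ S₂ ⊔ Sq ∧ (∀ k ∈ K, n * k * n⁻¹ ∈ K) ∧
      ∀ a ∈ A, n * a * n⁻¹ * a⁻¹ ∈ K := fun n => Iff.rfl
  -- conjugation by an element of `S₂ ⊔ Sq` normalizing `K` preserves `N₁`
  have hconj : ∀ y ∈ S₂ ⊔ Sq, (∀ k ∈ K, y * k * y⁻¹ ∈ K) → ∀ n ∈ N₁, y * n * y⁻¹ ∈ N₁ := by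
    intro y hy hyK n hn
    rw [hmem] at hn ⊢
    obtain ⟨hn1, hn2, hn3⟩ := hn
    have hyK' := conj_inv_mem K y hyK
    refine ⟨Subgroup.mul_mem _ (Subgroup.mul_mem _ hy hn1) (Subgroup.inv_mem _ hy),
      fun k hk => ?_, fun a ha => ?_⟩
    · have e : y * n * y⁻¹ * k * (y * n * y⁻¹)⁻¹ = y * (n * (y⁻¹ * k * y) * n⁻¹) * y⁻¹ := by
        group
      rw [e]
      exact hyK _ (hn2 _ (hyK' k hk))
    · have hb : y⁻¹ * a * y⁻¹⁻¹ ∈ A := hAN.conj_mem a ha y⁻¹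
      have e : y * n * y⁻¹ * a * (y * n * y⁻¹)⁻¹ * a⁻¹ =
          y * (n * (y⁻¹ * a * y⁻¹⁻¹) * n⁻¹ * (y⁻¹ * a * y⁻¹⁻¹)⁻¹) * y⁻¹ := by group
      rw [e]
      exact hyK _ (hn3 _ hb)
  have hSq : Sq ≤ S₂ ⊔ Sq := le_sup_right
  have hS2 : S₂ ≤ S₂ ⊔ Sq := le_sup_left
  refine ⟨N₁, h2grp N₁ (fun n hn => ((hmem n).1 hn).1) (fun n hn => ((hmem n).1 hn).2.2),
    fun n hn => ((hmem n).1 hn).2, fun x hx n hn => hconj x (hSq hx) (hKq x hx) n hn,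
    fun t ht htK n hn => hconj t (hS2 ht) htK n hn, fun x hx t ht htK => ?_⟩
  rw [hmem]
  have hxK := hKq x hx
  have hxK' := conj_inv_mem K x hxK
  have htK' := conj_inv_mem K t htK
  refine ⟨?_, fun k hk => ?_, hcomm x t hxK htK⟩
  · exact Subgroup.mul_mem _ (Subgroup.mul_mem _ (Subgroup.mul_mem _ (hSq hx) (hS2 ht))
      (Subgroup.inv_mem _ (hSq hx))) (Subgroup.inv_mem _ (hS2 ht))
  · have e : x * t * x⁻¹ * t⁻¹ * k * (x * t * x⁻¹ * t⁻¹)⁻¹ =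
        x * (t * (x⁻¹ * (t⁻¹ * k * t) * x) * t⁻¹) * x⁻¹ := by group
    rw [e]
    exact hxK _ (htK _ (hxK' _ (htK' k hk)))

end Cfsg.Agent.Helper91.N14
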