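import Cfsg.Prelude.Def_Transfer
import Cfsg.Prelude.Def_Solvable
import Cfsg.Agent.Helper63.N15Defs
import Cfsg.Agent.Helper91.N15Z

/-!
# CALL S4415 piece c7a (helper91, doubling)
-/

set_option autoImplicit false

namespace Cfsg.Agent.Helper91.N15

open Cfsg.Agent.Helper63.N15

variable {G : Type*} [Group G] [Finite G] {V : Type*} [AddCommGroup V] [Module (ZMod 3) V]
  [Finite V] {ρ : Representation (ZMod 3) G V} {R : Subgroup G} {b q₁ q₂ q₃ : G} {v₁ v₂ v₃ : V}

/-- arithmetic core of c7a -/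
theorem c7a_arith (r a k : ℕ) (hr : r.Prime) (hr5 : 5 ≤ r) (hr7 : r ≠ 7) (ha : a ≤ 5)
    (hk1 : 1 ≤ k) (hka : k < a) (hd : r ∣ 2 ^ a - 2 ^ k) : r = 5 ∧ k = 1 := by
  interval_cases a <;> interval_cases k <;> norm_num at hd <;>
    (have hle := Nat.le_of_dvd (by norm_num) hd
     interval_cases r <;> first | exact ⟨rfl, rfl⟩ | exact absurd rfl hr7 | (exfalso; revert hr hd; decide))

/-- C7a. An element `y ∈ R ∖ T` of prime order `r ≥ 5` has `r = 5` and acts fixed-point-freely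
on `T / Z`.  Proof: `Z ∩ T` has order `2` (else `T = 1` by `ZProps` and `hc6` gives `y ∈ T`), so
`T̄ = T / (Z ∩ T)` has order `2^a ≤ 16`; `y` acts on `T̄` by conjugation, its fixed points form a
subgroup of order `2^f`, `f < a` (`hc6`), and `r ∣ 2^a - 2^f`, so `r ∣ 2^(a-f) - 1 ∈ {1,3,7,15}`;
`r = 7` is excluded by `hsm7`; so `r = 5`, `a - f = 4`, `f = 0`. -/
theorem c7a (c : Cfg ρ R b q₁ q₂ q₃ v₁ v₂ v₃) (htp : TProps R (T2 R))
    (hz : ZProps ρ (T2 R))
    (hc6 : ∀ r ∈ R, (∀ t ∈ T2 R, IsZ ρ (r * t * r⁻¹ * t⁻¹)) → r ∈ T2 R)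
    (h32 : Nat.card (T2 R) ≤ 32) (hsm7 : ∀ x : G, x ^ 7 = 1 → x = 1)
    (y : G) (hyR : y ∈ R) (hyT : y ∉ T2 R) (r : ℕ) (hr : r.Prime) (hr5 : 5 ≤ r)
    (hy : y ^ r = 1) :
    r = 5 ∧ ∀ t ∈ T2 R, IsZ ρ (y * t * y⁻¹ * t⁻¹) → IsZ ρ t := by
  classical
  haveI : Fintype ↥(T2 R) := Fintype.ofFinite _
  have hTn : (T2 R).Normal := htp.1
  have hT2 : IsPGroup 2 (T2 R) := htp.2.2.1
  haveI : Fact (Nat.Prime 2) := ⟨Nat.prime_two⟩
  haveI : Fact r.Prime := ⟨hr⟩
  have hy1 : y ≠ 1 := fun h => hyT (h ▸ (T2 R).one_mem)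
  have hr7 : r ≠ 7 := by
    intro h
    rw [h] at hy
    exact hy1 (hsm7 y hy)
  -- step 1: fixed modulo `Z` means fixed
  have hfix : ∀ t : G, IsZ ρ (y * t * y⁻¹ * t⁻¹) → y * t * y⁻¹ = t := by
    intro t ht
    obtain ⟨ζ, hζ⟩ : ∃ ζ : G, ζ = y * t * y⁻¹ * t⁻¹ := ⟨_, rfl⟩
    rw [← hζ] at ht
    have hyt : y * t * y⁻¹ = ζ * t := by rw [hζ]; group
    have hcomm : Commute ζ y := N15Z.isZ_comm c ht y
    have hpow : ∀ n : ℕ, y ^ n * t * (y ^ n)⁻¹ = ζ ^ n * t := by
      intro n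
      induction n with
      | zero => simp
      | succ n ih =>
        have e : y ^ (n + 1) * t * (y ^ (n + 1))⁻¹ = y * (y ^ n * t * (y ^ n)⁻¹) * y⁻¹ := by
          rw [pow_succ', mul_inv_rev]
          simp only [mul_assoc]
        have hc : y * ζ ^ n = ζ ^ n * y := (hcomm.pow_left n).eq.symm
        rw [e, ih, ← mul_assoc, hc, mul_assoc, mul_assoc, ← mul_assoc y, hyt, ← mul_assoc,
          ← pow_succ]
    have h := hpow r
    rw [hy, one_mul, inv_one, mul_one] at h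
    have hζr : ζ ^ r = 1 := by
      have h2 : ζ ^ r * t = 1 * t := by rw [one_mul]; exact h.symm
      exact mul_right_cancel h2
    have hζ2 : ζ * ζ = 1 := N15Z.isZ_sq c ht
    have hodd : Odd r := by
      rcases hr.eq_two_or_odd' with h2 | h2
      · omega
      · exact h2
    obtain ⟨m, hm⟩ := hodd
    have hζ1 : ζ = 1 := by
      rw [hm, pow_succ, pow_mul, pow_two, hζ2, one_pow, one_mul] at hζr
      exact hζr
    rw [hyt, hζ1, one_mul]
  -- step 2: `Z ∩ T ≠ 1`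
  have hzex : ∃ z ∈ T2 R, ∀ v : V, ρ z v = -v := by
    by_contra hno
    apply hyT
    have hZ1 : ∀ t ∈ T2 R, IsZ ρ t → t = 1 := by
      intro t ht h
      rcases h with h | h
      · exact h
      · exact absurd ⟨t, ht, h⟩ hno
    have hT1 : ∀ t ∈ T2 R, t = 1 := by
      intro t ht
      apply hZ1 t ht
      apply hz.2.2 t ht
      intro s hs
      have h1 := hZ1 _ ((T2 R).mul_mem (hTn.conj_mem s hs t) ((T2 R).inv_mem hs))
        (hz.2.1 t ht s hs)
      have e : t * s = (t * s * t⁻¹ * s⁻¹) * (s * t) := by group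
      rw [e, h1, one_mul]
    apply hc6 y hyR
    intro t ht
    rw [hT1 t ht]
    left
    group
  obtain ⟨z, hzT, hzv⟩ := hzex
  have hz1 : z ≠ 1 := by
    intro h
    have h1 := hzv v₁
    rw [h, map_one, Module.End.one_apply] at h1
    exact c.v1 (N15Z.eq_zero_of_eq_neg h1)
  -- the conjugation map
  let f : Function.End ↥(T2 R) := fun t => ⟨y * t * y⁻¹, hTn.conj_mem t t.2 y⟩
  have hfapp : ∀ t : ↥(T2 R), ((f t : ↥(T2 R)) : G) = y * t * y⁻¹ := fun t => rfl
  have hfpow : ∀ (n : ℕ) (t : ↥(T2 R)),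
      (((f ^ n) t : ↥(T2 R)) : G) = y ^ n * t * (y ^ n)⁻¹ := by
    intro n
    induction n with
    | zero =>
      intro t
      rw [pow_zero, pow_zero, one_mul, inv_one, mul_one]
      rfl
    | succ n ih =>
      intro t
      rw [pow_succ']
      have e : (f * f ^ n) t = f ((f ^ n) t) := rfl
      rw [e, hfapp, ih, pow_succ', mul_inv_rev]
      simp only [mul_assoc]
  have hfr : f ^ r ^ 1 = 1 := by
    rw [pow_one]
    funext t
    apply Subtype.ext
    rw [hfpow, hy, one_mul, inv_one, mul_one]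
    rfl
  have hmod := Equiv.Perm.card_fixedPoints_modEq (f := f) (p := r) (n := 1) hfr
  have hfp : ∀ t : ↥(T2 R), t ∈ Function.fixedPoints f ↔ y * (t : G) * y⁻¹ = t := by
    intro t
    show f t = t ↔ _
    rw [Subtype.ext_iff, hfapp]
  let C : Subgroup ↥(T2 R) :=
    { carrier := Function.fixedPoints f
      mul_mem' := by
        intro a b ha hb
        rw [hfp] at ha hb ⊢
        rw [Subgroup.coe_mul]
        have e : y * ((a : G) * (b : G)) * y⁻¹ = (y * a * y⁻¹) * (y * b * y⁻¹) := by group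
        rw [e, ha, hb]
      one_mem' := by
        rw [hfp, Subgroup.coe_one]
        group
      inv_mem' := by
        intro a ha
        rw [hfp] at ha ⊢
        rw [Subgroup.coe_inv]
        have e : y * (a : G)⁻¹ * y⁻¹ = (y * a * y⁻¹)⁻¹ := by group
        rw [e, ha] }
  have hCmem : ∀ t : ↥(T2 R), t ∈ C ↔ y * (t : G) * y⁻¹ = t := fun t => hfp t
  have hCcard : Nat.card C = Fintype.card (Function.fixedPoints f) :=
    Nat.card_eq_fintype_card (α := ↥(Function.fixedPoints f))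
  obtain ⟨a, ha⟩ := (IsPGroup.iff_card (p := 2)).1 hT2
  have hC2 : IsPGroup 2 C := hT2.to_subgroup C
  obtain ⟨k, hk⟩ := (IsPGroup.iff_card (p := 2)).1 hC2
  have ha5 : a ≤ 5 := by
    by_contra hcon
    have h6 : 2 ^ 6 ≤ 2 ^ a := Nat.pow_le_pow_right (by norm_num) (by omega)
    rw [← ha] at h6
    omega
  have hzC : (⟨z, hzT⟩ : ↥(T2 R)) ∈ C := by
    rw [hCmem]
    exact N15Z.isZ_conj c (Or.inr hzv) y
  have hk1 : 1 ≤ k := by
    by_contra hcon
    have hk0 : k = 0 := by omega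
    rw [hk0, pow_zero] at hk
    have hsub : Subsingleton C := (Nat.card_eq_one_iff_unique.1 hk).1
    have h1 : (⟨⟨z, hzT⟩, hzC⟩ : C) = 1 := Subsingleton.elim _ _
    apply hz1
    have h2 := congrArg (fun x : C => ((x : ↥(T2 R)) : G)) h1
    exact h2
  have hdvd : 2 ^ k ∣ 2 ^ a := by
    rw [← hk, ← ha]
    exact Subgroup.card_subgroup_dvd_card C
  have hkle : k ≤ a := (Nat.pow_dvd_pow_iff_le_right (by norm_num)).1 hdvd
  have hka : k < a := by
    rcases Nat.lt_or_ge k a with h | h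
    · exact h
    · exfalso
      have hka' : k = a := le_antisymm hkle h
      have htop : C = ⊤ := by
        apply Subgroup.eq_top_of_card_eq
        rw [hk, ha, hka']
      apply hyT
      apply hc6 y hyR
      intro t ht
      have h1 : (⟨t, ht⟩ : ↥(T2 R)) ∈ C := by rw [htop]; exact Subgroup.mem_top _
      rw [hCmem] at h1
      left
      show y * t * y⁻¹ * t⁻¹ = 1
      have h1' : y * t * y⁻¹ = t := h1
      rw [h1', mul_inv_cancel]
  have hmod' : 2 ^ a ≡ 2 ^ k [MOD r] := by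
    rw [← ha, ← hk, hCcard, Nat.card_eq_fintype_card]
    convert hmod
  have hd : r ∣ 2 ^ a - 2 ^ k :=
    (Nat.modEq_iff_dvd' (Nat.pow_le_pow_right (by norm_num) hkle)).1 hmod'.symm
  obtain ⟨hr5', hk1'⟩ := c7a_arith r a k hr hr5 hr7 ha5 hk1 hka hd
  refine ⟨hr5', ?_⟩
  intro t ht hzt
  have htC : (⟨t, ht⟩ : ↥(T2 R)) ∈ C := by
    rw [hCmem]
    exact hfix t hzt
  rw [hk1', pow_one] at hk
  obtain ⟨x, -, hx⟩ := (Nat.card_eq_two_iff' (1 : C)).1 hk
  by_cases ht1 : t = 1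
  · exact Or.inl ht1
  · right
    have e1 : (⟨⟨t, ht⟩, htC⟩ : C) = x := by
      apply hx
      intro h
      apply ht1
      exact congrArg (fun x : C => ((x : ↥(T2 R)) : G)) h
    have e2 : (⟨⟨z, hzT⟩, hzC⟩ : C) = x := by
      apply hx
      intro h
      apply hz1
      exact congrArg (fun x : C => ((x : ↥(T2 R)) : G)) h
    have e3 : t = z := congrArg (fun x : C => ((x : ↥(T2 R)) : G)) (e1.trans e2.symm)
    rw [e3]
    exact hzv

end Cfsg.Agent.Helper91.N15
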