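/-
Helper91: transitivity of the groups `stabSub F L` on families of code words, from checked orbit searches
(a depth-first search over a spanning tree of the orbit, recorded in a bitmap indexed by the twelve
information bits of a code word).
-/
import Cfsg.Agent.Helper91.Fast
import Cfsg.Agent.Helper26.GolayCount

set_option autoImplicit false

namespace Cfsg.Agent.Helper91

open Cfsg
open scoped Pointwise

/-! ## Sets of masks -/

theorem idx_eq26 (p : GolayPt) : idx p = Helper26.idx p := by
  cases p <;> rfl

/-- The set of points of a mask. -/
def setM (m : Nat) : Finset GolayPt := support₂ (toWord m)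

theorem mem_setM (m : Nat) (p : GolayPt) : p ∈ setM m ↔ m.testBit (idx p) = true := by
  rw [setM, support_toWord, Finset.mem_filter]; simp

theorem setM_eq_dec (m : Nat) : setM m = Helper26.dec m := by
  ext p
  rw [mem_setM, Helper26.mem_dec, idx_eq26]

theorem setM_enc (s : Finset GolayPt) : setM (Helper26.enc s) = s := by
  rw [setM_eq_dec, Helper26.dec_enc]

theorem enc_setM {m : Nat} (h : m < 2 ^ 24) : Helper26.enc (setM m) = m := by
  rw [setM_eq_dec, Helper26.enc_dec m h]

theorem setM_pullMask {T : List Nat} (hT : validTab T = true) (m : Nat) :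
    setM (pullMask T m) = (permT T hT)⁻¹ • setM m := by
  rw [setM, toWord_pullMask hT, ← coe_permT T hT, support₂_comp]; rfl

theorem smul_setM_eq_iff (g : Equiv.Perm GolayPt) (m : Nat) : g • setM m = setM m ↔ Inv g m :=
  smul_support_eq_iff g m

theorem smul_mem_supports {g : Equiv.Perm GolayPt} (hg : g ∈ M24) {s : Finset GolayPt}
    (hs : s ∈ supports (golayCode : Set (GolayPt → ZMod 2))) :
    g • s ∈ supports (golayCode : Set (GolayPt → ZMod 2)) := by
  have h : g • supports (golayCode : Set (GolayPt → ZMod 2)) =
      supports (golayCode : Set (GolayPt → ZMod 2)) := hg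
  rw [← h]
  exact Set.smul_mem_smul_set hs

/-- A code word is determined by its twelve low bits. -/
theorem supports_eq_of_key {s s' : Finset GolayPt}
    (hs : s ∈ supports (golayCode : Set (GolayPt → ZMod 2)))
    (hs' : s' ∈ supports (golayCode : Set (GolayPt → ZMod 2)))
    (h : Helper26.enc s % 4096 = Helper26.enc s' % 4096) : s = s' := by
  rw [Helper26.mem_supports_iff] at hs hs'
  apply Helper26.enc_injective
  have e1 := Helper26.eq_codeOf_of_isCode hs
  have e2 := Helper26.eq_codeOf_of_isCode hs'
  rw [e1, e2, h]

theorem permT_mem_stabSub {F : Nat} {L : List Nat} {T : List Nat} (h : tabOK F L T = true) :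
    permT T (tabOK_valid h) ∈ stabSub F L :=
  tabOK_spec h

/-! ## Orbit search -/

/-- The set `s` is an image of the set of the mask `b` under the group `stabSub F L`. -/
def Reach (F : Nat) (L : List Nat) (b : Nat) (s : Finset GolayPt) : Prop :=
  ∃ g ∈ stabSub F L, g • setM b = s

/-- Depth-first search: instruction `0` pops the stack; instruction `j + 1` applies the table `j` to the top
of the stack, pushes the result and records its low twelve bits in the bitmap. -/
def orbRun (gens : List (List Nat)) : List Nat → List Nat → Nat → Nat
  | [], _, B => B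
  | _ :: _, [], B => B
  | 0 :: is, _ :: st, B => orbRun gens is st B
  | (j + 1) :: is, m :: st, B =>
    match gens[j]? with
    | none => 0
    | some T =>
      cond (Nat.beq (Nat.lor B (Nat.shiftLeft 1 (Nat.mod (pullMask T m) 4096))) 0) 0
        (orbRun gens is (pullMask T m :: m :: st)
          (Nat.lor B (Nat.shiftLeft 1 (Nat.mod (pullMask T m) 4096))))

theorem orbRun_sound {F : Nat} {L : List Nat} {gens : List (List Nat)}
    (hgens : ∀ T ∈ gens, tabOK F L T = true) (b : Nat) :
    ∀ (is st : List Nat) (B : Nat),
      (∀ m ∈ st, Reach F L b (setM m)) →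
      (∀ k, B.testBit k = true → ∃ m, Reach F L b (setM m) ∧ m < 2 ^ 24 ∧ m % 4096 = k) →
      ∀ k, (orbRun gens is st B).testBit k = true →
        ∃ m, Reach F L b (setM m) ∧ m < 2 ^ 24 ∧ m % 4096 = k := by
  intro is
  induction is with
  | nil => intro st B _ hB k hk; rw [orbRun] at hk; exact hB k hk
  | cons i is ih =>
    intro st B hst hB k hk
    rcases st with _ | ⟨m, st⟩
    · rw [orbRun] at hk; exact hB k hk
    · rcases i with _ | j
      · rw [orbRun] at hk
        exact ih st B (fun x hx => hst x (List.mem_cons_of_mem _ hx)) hB k hk
      · rw [orbRun] at hk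
        split at hk
        · rw [Nat.zero_testBit] at hk; exact Bool.noConfusion hk
        · rename_i T hT
          have hTm : T ∈ gens := List.mem_of_getElem? hT
          have hok := hgens T hTm
          have hv := tabOK_valid hok
          have hreach : Reach F L b (setM (pullMask T m)) := by
            obtain ⟨g, hg, e⟩ := hst m (List.mem_cons_self)
            refine ⟨(permT T hv)⁻¹ * g, mul_mem (inv_mem (permT_mem_stabSub hok)) hg, ?_⟩
            rw [mul_smul, e, setM_pullMask hv]
          cases hc : Nat.beq (Nat.lor B (Nat.shiftLeft 1 (Nat.mod (pullMask T m) 4096))) 0 with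
          | true =>
            rw [hc, cond_true, Nat.zero_testBit] at hk; exact Bool.noConfusion hk
          | false =>
            rw [hc, cond_false] at hk
            refine ih _ _ ?_ ?_ k hk
            · intro x hx
              rcases List.mem_cons.1 hx with rfl | hx
              · exact hreach
              · exact hst x hx
            · intro k' hk'
              have e : Nat.lor B (Nat.shiftLeft 1 (Nat.mod (pullMask T m) 4096)) =
                  B ||| (1 <<< (pullMask T m % 4096)) := rfl
              rw [e, Nat.testBit_or, Bool.or_eq_true, testBit_one_shiftLeft, decide_eq_true_eq] at hk'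
              rcases hk' with hk' | hk'
              · exact hB k' hk'
              · exact ⟨pullMask T m, hreach, pullMask_lt hv m, hk'⟩

/-- A code word whose key is recorded by the search is in the orbit of the base. -/
theorem reach_of_orbRun {F : Nat} {L : List Nat} {gens : List (List Nat)}
    (hgens : gens.all (tabOK F L) = true) {b : Nat} (hb : b < 2 ^ 24)
    (hbc : setM b ∈ supports (golayCode : Set (GolayPt → ZMod 2)))
    {instrs : List Nat} {B : Nat}
    (hrun : orbRun gens instrs [b] (Nat.shiftLeft 1 (Nat.mod b 4096)) = B)
    {s : Finset GolayPt} (hs : s ∈ supports (golayCode : Set (GolayPt → ZMod 2)))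
    (hk : B.testBit (Helper26.enc s % 4096) = true) : Reach F L b s := by
  rw [List.all_eq_true] at hgens
  have hbase : Reach F L b (setM b) := ⟨1, one_mem _, one_smul _ _⟩
  have key := orbRun_sound hgens b instrs [b] (Nat.shiftLeft 1 (Nat.mod b 4096))
    (fun m hm => by rw [List.mem_singleton] at hm; rw [hm]; exact hbase)
    (fun k hk' => by
      have e : Nat.shiftLeft 1 (Nat.mod b 4096) = 1 <<< (b % 4096) := rfl
      rw [e, testBit_one_shiftLeft, decide_eq_true_eq] at hk'
      exact ⟨b, hbase, hb, hk'⟩)
    (Helper26.enc s % 4096) (by rw [hrun]; exact hk)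
  obtain ⟨m, hm, hlt, hmk⟩ := key
  have hms : setM m ∈ supports (golayCode : Set (GolayPt → ZMod 2)) := by
    obtain ⟨g, hg, e⟩ := hm
    rw [← e]; exact smul_mem_supports hg.1 hbc
  have : setM m = s := by
    apply supports_eq_of_key hms hs
    rw [enc_setM hlt, hmk]
  rw [← this]; exact hm

/-! ## Certificates with several orbits -/

/-- One orbit: the value `key` of the invariant on it, the base mask, the search instructions and the
resulting bitmap. -/
structure OrbCert where
  key : Nat
  base : Nat
  instrs : List Nat
  bits : Nat

/-- The search of a certificate gives its bitmap, and its base is a code word. -/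
def OrbCert.ok (gens : List (List Nat)) (c : OrbCert) : Bool :=
  Nat.beq (orbRun gens c.instrs [c.base] (Nat.shiftLeft 1 (Nat.mod c.base 4096))) c.bits &&
    Helper26.isCode c.base

/-- The bitmap of the first certificate with the given key. -/
def findBits : List OrbCert → Nat → Option OrbCert
  | [], _ => none
  | c :: cs, k => cond (Nat.beq c.key k) (some c) (findBits cs k)

theorem findBits_mem {certs : List OrbCert} {k : Nat} {c : OrbCert} (h : findBits certs k = some c) :
    c ∈ certs ∧ c.key = k := by
  induction certs with
  | nil => rw [findBits] at h; cases h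
  | cons c0 cs ih =>
    rw [findBits] at h
    cases hc : Nat.beq c0.key k with
    | true =>
      rw [hc, cond_true] at h
      have : c0 = c := Option.some.inj h
      subst this
      exact ⟨List.mem_cons_self, Nat.eq_of_beq_eq_true hc⟩
    | false =>
      rw [hc, cond_false] at h
      exact ⟨List.mem_cons_of_mem _ (ih h).1, (ih h).2⟩

/-- Every mask `m` of the list `l` with `Q m` is recorded in the certificate of key `f m`. -/
def coverOK (certs : List OrbCert) (f : Nat → Nat) (Q : Nat → Bool) (l : List Nat) : Bool :=
  allL l (fun m => cond (Q m)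
    (match findBits certs (f m) with
     | some c => c.bits.testBit (Nat.mod m 4096)
     | none => false) true)

theorem isCode_lt {m : Nat} (h : Helper26.isCode m = true) : m < 2 ^ 24 := by
  rw [Helper26.isCode_iff] at h
  rw [← h]; exact Helper26.codeOf_lt m

theorem setM_mem_supports {m : Nat} (h : Helper26.isCode m = true) :
    setM m ∈ supports (golayCode : Set (GolayPt → ZMod 2)) := by
  rw [Helper26.mem_supports_iff, enc_setM (isCode_lt h)]; exact h

/-- Every set of the family is in the orbit of the base of the certificate of its key. -/
theorem reach_of_certs {F : Nat} {L : List Nat} {gens : List (List Nat)} {certs : List OrbCert}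
    {f : Nat → Nat} {Q : Nat → Bool} {l : List Nat}
    (hgens : gens.all (tabOK F L) = true) (hcerts : certs.all (OrbCert.ok gens) = true)
    (hcov : coverOK certs f Q l = true)
    {s : Finset GolayPt} (hs : s ∈ supports (golayCode : Set (GolayPt → ZMod 2)))
    (hl : Helper26.enc s ∈ l) (hQ : Q (Helper26.enc s) = true) :
    ∃ c, findBits certs (f (Helper26.enc s)) = some c ∧ Reach F L c.base s := by
  rw [coverOK, allL_eq, List.all_eq_true] at hcov
  have h1 := hcov _ hl
  rw [hQ, cond_true] at h1
  split at h1
  · rename_i c hc
    refine ⟨c, hc, ?_⟩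
    have hmem := (findBits_mem hc).1
    rw [List.all_eq_true] at hcerts
    have hok := hcerts c hmem
    rw [OrbCert.ok, Bool.and_eq_true] at hok
    exact reach_of_orbRun hgens (isCode_lt hok.2) (setM_mem_supports hok.2)
      (Nat.eq_of_beq_eq_true hok.1) hs h1
  · exact Bool.noConfusion h1

/-- Two sets of the family with the same value of the invariant are conjugate under `stabSub F L`. -/
theorem trans_of_certs {F : Nat} {L : List Nat} {gens : List (List Nat)} {certs : List OrbCert}
    {f : Nat → Nat} {Q : Nat → Bool} {l : List Nat}
    (hgens : gens.all (tabOK F L) = true) (hcerts : certs.all (OrbCert.ok gens) = true)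
    (hcov : coverOK certs f Q l = true)
    {s s' : Finset GolayPt} (hs : s ∈ supports (golayCode : Set (GolayPt → ZMod 2)))
    (hs' : s' ∈ supports (golayCode : Set (GolayPt → ZMod 2)))
    (hl : Helper26.enc s ∈ l) (hl' : Helper26.enc s' ∈ l)
    (hQ : Q (Helper26.enc s) = true) (hQ' : Q (Helper26.enc s') = true)
    (hf : f (Helper26.enc s) = f (Helper26.enc s')) : ∃ g ∈ stabSub F L, g • s = s' := by
  obtain ⟨c, hc, g, hg, e⟩ := reach_of_certs hgens hcerts hcov hs hl hQ
  obtain ⟨c', hc', g', hg', e'⟩ := reach_of_certs hgens hcerts hcov hs' hl' hQ'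
  rw [hf, hc'] at hc
  have : c' = c := Option.some.inj hc
  subst this
  refine ⟨g' * g⁻¹, mul_mem hg' (inv_mem hg), ?_⟩
  rw [← e, mul_smul, inv_smul_smul, e']

end Cfsg.Agent.Helper91
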