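import Mathlib
import Cfsg.Agent.Helper21.PEDefs

/-!
# CALL S2276 piece LIFTC (helper91): `p` periodic copies of a good permutation of `Fin N`
-/

set_option autoImplicit false

namespace Cfsg.Agent.Helper91.PELIFTC

open Equiv Cfsg.Agent.Helper21.PE

/-- value of `finRotate` -/
theorem val_finRotate : ∀ (n : ℕ) (y : Fin n), (finRotate n y).val = (y.val + 1) % n := by
  intro n y
  rcases n with _ | k
  · exact y.elim0
  · rw [coe_finRotate]
    by_cases h : y = Fin.last k
    · rw [if_pos h, h, Fin.val_last, Nat.mod_self]
    · rw [if_neg h]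
      have : y.val < k := Fin.val_lt_last h
      rw [Nat.mod_eq_of_lt (by omega)]

/-- the block of first coordinate `a` -/
def blk {α β : Type} (a : α) : β ≃ {ab : α × β // ab.1 = a} where
  toFun b := ⟨(a, b), rfl⟩
  invFun ab := ab.1.2
  left_inv _ := rfl
  right_inv := by
    rintro ⟨⟨a', b⟩, h⟩
    simp only at h
    subst h
    rfl

theorem prodExtendRight_eq {α β : Type} [DecidableEq α] [Fintype α] [DecidableEq β] [Fintype β]
    (a : α) (σ : Perm β) : Perm.prodExtendRight a σ = σ.extendDomain (blk a) := by
  ext ⟨a', b⟩ : 1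
  by_cases h : a' = a
  · subst h
    rw [Perm.prodExtendRight_apply_eq]
    have h2 := Perm.extendDomain_apply_image σ (blk (α := α) a') b
    exact h2.symm
  · rw [Perm.prodExtendRight_apply_ne _ h]
    exact (Perm.extendDomain_apply_not_subtype σ (blk a) (b := (a', b)) h).symm

theorem cycleType_prodExtendRight {α β : Type} [DecidableEq α] [Fintype α] [DecidableEq β]
    [Fintype β] (a : α) (σ : Perm β) : (Perm.prodExtendRight a σ).cycleType = σ.cycleType := by
  rw [prodExtendRight_eq]
  exact Perm.cycleType_extendDomain (blk a)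

theorem cycleType_list {α β : Type} [DecidableEq α] [Fintype α] [DecidableEq β] [Fintype β]
    (σ : Perm β) : ∀ l : List α, l.Nodup →
      ((l.map fun a => Perm.prodExtendRight a σ).prod.cycleType = l.length • σ.cycleType ∧
        ∀ a, a ∉ l → ∀ b, (l.map fun a => Perm.prodExtendRight a σ).prod (a, b) = (a, b)) := by
  intro l
  induction l with
  | nil =>
    intro _
    refine ⟨by simp, fun a _ b => by simp⟩
  | cons a l ih =>
    intro hl
    obtain ⟨hal, hl'⟩ := List.nodup_cons.1 hl
    obtain ⟨ih1, ih2⟩ := ih hl'
    rw [List.map_cons, List.prod_cons]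
    constructor
    · have hdis : Perm.Disjoint (Perm.prodExtendRight a σ)
          (l.map fun a => Perm.prodExtendRight a σ).prod := by
        rintro ⟨a', b⟩
        by_cases h : a' = a
        · right
          rw [h]
          exact ih2 a hal b
        · left
          exact Perm.prodExtendRight_apply_ne _ h _
      rw [hdis.cycleType_mul, ih1, cycleType_prodExtendRight, List.length_cons, succ_nsmul,
        add_comm]
    · intro a' ha' b
      rw [List.mem_cons, not_or] at ha'
      rw [Perm.mul_apply, ih2 a' ha'.2 b, Perm.prodExtendRight_apply_ne _ ha'.1]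

theorem cycleType_prodCongrRight (p N : ℕ) (σ : Perm (Fin N)) :
    Perm.cycleType (prodCongrRight (fun _ : Fin p => σ) : Perm (Fin p × Fin N)) =
      p • σ.cycleType := by
  have h1 := Perm.prod_prodExtendRight (fun _ : Fin p => σ) (List.nodup_finRange p)
    (fun a => List.mem_finRange a)
  have h2 := (cycleType_list σ (List.finRange p) (List.nodup_finRange p)).1
  rw [h1, List.length_finRange] at h2
  exact h2

theorem pe_liftc : LiftaStmt → LiftcStmt := by
  intro hL p N v' hp hN hgood
  classical
  -- the transport equivalence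
  let F : Fin p × Fin N ≃ {y : Fin (p * N) // True} :=
    finProdFinEquiv.trans (Equiv.subtypeUnivEquiv (fun _ => trivial)).symm
  let g : Perm (Fin p × Fin N) := prodCongrRight (fun _ : Fin p => v')
  let v : Perm (Fin (p * N)) := g.extendDomain F
  have hv : ∀ z : Fin p × Fin N, v (finProdFinEquiv z) = finProdFinEquiv (g z) := by
    intro z
    exact Perm.extendDomain_apply_image g F z
  have hct : v.cycleType = p • v'.cycleType := by
    have h1 : v.cycleType = g.cycleType := Perm.cycleType_extendDomain F
    rw [h1]
    exact cycleType_prodCongrRight p N v'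
  refine ⟨v, hct, ?_⟩
  -- the semiconjugacy
  let f : Fin (p * N) → Fin N := fun y => ⟨y.val % N, Nat.mod_lt _ hN⟩
  have hfe : ∀ z : Fin p × Fin N, f (finProdFinEquiv z) = z.2 := by
    intro z
    apply Fin.ext
    show (z.2.val + N * z.1.val) % N = z.2.val
    rw [Nat.add_mul_mod_self_left, Nat.mod_eq_of_lt z.2.2]
  have hsurj : Function.Surjective f := by
    intro x
    have hp0 : 0 < p := hp.pos
    exact ⟨finProdFinEquiv (⟨0, hp0⟩, x), hfe _⟩
  have hrot : ∀ y : Fin (p * N), f (finRotate (p * N) y) = finRotate N (f y) := by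
    intro y
    apply Fin.ext
    show (finRotate (p * N) y).val % N = (finRotate N (f y)).val
    rw [val_finRotate, val_finRotate]
    show (y.val + 1) % (p * N) % N = (y.val % N + 1) % N
    rw [Nat.mod_mod_of_dvd _ (Dvd.intro_left p rfl)]
    conv_rhs => rw [Nat.add_mod, Nat.mod_mod]
    rw [Nat.add_mod]
  have hvf : ∀ y : Fin (p * N), f (v y) = v' (f y) := by
    intro y
    obtain ⟨z, rfl⟩ := finProdFinEquiv.surjective y
    rw [hv, hfe, hfe]
    rfl
  exact hL p (Fin (p * N)) (Fin N) f (finRotate (p * N)) v (finRotate N) v' hp hsurj hrot hvf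
    hgood

end Cfsg.Agent.Helper91.PELIFTC
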