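import Mathlib
import Cfsg.Prelude.Def_LieTwisted

set_option autoImplicit false

namespace Cfsg.Agent.Helper91

open Cfsg

/-- PIECE ACT: the conjugation action of `H / C_H(V)` on `V` is a faithful action by automorphisms. -/
theorem qr_act {G : Type*} [Group G] (V H : Subgroup G)
    (hHV : H ≤ Subgroup.normalizer (V : Set G))
    [hn : ((Subgroup.centralizer (V : Set G)).subgroupOf H).Normal] :
    ∃ φ : (↥H ⧸ (Subgroup.centralizer (V : Set G)).subgroupOf H) →* MulAut ↥V,
      Function.Injective φ ∧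
      ∀ (h : ↥H) (v : ↥V),
        ((φ (QuotientGroup.mk h) v : ↥V) : G) = (h : G) * (v : G) * (h : G)⁻¹ := by
  have hconj : ∀ h : ↥H, ∀ v : ↥V, (h : G) * (v : G) * (h : G)⁻¹ ∈ V :=
    fun h v => (Subgroup.mem_normalizer_iff.1 (hHV h.2) v).1 v.2
  have hconj' : ∀ h : ↥H, ∀ v : ↥V, (h : G)⁻¹ * (v : G) * (h : G) ∈ V := by
    intro h v
    have h1 := hconj h⁻¹ v
    simpa using h1
  let f : ↥H → MulAut ↥V := fun h =>
    { toFun := fun v => ⟨(h : G) * v * (h : G)⁻¹, hconj h v⟩
      invFun := fun v => ⟨(h : G)⁻¹ * v * (h : G), hconj' h v⟩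
      left_inv := fun v => by
        apply Subtype.ext
        simp [mul_assoc]
      right_inv := fun v => by
        apply Subtype.ext
        simp [mul_assoc]
      map_mul' := fun v w => by
        apply Subtype.ext
        simp [mul_assoc] }
  have hf : ∀ (h : ↥H) (v : ↥V), ((f h v : ↥V) : G) = (h : G) * (v : G) * (h : G)⁻¹ :=
    fun _ _ => rfl
  let φ₀ : ↥H →* MulAut ↥V :=
    { toFun := f
      map_one' := by
        ext v
        rw [hf]
        simp
      map_mul' := fun h k => by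
        ext v
        rw [MulAut.mul_apply, hf, hf, hf]
        simp [mul_assoc] }
  have hφ₀ : ∀ (h : ↥H) (v : ↥V), ((φ₀ h v : ↥V) : G) = (h : G) * (v : G) * (h : G)⁻¹ :=
    fun _ _ => rfl
  have hker : (Subgroup.centralizer (V : Set G)).subgroupOf H ≤ φ₀.ker := by
    intro h hh
    rw [Subgroup.mem_subgroupOf, Subgroup.mem_centralizer_iff] at hh
    rw [MonoidHom.mem_ker]
    ext v
    rw [hφ₀, ← hh v v.2, mul_inv_cancel_right]
    rfl
  refine ⟨QuotientGroup.lift _ φ₀ hker, ?_, ?_⟩
  · rw [injective_iff_map_eq_one]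
    intro q hq
    obtain ⟨h, rfl⟩ := QuotientGroup.mk_surjective q
    rw [QuotientGroup.lift_mk] at hq
    rw [QuotientGroup.eq_one_iff, Subgroup.mem_subgroupOf, Subgroup.mem_centralizer_iff]
    intro v hv
    have h2 : (h : G) * v * (h : G)⁻¹ = v := by
      have h3 : ((φ₀ h ⟨v, hv⟩ : ↥V) : G) = v := by
        rw [hq]
        rfl
      exact h3
    exact (mul_inv_eq_iff_eq_mul.1 h2).symm
  · intro h v
    rfl

end Cfsg.Agent.Helper91
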