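/-
Helper91: PIECE SU2 of CALL S3805 (helper16): the homomorphism from the model `S₃ × S₃` attached to
generators `t₁, t₂, a, b` satisfying the relations of `S₃ × S₃`.
-/
import Cfsg.Agent.Helper16.S3Core

set_option autoImplicit false

namespace Cfsg.Agent.Helper91

open Cfsg Cfsg.Agent.Helper16 DihedralGroup

section dihedral

variable {G : Type*} [Group G]

/-- The map underlying the homomorphism from the dihedral group of order six attached to a pair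
`(t, s)`. -/
def s3Fun (t s : G) : DihedralGroup 3 → G
  | r i => t ^ i.val
  | sr i => s * t ^ i.val

theorem s3Fun_r (t s : G) (i : ZMod 3) : s3Fun t s (r i) = t ^ i.val := rfl

theorem s3Fun_sr (t s : G) (i : ZMod 3) : s3Fun t s (sr i) = s * t ^ i.val := rfl

theorem s3_pow_add {t : G} (ht : t ^ 3 = 1) (i j : ZMod 3) :
    t ^ (i + j).val = t ^ i.val * t ^ j.val := by
  rw [ZMod.val_add, ← pow_eq_pow_mod _ ht, pow_add]

theorem s3_pow_sub {t : G} (ht : t ^ 3 = 1) (i j : ZMod 3) :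
    t ^ (j - i).val = t ^ j.val * (t ^ i.val)⁻¹ := by
  have h := s3_pow_add ht (j - i) i
  rw [sub_add_cancel] at h
  rw [h, mul_inv_cancel_right]

theorem s3_conj_pow {t s : G} (hts : s * t * s⁻¹ = t⁻¹) (k : ℕ) :
    t ^ k * s = s * (t ^ k)⁻¹ := by
  have h1 : s * (t ^ k)⁻¹ * s⁻¹ = t ^ k := by
    have h2 : s * t⁻¹ * s⁻¹ = t := by
      calc s * t⁻¹ * s⁻¹ = (s * t * s⁻¹)⁻¹ := by group
        _ = t := by rw [hts, inv_inv]
    rw [← inv_pow, ← conj_pow, h2]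
  calc t ^ k * s = s * (t ^ k)⁻¹ * s⁻¹ * s := by rw [h1]
    _ = s * (t ^ k)⁻¹ := by rw [inv_mul_cancel_right]

theorem s3Fun_mul {t s : G} (ht : t ^ 3 = 1) (hs : s ^ 2 = 1) (hts : s * t * s⁻¹ = t⁻¹)
    (x y : DihedralGroup 3) : s3Fun t s (x * y) = s3Fun t s x * s3Fun t s y := by
  have hss : s * s = 1 := by rw [← sq, hs]
  have hcomm : ∀ k l : ℕ, t ^ k * t ^ l = t ^ l * t ^ k := fun k l => by
    rw [← pow_add, ← pow_add, add_comm]
  cases x with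
  | r i =>
    cases y with
    | r j =>
      rw [r_mul_r, s3Fun_r, s3Fun_r, s3Fun_r, s3_pow_add ht]
    | sr j =>
      rw [r_mul_sr, s3Fun_r, s3Fun_sr, s3Fun_sr, s3_pow_sub ht, ← mul_assoc (t ^ i.val),
        s3_conj_pow hts, mul_assoc]
      congr 1
      rw [eq_inv_mul_iff_mul_eq, ← mul_assoc, hcomm, mul_assoc, mul_inv_cancel, mul_one]
  | sr i =>
    cases y with
    | r j =>
      rw [sr_mul_r, s3Fun_sr, s3Fun_sr, s3Fun_r, s3_pow_add ht, mul_assoc]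
    | sr j =>
      rw [sr_mul_sr, s3Fun_r, s3Fun_sr, s3Fun_sr, s3_pow_sub ht, mul_assoc s,
        ← mul_assoc (t ^ i.val), s3_conj_pow hts, mul_assoc s, ← mul_assoc s s, hss, one_mul]
      rw [eq_inv_mul_iff_mul_eq, ← mul_assoc, hcomm, mul_assoc, mul_inv_cancel, mul_one]

/-- The homomorphism from the dihedral group of order six attached to a pair `(t, s)` with
`t ^ 3 = 1`, `s ^ 2 = 1`, `s t s⁻¹ = t⁻¹`. -/
def s3Hom {t s : G} (ht : t ^ 3 = 1) (hs : s ^ 2 = 1) (hts : s * t * s⁻¹ = t⁻¹) :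
    DihedralGroup 3 →* G :=
  MonoidHom.mk' (s3Fun t s) (s3Fun_mul ht hs hts)

theorem s3Hom_apply {t s : G} (ht : t ^ 3 = 1) (hs : s ^ 2 = 1) (hts : s * t * s⁻¹ = t⁻¹)
    (x : DihedralGroup 3) : s3Hom ht hs hts x = s3Fun t s x := rfl

theorem s3Hom_gen {t s : G} (ht : t ^ 3 = 1) (hs : s ^ 2 = 1) (hts : s * t * s⁻¹ = t⁻¹)
    (i : ZMod 3) (k : ℕ) : s3Hom ht hs hts (r i * sr 0 ^ k) = t ^ i.val * s ^ k := by
  rw [map_mul, map_pow, s3Hom_apply, s3Hom_apply, s3Fun_r, s3Fun_sr, ZMod.val_zero, pow_zero,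
    mul_one]

theorem s3Fun_commute {t s t' s' : G} (htt : t * t' = t' * t) (hst : s * t' = t' * s)
    (hts : s' * t = t * s') (hss : s * s' = s' * s) (x y : DihedralGroup 3) :
    Commute (s3Fun t s x) (s3Fun t' s' y) := by
  have c1 : Commute t t' := htt
  have c2 : Commute s t' := hst
  have c3 : Commute t s' := hts.symm
  have c4 : Commute s s' := hss
  cases x with
  | r i =>
    cases y with
    | r j => exact (c1.pow_pow _ _)
    | sr j => exact (c3.pow_left _).mul_right (c1.pow_pow _ _)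
  | sr i =>
    cases y with
    | r j => exact (c2.pow_right _).mul_left (c1.pow_pow _ _)
    | sr j =>
      exact (c4.mul_right (c2.pow_right _)).mul_left ((c3.pow_left _).mul_right (c1.pow_pow _ _))

theorem s3Hom_commute {t s t' s' : G} (ht : t ^ 3 = 1) (hs : s ^ 2 = 1)
    (hts : s * t * s⁻¹ = t⁻¹) (ht' : t' ^ 3 = 1) (hs' : s' ^ 2 = 1) (hts' : s' * t' * s'⁻¹ = t'⁻¹)
    (h1 : t * t' = t' * t) (h2 : s * t' = t' * s)
    (h3 : s' * t = t * s') (h4 : s * s' = s' * s) (x y : DihedralGroup 3) :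
    Commute (s3Hom ht hs hts x) (s3Hom ht' hs' hts' y) :=
  s3Fun_commute h1 h2 h3 h4 x y

end dihedral

theorem s3_model_hom {G : Type*} [Group G] (t₁ t₂ a b : G) (ht₁ : t₁ ^ 3 = 1) (ht₂ : t₂ ^ 3 = 1) (ha : a ^ 2 = 1) (hb : b ^ 2 = 1)
    (htt : t₁ * t₂ = t₂ * t₁) (hab : a * b = b * a) (hat₁ : a * t₁ * a⁻¹ = t₁⁻¹) (hat₂ : a * t₂ = t₂ * a) (hbt₁ : b * t₁ = t₁ * b) (hbt₂ : b * t₂ * b⁻¹ = t₂⁻¹) :
    ∃ φ : NM →* G, ∀ (i j : ZMod 3) (k l : ZMod 2), φ (r i * sr 0 ^ k.val, r j * sr 0 ^ l.val) = t₁ ^ i.val * a ^ k.val * (t₂ ^ j.val * b ^ l.val) := by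
  refine ⟨MonoidHom.noncommCoprod (s3Hom ht₁ ha hat₁) (s3Hom ht₂ hb hbt₂)
    (s3Hom_commute ht₁ ha hat₁ ht₂ hb hbt₂ htt hat₂ hbt₁ hab), ?_⟩
  intro i j k l
  show s3Hom ht₁ ha hat₁ (r i * sr 0 ^ k.val) * s3Hom ht₂ hb hbt₂ (r j * sr 0 ^ l.val) = _
  rw [s3Hom_gen, s3Hom_gen]

end Cfsg.Agent.Helper91
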