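import Mathlib

/-!
# CALL SL2L piece G5 (helper91, doubling)
-/

set_option autoImplicit false

namespace Cfsg.Agent.Helper91

universe u

variable {Γ : Type u} [Group Γ] [Finite Γ]

open Subgroup

/-- PIECE G5 (a line is `⟨d⟩ Z`): `⟨d⟩ ⊔ Z ≤ L` has order `> p` dividing `p²`, so equals `L`; its
elements are `d ^ i * z`. -/
theorem sl2l_line_gen {p : ℕ} (hp : p.Prime) {Z L : Subgroup Γ} (hZL : Z ≤ L)
    (hZc : Nat.card Z = p) (hLc : Nat.card L = p ^ 2)
    (hZcen : ∀ z ∈ Z, ∀ a ∈ L, z * a = a * z) {d : Γ} (hd : d ∈ L) (hdZ : d ∉ Z) {b : Γ}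
    (hb : b ∈ L) : ∃ (i : ℕ) (z : Γ), z ∈ Z ∧ b = d ^ i * z := by
  classical
  have hdi : ∀ i : ℕ, d ^ i ∈ L := fun i => L.pow_mem hd i
  let M : Subgroup Γ :=
    { carrier := {x | ∃ (i : ℕ) (z : Γ), z ∈ Z ∧ x = d ^ i * z}
      mul_mem' := by
        rintro x y ⟨i, z, hz, rfl⟩ ⟨j, z', hz', rfl⟩
        refine ⟨i + j, z * z', Z.mul_mem hz hz', ?_⟩
        have h1 := hZcen z hz (d ^ j) (hdi j)
        calc d ^ i * z * (d ^ j * z') = d ^ i * (z * d ^ j) * z' := by
              simp only [mul_assoc]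
          _ = d ^ i * (d ^ j * z) * z' := by rw [h1]
          _ = d ^ (i + j) * (z * z') := by
              rw [pow_add]
              simp only [mul_assoc]
      one_mem' := ⟨0, 1, Z.one_mem, by simp⟩
      inv_mem' := by
        rintro x ⟨i, z, hz, rfl⟩
        refine ⟨i * (orderOf d - 1), z⁻¹, Z.inv_mem hz, ?_⟩
        have hpos : 0 < orderOf d := orderOf_pos d
        have h1 : d ^ i * d ^ (i * (orderOf d - 1)) = 1 := by
          rw [← pow_add]
          have e : i + i * (orderOf d - 1) = i * orderOf d := by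
            obtain ⟨n, hn⟩ := Nat.exists_eq_succ_of_ne_zero hpos.ne'
            rw [hn, Nat.succ_sub_one, Nat.mul_succ, Nat.add_comm]
          rw [e, pow_mul', pow_orderOf_eq_one, one_pow]
        have h2 := hZcen z⁻¹ (Z.inv_mem hz) (d ^ (i * (orderOf d - 1))) (hdi _)
        have h3 : (d ^ i)⁻¹ = d ^ (i * (orderOf d - 1)) := inv_eq_of_mul_eq_one_right h1
        rw [mul_inv_rev, h3, h2] }
  have hZM : Z ≤ M := fun z hz => ⟨0, z, hz, by simp⟩
  have hdM : d ∈ M := ⟨1, 1, Z.one_mem, by simp⟩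
  have hML : M ≤ L := by
    rintro x ⟨i, z, hz, rfl⟩
    exact L.mul_mem (hdi i) (hZL hz)
  have hMdvd : Nat.card M ∣ p ^ 2 := hLc ▸ Subgroup.card_dvd_of_le hML
  obtain ⟨j, hj, hMj⟩ := (Nat.dvd_prime_pow hp).1 hMdvd
  have hZdvd : p ∣ Nat.card M := hZc ▸ Subgroup.card_dvd_of_le hZM
  have hj2 : j = 2 := by
    interval_cases j
    · exfalso
      rw [hMj, pow_zero] at hZdvd
      exact hp.one_lt.ne' (Nat.dvd_one.mp hZdvd)
    · exfalso
      have hZM' : Z = M := Subgroup.eq_of_le_of_card_ge hZM (by rw [hMj, hZc, pow_one])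
      exact hdZ (hZM' ▸ hdM)
    · rfl
  have hML' : M = L := by
    apply Subgroup.eq_of_le_of_card_ge hML
    rw [hLc, hMj, hj2]
  have hbM : b ∈ M := hML' ▸ hb
  exact hbM

end Cfsg.Agent.Helper91
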