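import Mathlib
import Cfsg.Agent.Helper13.SuBlk
import Cfsg.Agent.Helper13.SpRU3a

set_option autoImplicit false

namespace Cfsg.Agent.Helper91

open Matrix
open Cfsg.Agent.Helper5 (frobQ frobQ_apply frobQ_frobQ)
open Cfsg.Agent.Helper99 (suH suG suAct suEl)
open Cfsg.Agent.Helper13 (bVec suBlk suLv BlkU rix ruU ruUi ruVb ruB)

/-- powers of a strictly upper triangular matrix vanish below the `k`-th superdiagonal. -/
theorem su5r_pow_zero {F : Type*} [Field F] {n : ℕ} (X : Matrix (Fin n) (Fin n) F)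
    (hX : ∀ a b : Fin n, b.val ≤ a.val → X a b = 0) (k : ℕ) (a b : Fin n)
    (h : b.val < a.val + k) : (X ^ k) a b = 0 := by
  induction k generalizing b with
  | zero =>
    rw [pow_zero, Matrix.one_apply_ne]
    intro e
    rw [e] at h
    omega
  | succ k ih =>
    rw [pow_succ, Matrix.mul_apply]
    apply Finset.sum_eq_zero
    intro c _
    by_cases hc : c.val < a.val + k
    · rw [ih c hc, zero_mul]
    · rw [hX c b (by omega), mul_zero]

/-- the `k`-th superdiagonal of the `k`-th power of a strictly upper triangular matrix with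
nonzero superdiagonal is nonzero. -/
theorem su5r_pow_diag {F : Type*} [Field F] {n : ℕ} (X : Matrix (Fin n) (Fin n) F)
    (hX : ∀ a b : Fin n, b.val ≤ a.val → X a b = 0)
    (hs : ∀ a b : Fin n, b.val = a.val + 1 → X a b ≠ 0) (k : ℕ) (a b : Fin n)
    (h : b.val = a.val + k) : (X ^ k) a b ≠ 0 := by
  induction k generalizing b with
  | zero =>
    have hab : a = b := Fin.ext (by omega)
    subst hab
    rw [pow_zero, Matrix.one_apply_eq]
    exact one_ne_zero
  | succ k ih =>
    have hb := b.2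
    have hc : a.val + k < n := by omega
    rw [pow_succ, Matrix.mul_apply, Finset.sum_eq_single (⟨a.val + k, hc⟩ : Fin n)]
    · exact mul_ne_zero (ih _ rfl) (hs _ _ (by simp only; omega))
    · intro c _ hcne
      have hc2 : c.val ≠ a.val + k := fun e => hcne (Fin.ext e)
      by_cases hc3 : c.val < a.val + k
      · rw [su5r_pow_zero X hX k a c hc3, zero_mul]
      · rw [hX c b (by omega), mul_zero]
    · intro h'
      exact absurd (Finset.mem_univ _) h'

/-- an upper unitriangular matrix with nonzero superdiagonal is regular unipotent. -/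
theorem su5r_regular {F : Type*} [Field F] {n : ℕ} (M : Matrix (Fin (n + 1)) (Fin (n + 1)) F)
    (hlow : ∀ a b : Fin (n + 1), b.val < a.val → M a b = 0) (hdiag : ∀ a, M a a = 1)
    (hs : ∀ a b : Fin (n + 1), b.val = a.val + 1 → M a b ≠ 0) :
    IsNilpotent (M - 1) ∧ (M - 1) ^ n ≠ 0 := by
  have hX : ∀ a b : Fin (n + 1), b.val ≤ a.val → (M - 1) a b = 0 := by
    intro a b hab
    rw [Matrix.sub_apply]
    by_cases e : b.val = a.val
    · have : a = b := Fin.ext e.symm
      subst this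
      rw [hdiag, Matrix.one_apply_eq, sub_self]
    · rw [hlow a b (by omega), Matrix.one_apply_ne (fun e' => e (by rw [e'])), sub_zero]
  have hs' : ∀ a b : Fin (n + 1), b.val = a.val + 1 → (M - 1) a b ≠ 0 := by
    intro a b hab
    rw [Matrix.sub_apply, Matrix.one_apply_ne (fun e' => by rw [e'] at hab; omega), sub_zero]
    exact hs a b hab
  refine ⟨⟨n + 1, ?_⟩, ?_⟩
  · ext a b
    have hb := b.2
    rw [su5r_pow_zero (M - 1) hX (n + 1) a b (by omega)]
    rfl
  · intro h
    have h2 := su5r_pow_diag (M - 1) hX hs' n (0 : Fin (n + 1)) (Fin.last n) (by simp)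
    rw [h, Matrix.zero_apply] at h2
    exact h2 rfl

variable {K : Type*} [Field K] [Fintype K] {q : ℕ}

theorem su5r_inv (N : ℕ) (a : Matrix.SpecialLinearGroup (Fin (N + 1)) K) (ha : a.1 = ruU N K) :
    (a⁻¹ : Matrix.SpecialLinearGroup (Fin (N + 1)) K).1 = ruUi N K := by
  have h1 : (a⁻¹ : Matrix.SpecialLinearGroup (Fin (N + 1)) K).1 * a.1 = 1 := by
    have := congrArg Subtype.val (inv_mul_cancel a)
    rwa [Matrix.SpecialLinearGroup.coe_mul] at this
  calc (a⁻¹ : Matrix.SpecialLinearGroup (Fin (N + 1)) K).1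
      = (a⁻¹ : Matrix.SpecialLinearGroup (Fin (N + 1)) K).1 * (ruU N K * ruUi N K) := by
        rw [Cfsg.Agent.Helper13.ruU_mul_ruUi, Matrix.mul_one]
    _ = ruUi N K := by
        rw [← Matrix.mul_assoc, ← ha, h1, Matrix.one_mul]

theorem su5r_hE (hK : Fintype.card K = q ^ 2) (N : ℕ) (a₀ c : K)
    (hc : c + frobQ hK c + a₀ * frobQ hK a₀ = 0) :
    Cfsg.Agent.Helper99.SuHE hK (bVec (Pi.single (rix N N) 1) 0 0 : Fin (2 * (N + 1) + 1) → K)
      (bVec 0 0 a₀) c := by
  refine ⟨?_, ?_, ?_⟩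
  · rw [Cfsg.Agent.Helper13.suH_bVec]
    simp
  · rw [Cfsg.Agent.Helper13.suH_bVec]
    simp
  · rw [Cfsg.Agent.Helper13.suH_bVec]
    simpa using hc

/-- the action of `u = L(a) te` in block coordinates. -/
theorem su5r_act (hK : Fintype.card K = q ^ 2) (p : ℕ) [Fact p.Prime] [CharP K p] (N : ℕ)
    (a : Matrix.SpecialLinearGroup (Fin (N + 1)) K) (ha : a.1 = ruU N K) (a₀ c : K)
    (hc : c + frobQ hK c + a₀ * frobQ hK a₀ = 0) (x y : Fin (N + 1) → K) (l : K) :
    suAct (suLv hK (N + 1) a *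
        suEl hK (bVec (Pi.single (rix N N) 1) 0 0) (bVec 0 0 a₀) c) (bVec x y l) =
      bVec (ruU N K *ᵥ (x + (c * y (rix N N) - l * frobQ hK a₀) • Pi.single (rix N N) 1))
        (((ruUi N K).map (frobQ hK))ᵀ *ᵥ y) (l + y (rix N N) * a₀) := by
  rw [Cfsg.Agent.Helper99.suAct_mul, Cfsg.Agent.Helper99.suAct_suEl hK p (su5r_hE hK N a₀ c hc),
    Cfsg.Agent.Helper13.suH_bVec, Cfsg.Agent.Helper13.suH_bVec]
  have e1 : (∑ i, x i * frobQ hK ((0 : Fin (N + 1) → K) i)) = 0 := by simp
  have e2 : (∑ i, y i * frobQ hK ((Pi.single (rix N N) 1 : Fin (N + 1) → K) i)) = y (rix N N) := by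
    rw [Finset.sum_eq_single (rix N N)]
    · simp
    · intro b _ hb
      rw [Pi.single_eq_of_ne hb, map_zero, mul_zero]
    · intro h'
      exact absurd (Finset.mem_univ _) h'
  have e3 : (∑ i, y i * frobQ hK ((0 : Fin (N + 1) → K) i)) = 0 := by simp
  rw [e1, e2, e3]
  simp only [map_zero, mul_zero, add_zero, zero_add]
  rw [Cfsg.Agent.Helper13.bVec_smul, Cfsg.Agent.Helper13.bVec_smul,
    Cfsg.Agent.Helper13.bVec_smul, Cfsg.Agent.Helper13.bVec_add, Cfsg.Agent.Helper13.bVec_sub,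
    Cfsg.Agent.Helper13.bVec_add, Cfsg.Agent.Helper13.suAct_suLv, ha, su5r_inv N a ha]
  congr 1
  · congr 1
    ext i
    simp only [Pi.add_apply, Pi.sub_apply, Pi.smul_apply, Pi.zero_apply, smul_eq_mul]
    ring
  · congr 1
    ext i
    simp
  · simp

/-- the matrix entries of `u = L(a) te`. -/
theorem su5r_entry (hK : Fintype.card K = q ^ 2) (p : ℕ) [Fact p.Prime] [CharP K p] (N : ℕ)
    (a : Matrix.SpecialLinearGroup (Fin (N + 1)) K) (ha : a.1 = ruU N K) (a₀ c : K)
    (hc : c + frobQ hK c + a₀ * frobQ hK a₀ = 0) (x y : Fin (N + 1) → K) (l : K)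
    (j r : Fin (2 * (N + 1) + 1)) (hj : (Pi.single j 1 : Fin (2 * (N + 1) + 1) → K) = bVec x y l) :
    ((((suLv hK (N + 1) a *
        suEl hK (bVec (Pi.single (rix N N) 1) 0 0) (bVec 0 0 a₀) c : ↥(suG hK (2 * (N + 1) + 1))) :
        Matrix.SpecialLinearGroup (Fin (2 * (N + 1) + 1)) K) :
        Matrix (Fin (2 * (N + 1) + 1)) (Fin (2 * (N + 1) + 1)) K)) r j =
      bVec (ruU N K *ᵥ (x + (c * y (rix N N) - l * frobQ hK a₀) • Pi.single (rix N N) 1))
        (((ruUi N K).map (frobQ hK))ᵀ *ᵥ y) (l + y (rix N N) * a₀) r := by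
  rw [← Cfsg.Agent.Helper99.suAct_single, hj, su5r_act hK p N a ha a₀ c hc]

/-- PIECE R (S2282). -/
theorem su_u1_regular (hK : Fintype.card K = q ^ 2) (p : ℕ) [Fact p.Prime] [CharP K p] (N : ℕ)
    (a : Matrix.SpecialLinearGroup (Fin (N + 1)) K) (ha : a.1 = ruU N K) (a₀ c : K) (ha₀ : a₀ ≠ 0)
    (hc : c + frobQ hK c + a₀ * frobQ hK a₀ = 0) :
    IsNilpotent ((((suLv hK (N + 1) a *
        suEl hK (bVec (Pi.single (rix N N) 1) 0 0) (bVec 0 0 a₀) c : ↥(suG hK (2 * (N + 1) + 1))) :
        Matrix.SpecialLinearGroup (Fin (2 * (N + 1) + 1)) K) :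
        Matrix (Fin (2 * (N + 1) + 1)) (Fin (2 * (N + 1) + 1)) K) - 1) ∧
      ((((suLv hK (N + 1) a *
        suEl hK (bVec (Pi.single (rix N N) 1) 0 0) (bVec 0 0 a₀) c : ↥(suG hK (2 * (N + 1) + 1))) :
        Matrix.SpecialLinearGroup (Fin (2 * (N + 1) + 1)) K) :
        Matrix (Fin (2 * (N + 1) + 1)) (Fin (2 * (N + 1) + 1)) K) - 1) ^ (2 * (N + 1)) ≠ 0 := by
  have eN : (rix N N).val = N := by rw [Cfsg.Agent.Helper13.rix_val]; omega
  have hfa : frobQ hK a₀ ≠ 0 := by
    intro h
    apply ha₀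
    have := congrArg (frobQ hK) h
    rwa [frobQ_frobQ, map_zero] at this
  -- the three kinds of columns
  have key : ∀ j : Fin (2 * (N + 1) + 1), ∃ (x y : Fin (N + 1) → K) (l : K),
      (Pi.single j 1 : Fin (2 * (N + 1) + 1) → K) = bVec x y l ∧
      ((j.val < N + 1 ∧ x = Pi.single (rix N j.val) 1 ∧ y = 0 ∧ l = 0) ∨
       (j.val = N + 1 ∧ x = 0 ∧ y = 0 ∧ l = 1) ∨
       (N + 1 < j.val ∧ x = 0 ∧ y = Pi.single (rix N (2 * (N + 1) - j.val)) 1 ∧ l = 0)) := by
    intro j
    have hj2 := j.2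
    rcases Nat.lt_trichotomy j.val (N + 1) with h | h | h
    · refine ⟨Pi.single (rix N j.val) 1, 0, 0, ?_, Or.inl ⟨h, rfl, rfl, rfl⟩⟩
      rw [Cfsg.Agent.Helper13.single_eq_bVec_lt j h]
      congr 2
      apply Fin.ext
      rw [Cfsg.Agent.Helper13.rix_val]
      try dsimp only
      omega
    · exact ⟨0, 0, 1, Cfsg.Agent.Helper13.single_eq_bVec_eq j h, Or.inr (Or.inl ⟨h, rfl, rfl, rfl⟩)⟩
    · refine ⟨0, Pi.single (rix N (2 * (N + 1) - j.val)) 1, 0, ?_,
        Or.inr (Or.inr ⟨h, rfl, rfl, rfl⟩)⟩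
      rw [Cfsg.Agent.Helper13.single_eq_bVec_gt j h (by omega)]
      congr 2
      apply Fin.ext
      rw [Cfsg.Agent.Helper13.rix_val]
      try dsimp only
      omega
  -- entries of `ruU *ᵥ` and of `(ruUi.map frob)ᵀ *ᵥ`
  have hU : ∀ (k i : Fin (N + 1)) (t : K),
      (ruU N K *ᵥ (t • Pi.single k 1)) i = if i.val ≤ k.val then t else 0 := by
    intro k i t
    rw [Matrix.mulVec_smul, Pi.smul_apply, Cfsg.Agent.Helper99.su_col,
      Cfsg.Agent.Helper13.ruU_apply, smul_eq_mul]
    split_ifs <;> simp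
  have hUi : ∀ (k i : Fin (N + 1)),
      (((ruUi N K).map (frobQ hK))ᵀ *ᵥ Pi.single k 1) i =
        if k.val = i.val then 1 else if i.val = k.val + 1 then -1 else 0 := by
    intro k i
    rw [Cfsg.Agent.Helper99.su_col, Matrix.transpose_apply, Matrix.map_apply,
      Cfsg.Agent.Helper13.ruUi_apply]
    split_ifs <;> simp
  apply su5r_regular
  · -- below the diagonal
    intro r j hjr
    have hr2 := r.2
    obtain ⟨x, y, l, hj, hcase⟩ := key j
    rw [su5r_entry hK p N a ha a₀ c hc x y l j r hj]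
    rcases hcase with ⟨h, rfl, rfl, rfl⟩ | ⟨h, rfl, rfl, rfl⟩ | ⟨h, rfl, rfl, rfl⟩
    · rcases Nat.lt_trichotomy r.val (N + 1) with h1 | h1 | h1
      · rw [Cfsg.Agent.Helper13.bVec_apply_lt _ _ _ r h1]
        have := hU (rix N j.val) ⟨r.val, h1⟩ 1
        simp only [one_smul] at this
        simp only [Pi.zero_apply, mul_zero, zero_mul, sub_zero, zero_smul, add_zero]
        rw [this, if_neg]
        rw [Cfsg.Agent.Helper13.rix_val]
        try dsimp only
        omega
      · rw [Cfsg.Agent.Helper13.bVec_apply_eq _ _ _ r h1]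
        simp
      · rw [Cfsg.Agent.Helper13.bVec_apply_gt _ _ _ r h1 (by omega)]
        simp
    · rcases Nat.lt_trichotomy r.val (N + 1) with h1 | h1 | h1
      · omega
      · omega
      · rw [Cfsg.Agent.Helper13.bVec_apply_gt _ _ _ r h1 (by omega)]
        simp
    · have h1 : N + 1 < r.val := by omega
      rw [Cfsg.Agent.Helper13.bVec_apply_gt _ _ _ r h1 (by omega), hUi,
        if_neg, if_neg]
      · rw [Cfsg.Agent.Helper13.rix_val]
        try dsimp only
        omega
      · rw [Cfsg.Agent.Helper13.rix_val]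
        try dsimp only
        omega
  · -- the diagonal
    intro r
    have hr2 := r.2
    obtain ⟨x, y, l, hj, hcase⟩ := key r
    rw [su5r_entry hK p N a ha a₀ c hc x y l r r hj]
    rcases hcase with ⟨h, rfl, rfl, rfl⟩ | ⟨h, rfl, rfl, rfl⟩ | ⟨h, rfl, rfl, rfl⟩
    · rw [Cfsg.Agent.Helper13.bVec_apply_lt _ _ _ r h]
      have := hU (rix N r.val) ⟨r.val, h⟩ 1
      simp only [one_smul] at this
      simp only [Pi.zero_apply, mul_zero, zero_mul, sub_zero, zero_smul, add_zero]
      rw [this, if_pos]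
      rw [Cfsg.Agent.Helper13.rix_val]
      try dsimp only
      omega
    · rw [Cfsg.Agent.Helper13.bVec_apply_eq _ _ _ r h]
      simp
    · rw [Cfsg.Agent.Helper13.bVec_apply_gt _ _ _ r h (by omega), hUi, if_pos]
      rw [Cfsg.Agent.Helper13.rix_val]
      try dsimp only
      omega
  · -- the superdiagonal
    intro r j hjr
    have hr2 := r.2
    have hj2 := j.2
    obtain ⟨x, y, l, hj, hcase⟩ := key j
    rw [su5r_entry hK p N a ha a₀ c hc x y l j r hj]
    rcases hcase with ⟨h, rfl, rfl, rfl⟩ | ⟨h, rfl, rfl, rfl⟩ | ⟨h, rfl, rfl, rfl⟩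
    · have h1 : r.val < N + 1 := by omega
      rw [Cfsg.Agent.Helper13.bVec_apply_lt _ _ _ r h1]
      have := hU (rix N j.val) ⟨r.val, h1⟩ 1
      simp only [one_smul] at this
      simp only [Pi.zero_apply, mul_zero, zero_mul, sub_zero, zero_smul, add_zero]
      rw [this, if_pos]
      · exact one_ne_zero
      · rw [Cfsg.Agent.Helper13.rix_val]
        try dsimp only
        omega
    · have h1 : r.val < N + 1 := by omega
      rw [Cfsg.Agent.Helper13.bVec_apply_lt _ _ _ r h1]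
      simp only [Pi.zero_apply, mul_zero, zero_sub, one_mul, zero_add]
      rw [hU, if_pos]
      · exact neg_ne_zero.2 hfa
      · rw [eN]
        try dsimp only
        omega
    · rcases Nat.lt_trichotomy r.val (N + 1) with h1 | h1 | h1
      · omega
      · rw [Cfsg.Agent.Helper13.bVec_apply_eq _ _ _ r h1]
        have e : rix N (2 * (N + 1) - j.val) = rix N N := by
          apply Fin.ext
          rw [Cfsg.Agent.Helper13.rix_val, Cfsg.Agent.Helper13.rix_val]
          omega
        rw [e]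
        simpa using ha₀
      · rw [Cfsg.Agent.Helper13.bVec_apply_gt _ _ _ r h1 (by omega), hUi,
          if_neg, if_pos]
        · exact neg_ne_zero.2 one_ne_zero
        · rw [Cfsg.Agent.Helper13.rix_val]
          try dsimp only
          omega
        · rw [Cfsg.Agent.Helper13.rix_val]
          try dsimp only
          omega

end Cfsg.Agent.Helper91
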