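/-
Helper91: explicit 2-subgroups of `Cfsg.M24` given by checked lists of permutation tables.
Part A: the group generated by a list of tables `C`, its list of elements `E`, its order, its centre, and
generation by fusion (conjugation inside a subgroup `stabSub F Lg`).
-/
import Cfsg.Agent.Helper91.Mathieu
import Cfsg.Agent.Helper53.PCenter

set_option autoImplicit false

namespace Cfsg.Agent.Helper91.Syl

open Cfsg Cfsg.Agent.Helper91

/-! ## Tables as permutations -/

/-- The permutation of a table (the identity for an invalid table). -/
noncomputable def permOf (T : List Nat) : Equiv.Perm GolayPt :=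
  if h : validTab T = true then permT T h else 1

theorem permOf_eq {T : List Nat} (h : validTab T = true) : permOf T = permT T h := dif_pos h

theorem permOf_apply {T : List Nat} (h : validTab T = true) (p : GolayPt) : permOf T p = tabFun T p := by
  rw [permOf_eq h]; rfl

theorem permOf_comp {A B : List Nat} (hA : validTab A = true) (hB : validTab B = true) :
    permOf (comp A B) = permOf A * permOf B := by
  refine Equiv.ext fun p => ?_
  rw [permOf_apply (validTab_comp hA hB), tabFun_comp hB, Equiv.Perm.mul_apply, permOf_apply hA,
    permOf_apply hB]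
  rfl

theorem permOf_idTab : permOf idTab = 1 := by
  refine Equiv.ext fun p => ?_
  rw [permOf_apply validTab_idTab, tabFun_idTab]
  rfl

/-- Valid tables with the same permutation are equal. -/
theorem tab_eq_of_permOf_eq {A B : List Nat} (hA : validTab A = true) (hB : validTab B = true)
    (h : permOf A = permOf B) : A = B := by
  apply List.ext_getElem
  · rw [validTab_length hA, validTab_length hB]
  · intro i h1 h2
    have hi : i < 24 := by rw [validTab_length hA] at h1; exact h1
    have e : idx (permOf A (pt i)) = idx (permOf B (pt i)) := by rw [h]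
    rw [permOf_apply hA, permOf_apply hB, idx_tabFun hA, idx_tabFun hB, idx_pt hi,
      List.getD_eq_getElem _ _ h1, List.getD_eq_getElem _ _ h2] at e
    exact e

/-- The set of permutations of the tables of a list. -/
def permSet (E : List (List Nat)) : Set (Equiv.Perm GolayPt) := {g | ∃ T ∈ E, g = permOf T}

/-- The group generated by the tables of `C`. -/
def genGroup (C : List (List Nat)) : Subgroup (Equiv.Perm GolayPt) := Subgroup.closure (permSet C)

theorem permOf_mem_genGroup {C : List (List Nat)} {c : List Nat} (hc : c ∈ C) : permOf c ∈ genGroup C :=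
  Subgroup.subset_closure ⟨c, hc, rfl⟩

/-! ## The list of elements -/

/-- Closure check: the tables are valid, the identity is listed and the products of the generators with
the listed tables are listed, at the positions given by `cay`. -/
def closedOK (C E : List (List Nat)) (cay : List (List Nat)) : Bool :=
  C.all validTab && E.all validTab && E.contains idTab && (cay.length == E.length) &&
    cay.all (fun row => row.length == C.length) &&
    (E.zip cay).all (fun x => (C.zip x.2).all (fun y => E.getD y.2 [] == comp y.1 x.1))

theorem mem_zip_of_length {α β : Type*} {l : List α} {m : List β} (h : m.length = l.length) {a : α}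
    (ha : a ∈ l) : ∃ b, (a, b) ∈ l.zip m := by
  obtain ⟨i, hi, rfl⟩ := List.mem_iff_getElem.1 ha
  have hi' : i < m.length := h ▸ hi
  refine ⟨m[i], ?_⟩
  have h2 : i < (l.zip m).length := by rw [List.length_zip]; omega
  have := List.getElem_mem h2
  rwa [List.getElem_zip] at this

theorem closedOK_spec {C E : List (List Nat)} {cay : List (List Nat)} (h : closedOK C E cay = true) :
    (∀ c ∈ C, validTab c = true) ∧ (∀ T ∈ E, validTab T = true) ∧ idTab ∈ E ∧
      ∀ c ∈ C, ∀ T ∈ E, comp c T ∈ E := by
  simp only [closedOK, Bool.and_eq_true, List.all_eq_true, beq_iff_eq, List.contains_iff_mem] at h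
  obtain ⟨⟨⟨⟨⟨hC, hE⟩, hid⟩, hlen⟩, hrow⟩, hcay⟩ := h
  refine ⟨hC, hE, hid, ?_⟩
  intro c hc T hT
  obtain ⟨row, hrow'⟩ := mem_zip_of_length hlen hT
  have hr : row.length = C.length := hrow row (List.of_mem_zip hrow').2
  obtain ⟨q, hq⟩ := mem_zip_of_length hr hc
  have := hcay (T, row) hrow' (c, q) hq
  simp only at this
  rw [← this]
  by_cases hlt : q < E.length
  · rw [List.getD_eq_getElem _ _ hlt]; exact List.getElem_mem hlt
  · exfalso
    rw [List.getD_eq_default _ _ (by omega)] at this
    have hv := validTab_comp (hC c hc) (hE T hT)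
    rw [← this] at hv
    exact absurd hv (by decide)

theorem genGroup_le_permSet {C E : List (List Nat)} (hC : ∀ c ∈ C, validTab c = true)
    (hE : ∀ T ∈ E, validTab T = true) (hid : idTab ∈ E) (hcl : ∀ c ∈ C, ∀ T ∈ E, comp c T ∈ E) :
    ∀ g ∈ genGroup C, g ∈ permSet E := by
  classical
  let X : Finset (Equiv.Perm GolayPt) := (E.map permOf).toFinset
  have hX : ∀ y, y ∈ X ↔ y ∈ permSet E := by
    intro y
    simp only [X, List.mem_toFinset, List.mem_map, permSet, Set.mem_setOf_eq]
    constructor
    · rintro ⟨T, hT, rfl⟩; exact ⟨T, hT, rfl⟩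
    · rintro ⟨T, hT, rfl⟩; exact ⟨T, hT, rfl⟩
  have key : ∀ g ∈ genGroup C, ∀ y ∈ X, g * y ∈ X := by
    intro g hg
    induction hg using Subgroup.closure_induction with
    | mem g hg =>
      intro y hy
      obtain ⟨c, hc, rfl⟩ := hg
      obtain ⟨T, hT, rfl⟩ := (hX y).1 hy
      rw [hX, ← permOf_comp (hC c hc) (hE T hT)]
      exact ⟨_, hcl c hc T hT, rfl⟩
    | one => intro y hy; simpa using hy
    | mul a b _ _ iha ihb => intro y hy; rw [mul_assoc]; exact iha _ (ihb y hy)
    | inv a _ iha =>
      intro y hy
      have himg : X.image (fun y => a * y) = X := by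
        apply Finset.eq_of_subset_of_card_le
        · intro u hu
          obtain ⟨v, hv, rfl⟩ := Finset.mem_image.1 hu
          exact iha v hv
        · rw [Finset.card_image_of_injective _ (mul_right_injective a)]
      rw [← himg] at hy
      obtain ⟨v, hv, rfl⟩ := Finset.mem_image.1 hy
      simpa using hv
  intro g hg
  have h1 : (1 : Equiv.Perm GolayPt) ∈ X := (hX 1).2 ⟨idTab, hid, permOf_idTab.symm⟩
  have := key g hg 1 h1
  rw [mul_one] at this
  exact (hX g).1 this

/-- Evaluation of a word in the generators. -/
def evalW (C : List (List Nat)) : List Nat → List Nat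
  | [] => idTab
  | j :: w => comp (C.getD j idTab) (evalW C w)

theorem evalW_spec {C : List (List Nat)} (hC : ∀ c ∈ C, validTab c = true) (w : List Nat) :
    validTab (evalW C w) = true ∧ permOf (evalW C w) ∈ genGroup C := by
  induction w with
  | nil => exact ⟨validTab_idTab, by rw [evalW, permOf_idTab]; exact one_mem _⟩
  | cons j w ih =>
    have h1 : validTab (C.getD j idTab) = true ∧ permOf (C.getD j idTab) ∈ genGroup C := by
      by_cases hj : j < C.length
      · rw [List.getD_eq_getElem _ _ hj]
        exact ⟨hC _ (List.getElem_mem hj), permOf_mem_genGroup (List.getElem_mem hj)⟩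
      · rw [List.getD_eq_default _ _ (by omega)]
        exact ⟨validTab_idTab, by rw [permOf_idTab]; exact one_mem _⟩
    refine ⟨validTab_comp h1.1 ih.1, ?_⟩
    rw [evalW, permOf_comp h1.1 ih.1]
    exact mul_mem h1.2 ih.2

/-- Word check: every listed table is the value of its word. -/
def wordsOK (C E : List (List Nat)) (W : List (List Nat)) : Bool :=
  (W.length == E.length) && (E.zip W).all (fun x => evalW C x.2 == x.1)

theorem permSet_le_genGroup {C E W : List (List Nat)} (hC : ∀ c ∈ C, validTab c = true)
    (h : wordsOK C E W = true) : ∀ g ∈ permSet E, g ∈ genGroup C := by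
  simp only [wordsOK, Bool.and_eq_true, List.all_eq_true, beq_iff_eq] at h
  rintro g ⟨T, hT, rfl⟩
  obtain ⟨w, hw⟩ := mem_zip_of_length h.1 hT
  have := h.2 (T, w) hw
  simp only at this
  rw [← this]
  exact (evalW_spec hC w).2

/-- Code of a table. -/
def tcode (T : List Nat) : Nat := T.foldr (fun j acc => j + 32 * acc) 0

/-- Strictly increasing list. -/
def incB : List Nat → Bool
  | a :: b :: l => decide (a < b) && incB (b :: l)
  | _ => true

theorem pairwise_of_incB : ∀ L : List Nat, incB L = true → L.Pairwise (· < ·)
  | [], _ => List.Pairwise.nil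
  | [a], _ => List.pairwise_singleton _ _
  | a :: b :: l, h => by
    simp only [incB, Bool.and_eq_true, decide_eq_true_eq] at h
    have ih := pairwise_of_incB (b :: l) h.2
    rw [List.pairwise_cons]
    refine ⟨?_, ih⟩
    intro x hx
    rcases List.mem_cons.1 hx with rfl | hx
    · exact h.1
    · exact lt_trans h.1 ((List.pairwise_cons.1 ih).1 x hx)

theorem nodup_of_incB {E : List (List Nat)} (h : incB (E.map tcode) = true) : E.Nodup := by
  have h1 : (E.map tcode).Nodup := (pairwise_of_incB _ h).imp (fun h => ne_of_lt h)
  exact List.Nodup.of_map _ h1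

/-- The full data of the group: generators `C`, elements `E` (sorted by code), multiplication table `cay`
and words `W`. -/
def groupOK (C E : List (List Nat)) (cay W : List (List Nat)) : Bool :=
  closedOK C E cay && wordsOK C E W && incB (E.map tcode)

theorem genGroup_eq {C E cay W : List (List Nat)} (h : groupOK C E cay W = true) :
    (genGroup C : Set (Equiv.Perm GolayPt)) = permSet E := by
  simp only [groupOK, Bool.and_eq_true] at h
  obtain ⟨hC, hE, hid, hcl⟩ := closedOK_spec h.1.1
  exact Set.Subset.antisymm (genGroup_le_permSet hC hE hid hcl) (permSet_le_genGroup hC h.1.2)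

theorem valid_of_groupOK {C E cay W : List (List Nat)} (h : groupOK C E cay W = true) :
    (∀ c ∈ C, validTab c = true) ∧ (∀ T ∈ E, validTab T = true) := by
  simp only [groupOK, Bool.and_eq_true] at h
  obtain ⟨hC, hE, -, -⟩ := closedOK_spec h.1.1
  exact ⟨hC, hE⟩

theorem card_genGroup {C E cay W : List (List Nat)} (h : groupOK C E cay W = true) :
    Nat.card (genGroup C) = E.length := by
  classical
  have hset := genGroup_eq h
  have hE := (valid_of_groupOK h).2
  simp only [groupOK, Bool.and_eq_true] at h
  have hnd := nodup_of_incB h.2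
  show Nat.card ↥((genGroup C : Subgroup _) : Set (Equiv.Perm GolayPt)) = _
  rw [_root_.Nat.card_coe_set_eq, hset]
  have e1 : permSet E = permOf '' (↑E.toFinset : Set (List Nat)) := by
    ext g
    simp only [permSet, Set.mem_setOf_eq, Set.mem_image, Finset.mem_coe, List.mem_toFinset]
    constructor
    · rintro ⟨T, hT, rfl⟩; exact ⟨T, hT, rfl⟩
    · rintro ⟨T, hT, rfl⟩; exact ⟨T, hT, rfl⟩
  rw [e1, Set.ncard_image_of_injOn, Set.ncard_coe_finset, List.toFinset_card_of_nodup hnd]
  intro A hA B hB e
  rw [Finset.mem_coe, List.mem_toFinset] at hA hB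
  exact tab_eq_of_permOf_eq (hE A hA) (hE B hB) e

end Cfsg.Agent.Helper91.Syl
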