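/-
Helper91: explicit 2-subgroups of `Cfsg.M24` given by checked lists of permutation tables.
Part B: the centre, generation by fusion, and the strongly closed subgroups.
-/
import Cfsg.Agent.Helper91.SylA

set_option autoImplicit false

namespace Cfsg.Agent.Helper91.Syl

open Cfsg Cfsg.Agent.Helper91

/-! ## The centre -/

/-- Centre check: every listed table other than the identity and the first generator fails to commute with
some generator. -/
def centOK (C E : List (List Nat)) : Bool :=
  E.all (fun e => e == idTab || e == C.headD [] || C.any (fun c => comp c e != comp e c))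

theorem central_eq {C E cay W : List (List Nat)} (h : groupOK C E cay W = true) (hc : centOK C E = true)
    {x : Equiv.Perm GolayPt} (hx : x ∈ genGroup C) (hx1 : x ≠ 1)
    (hcomm : ∀ g ∈ genGroup C, g * x = x * g) : x = permOf (C.headD []) := by
  have hset := genGroup_eq h
  obtain ⟨hC, hE⟩ := valid_of_groupOK h
  have hx' : x ∈ permSet E := by rw [← hset]; exact hx
  obtain ⟨e, he, rfl⟩ := hx'
  rw [centOK, List.all_eq_true] at hc
  have := hc e he
  simp only [Bool.or_eq_true, beq_iff_eq, List.any_eq_true, bne_iff_ne] at this
  rcases this with (h1 | h1) | ⟨c, hcC, hne⟩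
  · exact absurd (h1 ▸ permOf_idTab) hx1
  · rw [h1]
  · exfalso
    apply hne
    have := hcomm (permOf c) (permOf_mem_genGroup hcC)
    rw [← permOf_comp (hC c hcC) (hE e he), ← permOf_comp (hE e he) (hC c hcC)] at this
    exact tab_eq_of_permOf_eq (validTab_comp (hC c hcC) (hE e he)) (validTab_comp (hE e he) (hC c hcC)) this

/-! ## Fusion -/

/-- A step producing the next generator: a conjugate (by the table `h`) of an earlier generator, or the
product of two earlier generators. -/
inductive FStep where
  | conj (i : Nat) (h : List Nat)
  | mul (i j : Nat)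

/-- Check of the step producing the generator number `n`. -/
def stepOK (F : Nat) (Lg : List Nat) (C : List (List Nat)) (n : Nat) : FStep → Bool
  | .conj i h => decide (i < n) && tabOK F Lg h && (comp h (C.getD i []) == comp (C.getD n []) h)
  | .mul i j => decide (i < n) && decide (j < n) && (C.getD n [] == comp (C.getD i []) (C.getD j []))

/-- Check of all the steps. -/
def fusOK (F : Nat) (Lg : List Nat) (C : List (List Nat)) (steps : List FStep) : Bool :=
  (steps.length + 1 == C.length) &&
    (List.range steps.length).all (fun k => stepOK F Lg C (k + 1) (steps.getD k (.mul 0 0)))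

theorem permOf_mem_stabSub {F : Nat} {Lg : List Nat} {T : List Nat} (h : tabOK F Lg T = true) :
    permOf T ∈ stabSub F Lg := by
  rw [permOf_eq (tabOK_valid h)]
  exact mem_stabSub.2 (tabOK_spec h)

theorem genGroup_le_stabSub {F : Nat} {Lg : List Nat} {C : List (List Nat)}
    (h : C.all (tabOK F Lg) = true) : genGroup C ≤ stabSub F Lg := by
  rw [genGroup, Subgroup.closure_le]
  rintro g ⟨c, hc, rfl⟩
  exact permOf_mem_stabSub (List.all_eq_true.1 h c hc)

theorem fus_sound {F : Nat} {Lg : List Nat} {C : List (List Nat)} {steps : List FStep}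
    (hC : ∀ c ∈ C, validTab c = true) (h : fusOK F Lg C steps = true) (T : Subgroup (Equiv.Perm GolayPt))
    (hT : ∀ x ∈ T, ∀ g ∈ stabSub F Lg, g * x * g⁻¹ ∈ genGroup C → g * x * g⁻¹ ∈ T)
    (hz : permOf (C.headD []) ∈ T) : genGroup C ≤ T := by
  simp only [fusOK, Bool.and_eq_true, beq_iff_eq, List.all_eq_true, List.mem_range] at h
  obtain ⟨hlen, hst⟩ := h
  have hmem : ∀ n, n < C.length → C.getD n [] ∈ C := fun n hn => by
    rw [List.getD_eq_getElem _ _ hn]; exact List.getElem_mem hn
  have key : ∀ n, n < C.length → permOf (C.getD n []) ∈ T := by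
    intro n
    induction n using Nat.strong_induction_on with
    | _ n ih =>
      intro hn
      cases n with
      | zero =>
        have : C.getD 0 [] = C.headD [] := by cases C <;> rfl
        rw [this]; exact hz
      | succ k =>
        have hk : k < steps.length := by omega
        have hs := hst k hk
        have hcn := hmem (k + 1) hn
        cases hstep : steps.getD k (.mul 0 0) with
        | conj i hh =>
          rw [hstep] at hs
          simp only [stepOK, Bool.and_eq_true, decide_eq_true_eq, beq_iff_eq] at hs
          obtain ⟨⟨hi, hok⟩, heq⟩ := hs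
          have hci := hmem i (by omega)
          have hv := tabOK_valid hok
          have e : permOf hh * permOf (C.getD i []) = permOf (C.getD (k + 1) []) * permOf hh := by
            rw [← permOf_comp hv (hC _ hci), ← permOf_comp (hC _ hcn) hv, heq]
          have e2 : permOf (C.getD (k + 1) []) = permOf hh * permOf (C.getD i []) * (permOf hh)⁻¹ := by
            rw [e, mul_inv_cancel_right]
          rw [e2]
          apply hT _ (ih i hi (by omega)) _ (permOf_mem_stabSub hok)
          rw [← e2]
          exact permOf_mem_genGroup hcn
        | mul i j =>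
          rw [hstep] at hs
          simp only [stepOK, Bool.and_eq_true, decide_eq_true_eq, beq_iff_eq] at hs
          obtain ⟨⟨hi, hj⟩, heq⟩ := hs
          have hci := hmem i (by omega)
          have hcj := hmem j (by omega)
          rw [heq, permOf_comp (hC _ hci) (hC _ hcj)]
          exact mul_mem (ih i hi (by omega)) (ih j hj (by omega))
  rw [genGroup, Subgroup.closure_le]
  rintro g ⟨c, hc, rfl⟩
  obtain ⟨n, hn, rfl⟩ := List.mem_iff_getElem.1 hc
  have := key n hn
  rwa [List.getD_eq_getElem _ _ hn] at this

/-- The only subgroups of the group closed under fusion in `stabSub F Lg` are the trivial ones. -/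
theorem sc_sound {F : Nat} {Lg : List Nat} {C E cay W : List (List Nat)} {steps : List FStep} {k : Nat}
    (hg : groupOK C E cay W = true) (hcard : E.length = 2 ^ k) (hc : centOK C E = true)
    (hH : C.all (tabOK F Lg) = true) (hf : fusOK F Lg C steps = true)
    (T : Subgroup (Equiv.Perm GolayPt)) (hTS : T ≤ genGroup C)
    (hT : ∀ x ∈ T, ∀ g ∈ stabSub F Lg, g * x * g⁻¹ ∈ genGroup C → g * x * g⁻¹ ∈ T) :
    T = ⊥ ∨ T = genGroup C := by
  by_cases hbot : T = ⊥
  · exact Or.inl hbot
  right
  have hSH := genGroup_le_stabSub hH
  have hp : IsPGroup 2 (genGroup C) := IsPGroup.of_card (n := k) (by rw [card_genGroup hg, hcard])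
  have hnorm : genGroup C ≤ Subgroup.normalizer (T : Set (Equiv.Perm GolayPt)) := by
    intro g hgS
    apply Subgroup.mem_normalizer_fintype
    intro n hn
    exact hT n hn g (hSH hgS) (mul_mem (mul_mem hgS (hTS hn)) (inv_mem hgS))
  have : Fact (Nat.Prime 2) := ⟨Nat.prime_two⟩
  obtain ⟨z, hzT, hz1, hzc⟩ := Helper53.exists_central_of_normalized hp hTS hnorm hbot
  have hz : z = permOf (C.headD []) := central_eq hg hc (hTS hzT) hz1 hzc
  exact le_antisymm hTS (fus_sound (valid_of_groupOK hg).1 hf T hT (hz ▸ hzT))

end Cfsg.Agent.Helper91.Syl
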