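/-
Helper91: explicit 2-subgroups of `Cfsg.M24` given by checked lists of permutation tables.
Part C: the normalizer.  An element `x` of odd prime order normalizing the group `S` (and the stabilizers
in `S` of some base points) permutes the orbits of these stabilizers; this forces fixed points of `x`, and
finally `x` lies in a pointwise stabilizer which is a 2-group.
-/
import Cfsg.Agent.Helper91.SylB

set_option autoImplicit false

namespace Cfsg.Agent.Helper91.Syl

open Cfsg Cfsg.Agent.Helper91

/-- The pointwise stabilizer of the points of a mask. -/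
def fixSub (F : Nat) : Subgroup (Equiv.Perm GolayPt) where
  carrier := {g | FixOn g F}
  mul_mem' := fun ha hb => ha.mul hb
  one_mem' := FixOn.one F
  inv_mem' := fun ha => ha.inv

theorem mem_fixSub {F : Nat} {g : Equiv.Perm GolayPt} : g ∈ fixSub F ↔ FixOn g F := Iff.rfl

theorem fixSub_zero : fixSub 0 = ⊤ := by
  ext g
  simp only [Subgroup.mem_top, iff_true]
  intro p hp
  rw [Nat.zero_testBit] at hp
  exact Bool.noConfusion hp

theorem FixOn_or_iff {g : GolayPt → GolayPt} {A B : Nat} : FixOn g (A ||| B) ↔ FixOn g A ∧ FixOn g B := by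
  constructor
  · intro h
    exact ⟨fun p hp => h p (by rw [Nat.testBit_or, hp]; rfl),
      fun p hp => h p (by rw [Nat.testBit_or, hp, Bool.or_true])⟩
  · rintro ⟨h1, h2⟩ p hp
    rw [Nat.testBit_or, Bool.or_eq_true] at hp
    rcases hp with hp | hp
    · exact h1 p hp
    · exact h2 p hp

theorem stabSub_inf_fixSub (Fg : Nat) (Lg : List Nat) (Fx : Nat) :
    stabSub Fg Lg ⊓ fixSub Fx = stabSub (Fg ||| Fx) Lg := by
  ext g
  rw [Subgroup.mem_inf, mem_stabSub, mem_stabSub, mem_fixSub, FixOn_or_iff]
  tauto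

/-! ## Masks computed by folds -/

theorem testBit_foldl_or {α : Type*} (L : List α) (P : α → Bool) (f : α → Nat) (m0 i : Nat) :
    (L.foldl (fun m a => if P a = true then m ||| (1 <<< f a) else m) m0).testBit i = true ↔
      m0.testBit i = true ∨ ∃ a ∈ L, P a = true ∧ f a = i := by
  induction L generalizing m0 with
  | nil => simp
  | cons a L ih =>
    rw [List.foldl_cons, ih]
    by_cases hP : P a = true
    · rw [if_pos hP, Nat.testBit_or, testBit_one_shiftLeft, Bool.or_eq_true, decide_eq_true_eq]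
      constructor
      · rintro ((h | h) | ⟨b, hb, h⟩)
        · exact Or.inl h
        · exact Or.inr ⟨a, List.mem_cons_self, hP, h⟩
        · exact Or.inr ⟨b, List.mem_cons_of_mem _ hb, h⟩
      · rintro (h | ⟨b, hb, h⟩)
        · exact Or.inl (Or.inl h)
        · rcases List.mem_cons.1 hb with rfl | hb
          · exact Or.inl (Or.inr h.2)
          · exact Or.inr ⟨b, hb, h⟩
    · rw [if_neg hP]
      constructor
      · rintro (h | ⟨b, hb, h⟩)
        · exact Or.inl h
        · exact Or.inr ⟨b, List.mem_cons_of_mem _ hb, h⟩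
      · rintro (h | ⟨b, hb, h⟩)
        · exact Or.inl h
        · rcases List.mem_cons.1 hb with rfl | hb
          · exact absurd h.1 hP
          · exact Or.inr ⟨b, hb, h⟩

/-- The orbit of the point of index `p` under the listed tables fixing the points of `F`, as a mask. -/
def orbM (E : List (List Nat)) (F p : Nat) : Nat :=
  E.foldl (fun m T => if fixesB T F = true then m ||| (1 <<< T.getD p 0) else m) 0

theorem testBit_orbM (E : List (List Nat)) (F p i : Nat) :
    (orbM E F p).testBit i = true ↔ ∃ T ∈ E, fixesB T F = true ∧ T.getD p 0 = i := by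
  rw [orbM, testBit_foldl_or]
  simp

/-- The points outside `Fx` whose orbit has `s` elements, as a mask. -/
def psiM (E : List (List Nat)) (F Fx s : Nat) : Nat :=
  (List.range 24).foldl
    (fun m j => if (popc 24 (orbM E F j) == s && !Fx.testBit j) = true then m ||| (1 <<< id j) else m) 0

theorem testBit_psiM (E : List (List Nat)) (F Fx s : Nat) {i : Nat} (hi : i < 24) :
    (psiM E F Fx s).testBit i = true ↔ popc 24 (orbM E F i) = s ∧ Fx.testBit i = false := by
  rw [psiM, testBit_foldl_or]
  simp only [Nat.zero_testBit, Bool.false_eq_true, false_or, List.mem_range, id, Bool.and_eq_true,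
    beq_iff_eq, Bool.not_eq_true']
  constructor
  · rintro ⟨a, -, h, rfl⟩; exact h
  · intro h; exact ⟨i, hi, h, rfl⟩

theorem fixesB_of_FixOn {T : List Nat} (hT : validTab T = true) {F : Nat} (h : FixOn (permOf T) F) :
    fixesB T F = true := by
  simp only [fixesB, List.all_eq_true, List.mem_range, Bool.or_eq_true, Bool.not_eq_true', beq_iff_eq]
  intro i hi
  by_cases hF : F.testBit i = true
  · right
    have := h (pt i) (by rw [idx_pt hi]; exact hF)
    rw [permOf_apply hT] at this
    have e := congrArg idx this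
    rwa [idx_tabFun hT, idx_pt hi] at e
  · left; simpa using hF

theorem FixOn_permOf {T : List Nat} (hT : validTab T = true) {F : Nat} (h : fixesB T F = true) :
    FixOn (permOf T) F := by
  intro p hp
  rw [permOf_apply hT]
  exact FixOn_tabFun h p hp

/-! ## Orbits of the stabilizers -/

section

variable {C E cay W : List (List Nat)}

theorem mem_orbit_iff (hg : groupOK C E cay W = true) (F : Nat) {p : Nat} (hp : p < 24) (q : GolayPt) :
    (∃ s ∈ genGroup C ⊓ fixSub F, s (pt p) = q) ↔ (orbM E F p).testBit (idx q) = true := by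
  have hset := genGroup_eq hg
  obtain ⟨-, hE⟩ := valid_of_groupOK hg
  rw [testBit_orbM]
  constructor
  · rintro ⟨s, ⟨hs, hsF⟩, rfl⟩
    have hs' : s ∈ permSet E := by rw [← hset]; exact hs
    obtain ⟨T, hT, rfl⟩ := hs'
    refine ⟨T, hT, fixesB_of_FixOn (hE T hT) hsF, ?_⟩
    rw [permOf_apply (hE T hT), idx_tabFun (hE T hT), idx_pt hp]
  · rintro ⟨T, hT, hfix, e⟩
    have hmem : permOf T ∈ genGroup C := by
      have : permOf T ∈ permSet E := ⟨T, hT, rfl⟩
      rw [← hset] at this; exact this
    refine ⟨permOf T, ⟨hmem, FixOn_permOf (hE T hT) hfix⟩, ?_⟩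
    rw [permOf_apply (hE T hT), tabFun, idx_pt hp, e, pt_idx]

/-- An element normalizing the stabilizer preserves the sizes of its orbits. -/
theorem popc_orbM_apply (hg : groupOK C E cay W = true) (F : Nat) {x : Equiv.Perm GolayPt}
    (hx : x ∈ Subgroup.normalizer ((genGroup C ⊓ fixSub F : Subgroup (Equiv.Perm GolayPt)) :
      Set (Equiv.Perm GolayPt))) (q : GolayPt) :
    popc 24 (orbM E F (idx (x q))) = popc 24 (orbM E F (idx q)) := by
  classical
  rw [← card_filter_testBit, ← card_filter_testBit]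
  have himg : (Finset.univ.filter fun u : GolayPt => (orbM E F (idx (x q))).testBit (idx u) = true) =
      (Finset.univ.filter fun u : GolayPt => (orbM E F (idx q)).testBit (idx u) = true).image x := by
    ext u
    simp only [Finset.mem_filter, Finset.mem_univ, true_and, Finset.mem_image]
    rw [← mem_orbit_iff hg F (idx_lt (x q)) u, pt_idx]
    constructor
    · rintro ⟨s, hs, rfl⟩
      refine ⟨(x⁻¹ * s * x) q, ?_, by simp⟩
      rw [← mem_orbit_iff hg F (idx_lt q), pt_idx]
      exact ⟨x⁻¹ * s * x, (Subgroup.mem_normalizer_iff''.1 hx s).1 hs, rfl⟩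
    · rintro ⟨v, hv, rfl⟩
      rw [← mem_orbit_iff hg F (idx_lt q), pt_idx] at hv
      obtain ⟨s, hs, rfl⟩ := hv
      exact ⟨x * s * x⁻¹, (Subgroup.mem_normalizer_iff.1 hx s).1 hs, by simp⟩
  rw [himg, Finset.card_image_of_injective _ x.injective]

/-- The class of the elements of order `r` of `H` normalizing the stabilizer of the points of `F` in the
group and fixing the points of `Fx`. -/
def XC (H S : Subgroup (Equiv.Perm GolayPt)) (r : ℕ) (F Fx : Nat) : Set (Equiv.Perm GolayPt) :=
  {x | x ∈ H ∧ orderOf x = r ∧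
    x ∈ Subgroup.normalizer ((S ⊓ fixSub F : Subgroup (Equiv.Perm GolayPt)) : Set (Equiv.Perm GolayPt)) ∧
    FixOn x Fx}

theorem psi_apply (hg : groupOK C E cay W = true) {F Fx : Nat} (s : Nat) {x : Equiv.Perm GolayPt}
    (hx : x ∈ Subgroup.normalizer ((genGroup C ⊓ fixSub F : Subgroup (Equiv.Perm GolayPt)) :
      Set (Equiv.Perm GolayPt))) (hfix : FixOn x Fx) {q : GolayPt}
    (hq : (psiM E F Fx s).testBit (idx q) = true) : (psiM E F Fx s).testBit (idx (x q)) = true := by
  rw [testBit_psiM E F Fx s (idx_lt _)] at hq ⊢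
  refine ⟨by rw [popc_orbM_apply hg F hx q]; exact hq.1, ?_⟩
  by_contra hne
  have h1 : Fx.testBit (idx (x q)) = true := by simpa using hne
  have h2 : x (x q) = x q := hfix _ h1
  have h3 : x q = q := x.injective h2
  rw [h3, hq.2] at h1
  exact Bool.noConfusion h1

/-- Rule: at most two points outside `Fx` with orbits of a given size are fixed by `x`. -/
theorem rule_fix {H : Subgroup (Equiv.Perm GolayPt)} (hg : groupOK C E cay W = true) {r : ℕ}
    (hr2 : r % 2 = 1) {F Fx : Nat} {x : Equiv.Perm GolayPt} (hx : x ∈ XC H (genGroup C) r F Fx) (s : Nat)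
    (hΨ : popc 24 (psiM E F Fx s) ≤ 2) : x ∈ XC H (genGroup C) r F (Fx ||| psiM E F Fx s) := by
  classical
  obtain ⟨hxH, hord, hnorm, hfix⟩ := hx
  refine ⟨hxH, hord, hnorm, FixOn_or_iff.2 ⟨hfix, ?_⟩⟩
  intro q hq
  by_contra hne
  have hxq := psi_apply hg s hnorm hfix hq
  have hxxq := psi_apply hg s hnorm hfix hxq
  rw [← card_filter_testBit] at hΨ
  have hsub : ({q, x q} : Finset GolayPt) ⊆
      Finset.univ.filter fun u : GolayPt => (psiM E F Fx s).testBit (idx u) = true := by
    intro u hu
    rw [Finset.mem_insert, Finset.mem_singleton] at hu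
    rw [Finset.mem_filter]
    rcases hu with rfl | rfl
    · exact ⟨Finset.mem_univ _, hq⟩
    · exact ⟨Finset.mem_univ _, hxq⟩
  have hcard : ({q, x q} : Finset GolayPt).card = 2 := Finset.card_pair (fun h => hne h.symm)
  have heq := Finset.eq_of_subset_of_card_le hsub (by rw [hcard]; exact hΨ)
  have hmem : x (x q) ∈ ({q, x q} : Finset GolayPt) := by
    rw [heq, Finset.mem_filter]; exact ⟨Finset.mem_univ _, hxxq⟩
  rw [Finset.mem_insert, Finset.mem_singleton] at hmem
  have h2 : x (x q) = q := by
    rcases hmem with h | h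
    · exact h
    · exact absurd (x.injective h) hne
  have hpow : ∀ m : ℕ, (x ^ (2 * m)) q = q := by
    intro m
    induction m with
    | zero => simp
    | succ m ih =>
      rw [Nat.mul_succ, pow_add, Equiv.Perm.mul_apply, pow_two, Equiv.Perm.mul_apply, h2, ih]
  have h1 : x ^ r = 1 := by rw [← hord]; exact pow_orderOf_eq_one x
  have hr : r = 2 * (r / 2) + 1 := by omega
  have h3 : (x ^ r) q = x q := by
    rw [hr, pow_succ, Equiv.Perm.mul_apply]
    have := hpow (r / 2)
    rw [← Equiv.Perm.mul_apply, ← pow_succ, pow_succ', Equiv.Perm.mul_apply, this]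
  rw [h1] at h3
  exact hne h3.symm

/-- Check for the extension rule: the set of the points outside `Fx` with orbits of size `s` has a power
of two elements, is covered by the orbits of the points of `R`, and `Fx` is invariant under the stabilizer. -/
def extOK (E : List (List Nat)) (F Fx s : Nat) (R : List Nat) : Bool :=
  [1, 2, 4, 8, 16].contains (popc 24 (psiM E F Fx s)) && R.all (fun p => decide (p < 24)) &&
    (List.range 24).all (fun j => !(psiM E F Fx s).testBit j || R.any (fun p => (orbM E F p).testBit j)) &&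
    E.all (fun T => !fixesB T F || pullMask T Fx == Fx)

/-- Rule: `x` fixes a point outside `Fx` with an orbit of size `s`; up to conjugation it is one of the
points of `R`. -/
theorem rule_ext {H : Subgroup (Equiv.Perm GolayPt)} (hg : groupOK C E cay W = true)
    (hSH : genGroup C ≤ H) {r : ℕ} (hr : r.Prime) (hr2 : r % 2 = 1) {F Fx : Nat}
    {x : Equiv.Perm GolayPt} (hx : x ∈ XC H (genGroup C) r F Fx) (s : Nat) (R : List Nat)
    (hR : extOK E F Fx s R = true) :
    ∃ p ∈ R, ∃ x', x' ∈ XC H (genGroup C) r (F ||| 1 <<< p) (Fx ||| 1 <<< p) := by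
  classical
  obtain ⟨hxH, hord, hnorm, hfix⟩ := hx
  obtain ⟨-, hE⟩ := valid_of_groupOK hg
  have hset := genGroup_eq hg
  simp only [extOK, Bool.and_eq_true, List.all_eq_true, List.mem_range, Bool.or_eq_true,
    Bool.not_eq_true', List.any_eq_true, decide_eq_true_eq, beq_iff_eq, List.contains_iff_mem] at hR
  obtain ⟨⟨⟨hpow, hR24⟩, hcov⟩, hinv⟩ := hR
  -- a fixed point of `x` in the set
  have hiff : ∀ q : GolayPt, (psiM E F Fx s).testBit (idx (x q)) = true ↔
      (psiM E F Fx s).testBit (idx q) = true := by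
    intro q
    constructor
    · intro h
      have := psi_apply hg s (inv_mem hnorm) hfix.inv h
      simpa using this
    · exact psi_apply hg s hnorm hfix
  let σ : Equiv.Perm {q : GolayPt // (psiM E F Fx s).testBit (idx q) = true} := x.subtypePerm hiff
  have hσ : σ ^ r ^ 1 = 1 := by
    rw [pow_one]
    apply Equiv.ext
    intro a
    apply Subtype.ext
    have h1 : x ^ r = 1 := by rw [← hord]; exact pow_orderOf_eq_one x
    simp [σ, Equiv.Perm.subtypePerm_pow, h1]
  have hcardΨ : Fintype.card {q : GolayPt // (psiM E F Fx s).testBit (idx q) = true} =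
      popc 24 (psiM E F Fx s) := by
    rw [Fintype.card_subtype, card_filter_testBit]
  have hndvd : ¬ r ∣ Fintype.card {q : GolayPt // (psiM E F Fx s).testBit (idx q) = true} := by
    rw [hcardΨ]
    intro hdvd
    have h2 : r ∣ 2 ^ 4 := by
      have : popc 24 (psiM E F Fx s) ∣ 2 ^ 4 := by
        simp only [List.mem_cons, List.not_mem_nil, or_false] at hpow
        rcases hpow with h | h | h | h | h <;> rw [h] <;> decide
      exact hdvd.trans this
    have h3 := (Nat.prime_dvd_prime_iff_eq hr Nat.prime_two).1 (hr.dvd_of_dvd_pow h2)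
    omega
  have : Fact r.Prime := ⟨hr⟩
  obtain ⟨a, ha⟩ := Equiv.Perm.exists_fixed_point_of_prime hndvd hσ
  have hxq : x a.1 = a.1 := congrArg Subtype.val ha
  -- the orbit representative
  obtain ⟨p, hpR, hp⟩ := (hcov (idx a.1) (idx_lt _)).resolve_left (by rw [a.2]; simp)
  have hp24 : p < 24 := hR24 p hpR
  obtain ⟨t, ht, htq⟩ := (mem_orbit_iff hg F hp24 a.1).2 hp
  refine ⟨p, hpR, t⁻¹ * x * t, ?_, ?_, ?_, ?_⟩
  · exact mul_mem (mul_mem (inv_mem (hSH ht.1)) hxH) (hSH ht.1)
  · have hsc : SemiconjBy t⁻¹ x (t⁻¹ * x * t) := by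
      show t⁻¹ * x = t⁻¹ * x * t * t⁻¹
      group
    rw [← hsc.orderOf_eq, hord]
  · have hx' : t⁻¹ * x * t ∈ Subgroup.normalizer
        ((genGroup C ⊓ fixSub F : Subgroup (Equiv.Perm GolayPt)) : Set (Equiv.Perm GolayPt)) :=
      mul_mem (mul_mem (inv_mem (Subgroup.le_normalizer ht)) hnorm) (Subgroup.le_normalizer ht)
    have hfixp : (t⁻¹ * x * t) (pt p) = pt p := by
      rw [Equiv.Perm.mul_apply, Equiv.Perm.mul_apply, htq, hxq, ← htq]; simp
    apply Subgroup.mem_normalizer_fintype
    intro n hn
    obtain ⟨hn1, hn2⟩ := hn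
    have hn2' := (FixOn_or_single_iff hp24).1 hn2
    have h1 := (Subgroup.mem_normalizer_iff.1 hx' n).1 ⟨hn1, hn2'.1⟩
    refine ⟨h1.1, (FixOn_or_single_iff hp24).2 ⟨h1.2, ?_⟩⟩
    have hinvp : (t⁻¹ * x * t)⁻¹ (pt p) = pt p := by
      rw [Equiv.Perm.inv_eq_iff_eq, hfixp]
    rw [Equiv.Perm.mul_apply, Equiv.Perm.mul_apply, hinvp, hn2'.2, hfixp]
  · apply (FixOn_or_single_iff hp24).2
    refine ⟨?_, ?_⟩
    · intro u hu
      have ht' : t ∈ permSet E := by rw [← hset]; exact ht.1
      obtain ⟨T, hT, rfl⟩ := ht'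
      have hfb := fixesB_of_FixOn (hE T hT) ht.2
      have hpull : pullMask T Fx = Fx := by
        rcases hinv T hT with h | h
        · rw [hfb] at h; exact Bool.noConfusion h
        · exact h
      have hInv := Inv_tabFun (hE T hT) hpull
      have htu : Fx.testBit (idx (permOf T u)) = true := by
        rw [permOf_apply (hE T hT), hInv u]; exact hu
      rw [Equiv.Perm.mul_apply, Equiv.Perm.mul_apply, hfix _ htu]
      simp
    · rw [Equiv.Perm.mul_apply, Equiv.Perm.mul_apply, htq, hxq, ← htq]; simp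

/-- Rule: no element of odd prime order lies in a pointwise stabilizer which is a 2-group. -/
theorem rule_end {H S : Subgroup (Equiv.Perm GolayPt)} {r : ℕ} (hr : r.Prime) (hr2 : r % 2 = 1)
    {F Fx : Nat} {j : ℕ} (hcard : Nat.card ↥(H ⊓ fixSub Fx) = 2 ^ j) {x : Equiv.Perm GolayPt}
    (hx : x ∈ XC H S r F Fx) : False := by
  obtain ⟨hxH, hord, -, hfix⟩ := hx
  have hmem : x ∈ H ⊓ fixSub Fx := ⟨hxH, hfix⟩
  have hdvd := Subgroup.orderOf_dvd_natCard _ hmem
  rw [hord, hcard] at hdvd
  have h3 := (Nat.prime_dvd_prime_iff_eq hr Nat.prime_two).1 (hr.dvd_of_dvd_pow hdvd)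
  omega

/-- If no element of odd prime order of `H` normalizes the group, then the group is self-normalizing
in `H`, provided it has the order of a Sylow 2-subgroup. -/
theorem normalizer_le {H : Subgroup (Equiv.Perm GolayPt)} (hg : groupOK C E cay W = true)
    (hSH : genGroup C ≤ H) {k m : ℕ} (hcard : E.length = 2 ^ k) (hH : Nat.card H = 2 ^ k * m)
    (hm : m % 2 = 1)
    (hno : ∀ r : ℕ, r.Prime → r % 2 = 1 → ∀ x, x ∉ XC H (genGroup C) r 0 0) :
    ∀ g ∈ H, g ∈ Subgroup.normalizer (genGroup C : Set (Equiv.Perm GolayPt)) → g ∈ genGroup C := by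
  set N : Subgroup (Equiv.Perm GolayPt) :=
    Subgroup.normalizer (genGroup C : Set (Equiv.Perm GolayPt)) ⊓ H with hN
  have hSN : genGroup C ≤ N := le_inf Subgroup.le_normalizer hSH
  have hprime : ∀ {d : ℕ}, d.Prime → d ∣ Nat.card N → d = 2 := by
    intro d hd hdvd
    by_contra hne
    have hd2 : d % 2 = 1 := by
      rcases hd.eq_two_or_odd with h | h
      · exact absurd h hne
      · exact h
    have : Fact d.Prime := ⟨hd⟩
    obtain ⟨x, hx⟩ := exists_prime_orderOf_dvd_card' d hdvd
    apply hno d hd hd2 x.1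
    refine ⟨x.2.2, by rw [Subgroup.orderOf_coe]; exact hx, ?_, ?_⟩
    · rw [fixSub_zero, inf_top_eq]; exact x.2.1
    · intro p hp
      rw [Nat.zero_testBit] at hp
      exact Bool.noConfusion hp
  have hpow := Nat.eq_prime_pow_of_unique_prime_dvd (Nat.card_pos (α := N)).ne' hprime
  have hdvd : Nat.card N ∣ 2 ^ k * m := hH ▸ Subgroup.card_dvd_of_le (inf_le_right : N ≤ H)
  rw [hpow] at hdvd
  have hcop : Nat.Coprime (2 ^ (Nat.card N).primeFactorsList.length) m :=
    Nat.Coprime.pow_left _ ((Nat.Prime.coprime_iff_not_dvd Nat.prime_two).2 (by omega))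
  have hdvd2 := hcop.dvd_of_dvd_mul_right hdvd
  have hle : Nat.card N ≤ Nat.card (genGroup C) := by
    rw [card_genGroup hg, hcard, hpow]
    exact Nat.le_of_dvd (by positivity) hdvd2
  have hEq : genGroup C = N := Subgroup.eq_of_le_of_card_ge hSN hle
  intro g hgH hgN
  rw [hEq]
  exact ⟨hgN, hgH⟩

end

end Cfsg.Agent.Helper91.Syl
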