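/-
Helper91: explicit 2-subgroups of `Cfsg.M24` given by checked lists of permutation tables.
Part D: transfer to the Sylow 2-subgroups of a subgroup `H`, and the final criteria.
-/
import Cfsg.Agent.Helper91.SylC
import Cfsg.Agent.Helper88.SimpleCrit2

set_option autoImplicit false

namespace Cfsg.Agent.Helper91.Syl

open Cfsg Cfsg.Agent.Helper91

section

variable {Γ : Type*} [Group Γ] [Finite Γ]

theorem factorization_two_aux {k m : ℕ} (hm : m % 2 = 1) : (2 ^ k * m).factorization 2 = k := by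
  have hm0 : m ≠ 0 := by omega
  rw [Nat.factorization_mul (by positivity) hm0, Nat.Prime.factorization_pow Nat.prime_two]
  have : m.factorization 2 = 0 := Nat.factorization_eq_zero_of_not_dvd (by omega)
  simp [this]

theorem card_subgroupOf_of_le {H S0 : Subgroup Γ} (hS0H : S0 ≤ H) :
    Nat.card (S0.subgroupOf H) = Nat.card S0 :=
  Nat.card_congr (Subgroup.subgroupOfEquivOfLe hS0H).toEquiv

/-- The Sylow 2-subgroup of `H` given by a subgroup `S0` of order `2 ^ k`. -/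
noncomputable def sylOf {H S0 : Subgroup Γ} (hS0H : S0 ≤ H) {k m : ℕ} (hcardS : Nat.card S0 = 2 ^ k)
    (hcardH : Nat.card H = 2 ^ k * m) (hm : m % 2 = 1) : Sylow 2 ↥H :=
  haveI : Fact (Nat.Prime 2) := ⟨Nat.prime_two⟩
  Sylow.ofCard (S0.subgroupOf H) (by
    rw [card_subgroupOf_of_le hS0H, hcardS, hcardH, factorization_two_aux hm])

theorem coe_sylOf {H S0 : Subgroup Γ} (hS0H : S0 ≤ H) {k m : ℕ} (hcardS : Nat.card S0 = 2 ^ k)
    (hcardH : Nat.card H = 2 ^ k * m) (hm : m % 2 = 1) :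
    ((sylOf hS0H hcardS hcardH hm : Sylow 2 ↥H) : Subgroup ↥H) = S0.subgroupOf H := rfl

theorem normalizer_sylOf {H S0 : Subgroup Γ} (hS0H : S0 ≤ H) {k m : ℕ} (hcardS : Nat.card S0 = 2 ^ k)
    (hcardH : Nat.card H = 2 ^ k * m) (hm : m % 2 = 1)
    (hnorm : ∀ g ∈ H, g ∈ Subgroup.normalizer (S0 : Set Γ) → g ∈ S0) :
    ∀ g ∈ Subgroup.normalizer (((sylOf hS0H hcardS hcardH hm : Sylow 2 ↥H) : Subgroup ↥H) : Set ↥H),
      g ∈ ((sylOf hS0H hcardS hcardH hm : Sylow 2 ↥H) : Subgroup ↥H) := by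
  intro g hg
  rw [coe_sylOf] at hg ⊢
  rw [Subgroup.mem_subgroupOf]
  apply hnorm _ g.2
  apply Subgroup.mem_normalizer_fintype
  intro n hn
  have h1 : (⟨n, hS0H hn⟩ : ↥H) ∈ S0.subgroupOf H := by rw [Subgroup.mem_subgroupOf]; exact hn
  have h2 := (Subgroup.mem_normalizer_iff.1 hg _).1 h1
  rw [Subgroup.mem_subgroupOf] at h2
  exact h2

/-- The hypotheses of the simplicity criterion, for the Sylow 2-subgroup given by `S0`. -/
theorem simpleHyp_sylOf {H S0 : Subgroup Γ} (hS0H : S0 ≤ H) {k m : ℕ} (hcardS : Nat.card S0 = 2 ^ k)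
    (hk : k ≠ 0) (hcardH : Nat.card H = 2 ^ k * m) (hm : m % 2 = 1)
    (hsc : ∀ T : Subgroup Γ, T ≤ S0 → (∀ x ∈ T, ∀ g ∈ H, g * x * g⁻¹ ∈ S0 → g * x * g⁻¹ ∈ T) →
      T = ⊥ ∨ T = S0)
    (hnorm : ∀ g ∈ H, g ∈ Subgroup.normalizer (S0 : Set Γ) → g ∈ S0) :
    Helper88.SimpleHyp 2 (sylOf hS0H hcardS hcardH hm) := by
  refine ⟨?_, ?_, ?_⟩
  · rw [coe_sylOf]
    intro hb
    have h1 : Nat.card (S0.subgroupOf H) = 1 := by rw [hb]; exact Subgroup.card_bot
    rw [card_subgroupOf_of_le hS0H, hcardS] at h1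
    have h2 : 2 ^ 1 ≤ 2 ^ k := Nat.pow_le_pow_right (by norm_num) (by omega)
    omega
  · intro T hT hfus
    rw [coe_sylOf] at hT hfus ⊢
    have hinj : Function.Injective H.subtype := H.subtype_injective
    have hTS : T.map H.subtype ≤ S0 := by
      rintro _ ⟨y, hy, rfl⟩
      exact Subgroup.mem_subgroupOf.1 (hT hy)
    have h := hsc (T.map H.subtype) hTS (by
      rintro _ ⟨y, hy, rfl⟩ g hgH hgS
      have h1 : (⟨g, hgH⟩ : ↥H) * y * (⟨g, hgH⟩ : ↥H)⁻¹ ∈ S0.subgroupOf H := by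
        rw [Subgroup.mem_subgroupOf]; exact hgS
      exact ⟨_, hfus y hy ⟨g, hgH⟩ h1, rfl⟩)
    rcases h with h | h
    · left
      exact (Subgroup.map_eq_bot_iff_of_injective T hinj).1 h
    · right
      have h2 := congrArg (Subgroup.comap H.subtype) h
      rw [Subgroup.comap_map_eq_self_of_injective hinj] at h2
      exact h2
  · intro g hg
    have hgS := normalizer_sylOf hS0H hcardS hcardH hm hnorm g hg
    exact ⟨g, hgS, fun x _ => rfl⟩

/-- The hypotheses of the simplicity criterion, for all the Sylow 2-subgroups. -/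
theorem simpleHyp_all {H S0 : Subgroup Γ} (hS0H : S0 ≤ H) {k m : ℕ} (hcardS : Nat.card S0 = 2 ^ k)
    (hk : k ≠ 0) (hcardH : Nat.card H = 2 ^ k * m) (hm : m % 2 = 1)
    (hsc : ∀ T : Subgroup Γ, T ≤ S0 → (∀ x ∈ T, ∀ g ∈ H, g * x * g⁻¹ ∈ S0 → g * x * g⁻¹ ∈ T) →
      T = ⊥ ∨ T = S0)
    (hnorm : ∀ g ∈ H, g ∈ Subgroup.normalizer (S0 : Set Γ) → g ∈ S0) (S : Sylow 2 ↥H) :
    Helper88.SimpleHyp 2 S := by
  have : Fact (Nat.Prime 2) := ⟨Nat.prime_two⟩
  obtain ⟨g, rfl⟩ := MulAction.exists_smul_eq ↥H (sylOf hS0H hcardS hcardH hm) S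
  exact (simpleHyp_sylOf hS0H hcardS hk hcardH hm hsc hnorm).smul g

/-- All the Sylow 2-subgroups are self-normalizing if one of them is. -/
theorem normalizer_eq_all {H S0 : Subgroup Γ} (hS0H : S0 ≤ H) {k m : ℕ} (hcardS : Nat.card S0 = 2 ^ k)
    (hcardH : Nat.card H = 2 ^ k * m) (hm : m % 2 = 1)
    (hnorm : ∀ g ∈ H, g ∈ Subgroup.normalizer (S0 : Set Γ) → g ∈ S0) (S : Sylow 2 ↥H) :
    Subgroup.normalizer ((S : Subgroup ↥H) : Set ↥H) = (S : Subgroup ↥H) := by
  have : Fact (Nat.Prime 2) := ⟨Nat.prime_two⟩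
  set P : Sylow 2 ↥H := sylOf hS0H hcardS hcardH hm with hP
  have hPn : Subgroup.normalizer ((P : Subgroup ↥H) : Set ↥H) = (P : Subgroup ↥H) :=
    le_antisymm (normalizer_sylOf hS0H hcardS hcardH hm hnorm) Subgroup.le_normalizer
  have h1 : (Subgroup.normalizer ((S : Subgroup ↥H) : Set ↥H)).index =
      (Subgroup.normalizer ((P : Subgroup ↥H) : Set ↥H)).index :=
    (Sylow.card_eq_index_normalizer S).symm.trans (Sylow.card_eq_index_normalizer P)
  rw [hPn] at h1
  have h2 : Nat.card (S : Subgroup ↥H) = Nat.card (P : Subgroup ↥H) := Sylow.card_eq_multiplicity S ▸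
    (Sylow.card_eq_multiplicity P).symm
  have h3 := Subgroup.card_mul_index (Subgroup.normalizer ((S : Subgroup ↥H) : Set ↥H))
  have h4 := Subgroup.card_mul_index (P : Subgroup ↥H)
  rw [h1] at h3
  have hidx : (P : Subgroup ↥H).index ≠ 0 := Subgroup.index_ne_zero_of_finite
  have h5 : Nat.card (Subgroup.normalizer ((S : Subgroup ↥H) : Set ↥H)) = Nat.card (P : Subgroup ↥H) :=
    Nat.eq_of_mul_eq_mul_right (Nat.pos_of_ne_zero hidx) (h3.trans h4.symm)
  exact (Subgroup.eq_of_le_of_card_ge Subgroup.le_normalizer (by rw [h5, h2])).symm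

/-- Transport along an equality of subgroups: simplicity of the fusion system. -/
theorem fus_simple_of_eq {K H : Subgroup Γ} (hK : K = H)
    (hall : ∀ S : Sylow 2 ↥H, Helper88.SimpleHyp 2 S) (S : Sylow 2 ↥K) :
    (groupFusionSystem (S : Subgroup ↥K)).IsSimple 2 := by
  subst hK
  have : Fact (Nat.Prime 2) := ⟨Nat.prime_two⟩
  exact Helper88.isSimple_of_simpleHyp S (hall S)

/-- Transport along an equality of subgroups: self-normalizing Sylow 2-subgroups. -/
theorem normalizer_eq_of_eq {K H : Subgroup Γ} (hK : K = H)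
    (hall : ∀ S : Sylow 2 ↥H, Subgroup.normalizer ((S : Subgroup ↥H) : Set ↥H) = (S : Subgroup ↥H))
    (S : Sylow 2 ↥K) : Subgroup.normalizer ((S : Subgroup ↥K) : Set ↥K) = (S : Subgroup ↥K) := by
  subst hK
  exact hall S

end

/-! ## Variants of the rules with explicit masks -/

section

variable {C E cay W : List (List Nat)}

theorem rule_fix' {H : Subgroup (Equiv.Perm GolayPt)} (hg : groupOK C E cay W = true) {r : ℕ}
    (hr2 : r % 2 = 1) {F Fx : Nat} {x : Equiv.Perm GolayPt} (hx : x ∈ XC H (genGroup C) r F Fx)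
    (s m Fx' : Nat) (hm : psiM E F Fx s = m) (hpop : popc 24 m ≤ 2) (hFx : Fx ||| m = Fx') :
    x ∈ XC H (genGroup C) r F Fx' := by
  subst hm; subst hFx
  exact rule_fix hg hr2 hx s hpop

/-- The check of the extension rule, with the mask of the points given. -/
def extOKm (E : List (List Nat)) (F Fx m : Nat) (R : List Nat) : Bool :=
  [1, 2, 4, 8, 16].contains (popc 24 m) && R.all (fun p => decide (p < 24)) &&
    (List.range 24).all (fun j => !m.testBit j || R.any (fun p => (orbM E F p).testBit j)) &&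
    E.all (fun T => !fixesB T F || pullMask T Fx == Fx)

theorem extOK_eq (E : List (List Nat)) (F Fx s : Nat) (R : List Nat) :
    extOK E F Fx s R = extOKm E F Fx (psiM E F Fx s) R := rfl

theorem rule_ext1 {H : Subgroup (Equiv.Perm GolayPt)} (hg : groupOK C E cay W = true)
    (hSH : genGroup C ≤ H) {r : ℕ} (hr : r.Prime) (hr2 : r % 2 = 1) {F Fx : Nat}
    {x : Equiv.Perm GolayPt} (hx : x ∈ XC H (genGroup C) r F Fx) (s m p F' Fx' : Nat)
    (hm : psiM E F Fx s = m) (hR : extOKm E F Fx m [p] = true)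
    (hF : F ||| 1 <<< p = F') (hFx : Fx ||| 1 <<< p = Fx') :
    ∃ x', x' ∈ XC H (genGroup C) r F' Fx' := by
  subst hm; subst hF; subst hFx
  obtain ⟨q, hq, x', hx'⟩ := rule_ext hg hSH hr hr2 hx s [p] (by rw [extOK_eq]; exact hR)
  rw [List.mem_singleton] at hq
  subst hq
  exact ⟨x', hx'⟩

theorem rule_ext2 {H : Subgroup (Equiv.Perm GolayPt)} (hg : groupOK C E cay W = true)
    (hSH : genGroup C ≤ H) {r : ℕ} (hr : r.Prime) (hr2 : r % 2 = 1) {F Fx : Nat}
    {x : Equiv.Perm GolayPt} (hx : x ∈ XC H (genGroup C) r F Fx) (s m p q F1 Fx1 F2 Fx2 : Nat)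
    (hm : psiM E F Fx s = m) (hR : extOKm E F Fx m [p, q] = true)
    (hF1 : F ||| 1 <<< p = F1) (hFx1 : Fx ||| 1 <<< p = Fx1)
    (hF2 : F ||| 1 <<< q = F2) (hFx2 : Fx ||| 1 <<< q = Fx2) :
    (∃ x', x' ∈ XC H (genGroup C) r F1 Fx1) ∨ (∃ x', x' ∈ XC H (genGroup C) r F2 Fx2) := by
  subst hm; subst hF1; subst hFx1; subst hF2; subst hFx2
  obtain ⟨t, ht, x', hx'⟩ := rule_ext hg hSH hr hr2 hx s [p, q] (by rw [extOK_eq]; exact hR)
  rw [List.mem_cons, List.mem_singleton] at ht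
  rcases ht with rfl | rfl
  · exact Or.inl ⟨x', hx'⟩
  · exact Or.inr ⟨x', hx'⟩

theorem rule_end' {Fg : Nat} {Lg : List Nat} {S : Subgroup (Equiv.Perm GolayPt)} {r : ℕ} (hr : r.Prime)
    (hr2 : r % 2 = 1) {F Fx : Nat} (N j : ℕ) (hN : Fg ||| Fx = N)
    (hcard : Nat.card ↥(stabSub N Lg) = 2 ^ j) {x : Equiv.Perm GolayPt}
    (hx : x ∈ XC (stabSub Fg Lg) S r F Fx) : False := by
  subst hN
  exact rule_end hr hr2 (by rw [stabSub_inf_fixSub]; exact hcard) hx

end

/-! ## The criteria for the explicit groups -/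

section

variable {Fg : Nat} {Lg : List Nat} {C E cay W : List (List Nat)} {steps : List FStep} {k m : ℕ}

/-- The full data: the group `genGroup C` is a Sylow 2-subgroup of `stabSub Fg Lg`, it is generated by
fusion from its centre of order 2, and no element of odd prime order normalizes it. -/
structure SylData (Fg : Nat) (Lg : List Nat) (C E cay W : List (List Nat)) (steps : List FStep)
    (k m : ℕ) : Prop where
  hg : groupOK C E cay W = true
  hcard : E.length = 2 ^ k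
  hk : k ≠ 0
  hc : centOK C E = true
  hH : C.all (tabOK Fg Lg) = true
  hf : fusOK Fg Lg C steps = true
  hcardH : Nat.card (stabSub Fg Lg) = 2 ^ k * m
  hm : m % 2 = 1
  hno : ∀ r : ℕ, r.Prime → r % 2 = 1 → ∀ x, x ∉ XC (stabSub Fg Lg) (genGroup C) r 0 0

theorem SylData.simpleHyp (D : SylData Fg Lg C E cay W steps k m) (S : Sylow 2 ↥(stabSub Fg Lg)) :
    Helper88.SimpleHyp 2 S := by
  have hSH := genGroup_le_stabSub D.hH
  have hcardS : Nat.card (genGroup C) = 2 ^ k := by rw [card_genGroup D.hg, D.hcard]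
  exact simpleHyp_all hSH hcardS D.hk D.hcardH D.hm
    (fun T hTS hT => sc_sound D.hg D.hcard D.hc D.hH D.hf T hTS hT)
    (normalizer_le D.hg hSH D.hcard D.hcardH D.hm D.hno) S

theorem SylData.normalizer_eq (D : SylData Fg Lg C E cay W steps k m) (S : Sylow 2 ↥(stabSub Fg Lg)) :
    Subgroup.normalizer ((S : Subgroup ↥(stabSub Fg Lg)) : Set ↥(stabSub Fg Lg)) =
      (S : Subgroup ↥(stabSub Fg Lg)) := by
  have hSH := genGroup_le_stabSub D.hH
  have hcardS : Nat.card (genGroup C) = 2 ^ k := by rw [card_genGroup D.hg, D.hcard]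
  exact normalizer_eq_all hSH hcardS D.hcardH D.hm
    (normalizer_le D.hg hSH D.hcard D.hcardH D.hm D.hno) S

end

end Cfsg.Agent.Helper91.Syl
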