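/-
Helper91: explicit 2-subgroups of `Cfsg.M24` given by checked lists of permutation tables.
Part E: cheaper certificates for large groups (two-level lookups, checks by slices, certificates for the
centre); the multiplication table is then obtained abstractly.
-/
import Cfsg.Agent.Helper91.SylD

set_option autoImplicit false

namespace Cfsg.Agent.Helper91.Syl

open Cfsg Cfsg.Agent.Helper91

/-! ## Checks by slices -/

theorem all_of_slices {α : Type*} (L : List α) (P : α → Bool) (n k : Nat) (hk : L.length ≤ n * k)
    (h : ∀ i < k, ((L.drop (i * n)).take n).all P = true) : L.all P = true := by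
  rw [List.all_eq_true]
  intro x hx
  obtain ⟨j, hj, rfl⟩ := List.mem_iff_getElem.1 hx
  have hn : 0 < n := by
    rcases Nat.eq_zero_or_pos n with h0 | h0
    · subst h0; rw [Nat.zero_mul] at hk; omega
    · exact h0
  have hjk : j < n * k := lt_of_lt_of_le hj hk
  have hi : j / n < k := Nat.div_lt_of_lt_mul hjk
  have h1 := h (j / n) hi
  rw [List.all_eq_true] at h1
  apply h1
  have hdm := Nat.div_add_mod j n
  have hmod := Nat.mod_lt j hn
  have hmul : j / n * n = n * (j / n) := Nat.mul_comm _ _
  rw [List.mem_iff_getElem]
  refine ⟨j % n, ?_, ?_⟩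
  · rw [List.length_take, List.length_drop]
    omega
  · rw [List.getElem_take, List.getElem_drop]
    congr 1
    omega

/-- A slice of the check of the words. -/
def wordsSliceOK (C E W : List (List Nat)) (a n : Nat) : Bool :=
  (((E.zip W).drop a).take n).all (fun x => evalW C x.2 == x.1)

theorem wordsOK_of_slices {C E W : List (List Nat)} (n k : Nat) (hlen : W.length = E.length)
    (hk : E.length ≤ n * k) (h : ∀ i < k, wordsSliceOK C E W (i * n) n = true) : wordsOK C E W = true := by
  rw [wordsOK, Bool.and_eq_true, beq_iff_eq]
  refine ⟨hlen, all_of_slices _ _ n k ?_ h⟩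
  rw [List.length_zip, hlen, Nat.min_self]
  exact hk

/-! ## The centre, with a certificate -/

/-- Centre check with a certificate: for every listed table other than the identity and the first generator,
the index of a generator not commuting with it. -/
def centCertOK (C E : List (List Nat)) (cert : List Nat) : Bool :=
  (cert.length == E.length) && (E.zip cert).all (fun x => x.1 == idTab || x.1 == C.headD [] ||
    (decide (x.2 < C.length) && (comp (C.getD x.2 []) x.1 != comp x.1 (C.getD x.2 []))))

theorem centOK_of_cert {C E : List (List Nat)} {cert : List Nat} (h : centCertOK C E cert = true) :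
    centOK C E = true := by
  simp only [centCertOK, Bool.and_eq_true, beq_iff_eq, List.all_eq_true, Bool.or_eq_true,
    decide_eq_true_eq, bne_iff_ne] at h
  obtain ⟨hlen, hall⟩ := h
  rw [centOK, List.all_eq_true]
  intro e he
  obtain ⟨j, hj⟩ := mem_zip_of_length hlen he
  have := hall (e, j) hj
  simp only [Bool.or_eq_true, beq_iff_eq, List.any_eq_true, bne_iff_ne]
  rcases this with (h1 | h1) | ⟨hlt, hne⟩
  · exact Or.inl (Or.inl h1)
  · exact Or.inl (Or.inr h1)
  · right
    refine ⟨C.getD j [], ?_, hne⟩
    rw [List.getD_eq_getElem _ _ hlt]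
    exact List.getElem_mem hlt

/-! ## Closure, with two-level lookups -/

/-- Two-level lookup in a list of chunks of length `n`. -/
def lookC (chunks : List (List (List Nat))) (n q : Nat) : List Nat :=
  (chunks.getD (q / n) []).getD (q % n) []

theorem lookC_mem {chunks : List (List (List Nat))} {n q : Nat} (h : lookC chunks n q ≠ []) :
    lookC chunks n q ∈ chunks.flatten := by
  unfold lookC at h ⊢
  by_cases ha : q / n < chunks.length
  · rw [List.getD_eq_getElem _ _ ha] at h ⊢
    by_cases hb : q % n < (chunks[q / n]).length
    · rw [List.getD_eq_getElem _ _ hb]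
      exact List.mem_flatten.2 ⟨_, List.getElem_mem ha, List.getElem_mem hb⟩
    · rw [List.getD_eq_default _ _ (by omega)] at h
      exact absurd rfl h
  · have e : chunks.getD (q / n) [] = [] := List.getD_eq_default _ _ (by omega)
    rw [e] at h
    exact absurd (by simp) h

/-- Closure check for one generator `c`: the products of `c` with the listed tables are listed, at the
positions given by `col`. -/
def genClosedOK (c : List Nat) (chunks : List (List (List Nat))) (n : Nat) (col : List Nat) : Bool :=
  (col.length == chunks.flatten.length) &&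
    (chunks.flatten.zip col).all (fun x => lookC chunks n x.2 == comp c x.1)

theorem genClosed_spec {c : List Nat} {chunks : List (List (List Nat))} {n : Nat} {col : List Nat}
    (h : genClosedOK c chunks n col = true) (hne : ∀ T ∈ chunks.flatten, T ≠ []) :
    ∀ T ∈ chunks.flatten, comp c T ∈ chunks.flatten := by
  simp only [genClosedOK, Bool.and_eq_true, beq_iff_eq, List.all_eq_true] at h
  obtain ⟨hlen, hall⟩ := h
  intro T hT
  obtain ⟨q, hq⟩ := mem_zip_of_length hlen hT
  have h1 := hall (T, q) hq
  simp only at h1
  rw [← h1]
  apply lookC_mem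
  rw [h1]
  intro h0
  have h2 : (comp c T).length = T.length := by rw [comp, List.length_map]
  rw [h0] at h2
  exact hne T hT (List.length_eq_zero_iff.1 h2.symm)

theorem mem_zip_map_self {α β : Type*} (f : α → β) :
    ∀ (l : List α) (a : α) (b : β), (a, b) ∈ l.zip (l.map f) → b = f a
  | [], _, _, h => by simp at h
  | x :: l, a, b, h => by
    simp only [List.map_cons, List.zip_cons_cons, List.mem_cons, Prod.mk.injEq] at h
    rcases h with ⟨rfl, rfl⟩ | h
    · rfl
    · exact mem_zip_map_self f l a b h

/-- The group data, with an abstract multiplication table, from the closure under the generators. -/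
theorem groupOK_of_closed {C E W : List (List Nat)} (hC : C.all validTab = true)
    (hid : E.contains idTab = true) (hw : wordsOK C E W = true) (hinc : incB (E.map tcode) = true)
    (hcl : (∀ T ∈ E, validTab T = true) → ∀ c ∈ C, ∀ T ∈ E, comp c T ∈ E) :
    ∃ cay, groupOK C E cay W = true := by
  classical
  have hC' : ∀ c ∈ C, validTab c = true := List.all_eq_true.1 hC
  have hE : ∀ T ∈ E, validTab T = true := by
    intro T hT
    have hw' := hw
    simp only [wordsOK, Bool.and_eq_true, List.all_eq_true, beq_iff_eq] at hw'
    obtain ⟨w, hw2⟩ := mem_zip_of_length hw'.1 hT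
    have := hw'.2 (T, w) hw2
    simp only at this
    rw [← this]
    exact (evalW_spec hC' w).1
  have hcl' := hcl hE
  refine ⟨E.map (fun e => C.map (fun c => E.idxOf (comp c e))), ?_⟩
  rw [groupOK, hw, hinc, Bool.and_true, Bool.and_true]
  simp only [closedOK, Bool.and_eq_true, List.all_eq_true, beq_iff_eq]
  refine ⟨⟨⟨⟨⟨hC', hE⟩, hid⟩, by rw [List.length_map]⟩, ?_⟩, ?_⟩
  · intro row hrow
    rw [List.mem_map] at hrow
    obtain ⟨e, -, rfl⟩ := hrow
    rw [List.length_map]
  · rintro ⟨e, row⟩ hx ⟨c, q⟩ hy
    have hrow := mem_zip_map_self _ E e row hx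
    subst hrow
    have hq := mem_zip_map_self _ C c q hy
    subst hq
    have he : e ∈ E := (List.of_mem_zip hx).1
    have hc : c ∈ C := (List.of_mem_zip hy).1
    have hmem := hcl' c hc e he
    have hlt : E.idxOf (comp c e) < E.length := List.idxOf_lt_length_of_mem hmem
    show E.getD (E.idxOf (comp c e)) [] = comp c e
    rw [List.getD_eq_getElem _ _ hlt]
    exact List.getElem_idxOf hlt

/-- Closure under all the generators from the checks for each of them. -/
theorem closed_of_genClosed {C : List (List Nat)} {chunks : List (List (List Nat))} {n : Nat}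
    {cols : List (List Nat)}
    (h : ∀ i < C.length, genClosedOK (C.getD i []) chunks n (cols.getD i []) = true)
    (hE : ∀ T ∈ chunks.flatten, validTab T = true) :
    ∀ c ∈ C, ∀ T ∈ chunks.flatten, comp c T ∈ chunks.flatten := by
  intro c hc
  obtain ⟨i, hi, rfl⟩ := List.mem_iff_getElem.1 hc
  have := h i hi
  rw [List.getD_eq_getElem _ _ hi] at this
  apply genClosed_spec this
  intro T hT h0
  have := hE T hT
  rw [h0] at this
  exact absurd this (by decide)

/-! ## The masks of `psiM` from the list of the orbits -/

/-- The mask of `psiM`, computed from the list of the orbit masks. -/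
def psiL (orbs : List Nat) (Fx s : Nat) : Nat :=
  ((List.range 24).zip orbs).foldl
    (fun m x => if (popc 24 x.2 == s && !Fx.testBit x.1) = true then m ||| (1 <<< id x.1) else m) 0

theorem zip_map_self_eq {α β : Type*} (f : α → β) (l : List α) :
    l.zip (l.map f) = l.map (fun a => (a, f a)) := by
  induction l with
  | nil => rfl
  | cons a l ih => rw [List.map_cons, List.zip_cons_cons, ih, List.map_cons]

theorem psiM_eq_of_orbs (E : List (List Nat)) (F Fx s : Nat) (orbs : List Nat)
    (h : (List.range 24).map (orbM E F) = orbs) : psiM E F Fx s = psiL orbs Fx s := by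
  subst h
  rw [psiL, zip_map_self_eq, List.foldl_map]
  rfl

theorem range24_split : List.range 24 =
    List.range' 0 6 ++ (List.range' 6 6 ++ (List.range' 12 6 ++ List.range' 18 6)) := by decide

/-- The list of the 24 orbit masks from four lists of six. -/
theorem orbs_of_four {f : Nat → Nat} {l0 l1 l2 l3 : List Nat} (h0 : (List.range' 0 6).map f = l0)
    (h1 : (List.range' 6 6).map f = l1) (h2 : (List.range' 12 6).map f = l2)
    (h3 : (List.range' 18 6).map f = l3) : (List.range 24).map f = l0 ++ (l1 ++ (l2 ++ l3)) := by
  rw [range24_split, List.map_append, List.map_append, List.map_append, h0, h1, h2, h3]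

end Cfsg.Agent.Helper91.Syl
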