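/-
Helper91: a Sylow 2-subgroup of the Mathieu group M11 (as the subgroup `stabSub 1 [340831]` of the
permutations of the 24 points), given by the list of its 16 elements: data.
-/
import Cfsg.Agent.Helper91.SylD

set_option autoImplicit false
set_option maxRecDepth 100000

namespace Cfsg.Agent.Helper91.SylM11

open Cfsg Cfsg.Agent.Helper91 Cfsg.Agent.Helper91.Syl

/-- Generators: the central involution, then elements obtained by fusion. -/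
def C : List (List Nat) :=
  [[0, 13, 2, 18, 4, 17, 9, 15, 12, 6, 10, 14, 8, 1, 11, 7, 16, 5, 3, 19, 20, 21, 23, 22],
   [0, 1, 16, 9, 4, 5, 18, 11, 12, 3, 10, 7, 8, 13, 15, 14, 2, 17, 6, 21, 20, 19, 23, 22],
   [0, 12, 16, 18, 4, 22, 6, 15, 13, 9, 20, 11, 1, 8, 14, 7, 2, 23, 3, 19, 10, 21, 5, 17],
   [0, 8, 2, 6, 4, 23, 18, 14, 13, 3, 20, 7, 1, 12, 15, 11, 16, 22, 9, 21, 10, 19, 5, 17],
   [0, 6, 2, 12, 4, 14, 13, 22, 3, 1, 21, 5, 18, 9, 17, 23, 16, 11, 8, 20, 19, 10, 15, 7]]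

/-- The elements, sorted by code. -/
def E : List (List Nat) :=
  [[0, 12, 2, 9, 4, 22, 3, 11, 1, 18, 20, 15, 13, 8, 7, 14, 16, 23, 6, 21, 10, 19, 17, 5],
   [0, 8, 16, 3, 4, 23, 9, 7, 1, 6, 20, 14, 13, 12, 11, 15, 2, 22, 18, 19, 10, 21, 17, 5],
   [0, 6, 2, 12, 4, 14, 13, 22, 3, 1, 21, 5, 18, 9, 17, 23, 16, 11, 8, 20, 19, 10, 15, 7],
   [0, 9, 16, 13, 4, 11, 12, 17, 3, 8, 21, 23, 18, 6, 22, 5, 2, 14, 1, 10, 19, 20, 15, 7],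
   [0, 18, 16, 8, 4, 15, 13, 23, 9, 1, 19, 5, 6, 3, 17, 22, 2, 7, 12, 20, 21, 10, 14, 11],
   [0, 3, 2, 13, 4, 7, 8, 17, 9, 12, 19, 22, 6, 18, 23, 5, 16, 15, 1, 10, 21, 20, 14, 11],
   [0, 3, 16, 12, 4, 7, 1, 22, 6, 13, 19, 17, 9, 18, 5, 23, 2, 15, 8, 20, 21, 10, 11, 14],
   [0, 18, 2, 1, 4, 15, 12, 5, 6, 8, 19, 23, 9, 3, 22, 17, 16, 7, 13, 10, 21, 20, 11, 14],
   [0, 9, 2, 8, 4, 11, 1, 23, 18, 13, 21, 17, 3, 6, 5, 22, 16, 14, 12, 20, 19, 10, 7, 15],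
   [0, 6, 16, 1, 4, 14, 8, 5, 18, 12, 21, 22, 3, 9, 23, 17, 2, 11, 13, 10, 19, 20, 7, 15],
   [0, 8, 2, 6, 4, 23, 18, 14, 13, 3, 20, 7, 1, 12, 15, 11, 16, 22, 9, 21, 10, 19, 5, 17],
   [0, 12, 16, 18, 4, 22, 6, 15, 13, 9, 20, 11, 1, 8, 14, 7, 2, 23, 3, 19, 10, 21, 5, 17],
   [0, 1, 16, 9, 4, 5, 18, 11, 12, 3, 10, 7, 8, 13, 15, 14, 2, 17, 6, 21, 20, 19, 23, 22],
   [0, 13, 2, 18, 4, 17, 9, 15, 12, 6, 10, 14, 8, 1, 11, 7, 16, 5, 3, 19, 20, 21, 23, 22],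
   [0, 13, 16, 6, 4, 17, 3, 14, 8, 18, 10, 15, 12, 1, 7, 11, 2, 5, 9, 21, 20, 19, 22, 23],
   [0, 1, 2, 3, 4, 5, 6, 7, 8, 9, 10, 11, 12, 13, 14, 15, 16, 17, 18, 19, 20, 21, 22, 23]]

/-- The multiplication table: positions of the products of the generators with the elements. -/
def cay : List (List Nat) :=
  [[10, 1, 12, 15, 7],
   [11, 0, 13, 14, 6],
   [8, 4, 9, 7, 13],
   [9, 5, 8, 6, 12],
   [6, 2, 5, 3, 1],
   [7, 3, 4, 2, 0],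
   [4, 8, 7, 9, 11],
   [5, 9, 6, 8, 10],
   [2, 6, 3, 5, 15],
   [3, 7, 2, 4, 14],
   [0, 11, 14, 13, 5],
   [1, 10, 15, 12, 4],
   [14, 15, 0, 1, 9],
   [15, 14, 1, 0, 8],
   [12, 13, 10, 11, 3],
   [13, 12, 11, 10, 2]]

/-- Words in the generators for the elements. -/
def W : List (List Nat) :=
  [[3, 0],
   [2, 0],
   [4],
   [4, 1, 0],
   [4, 2],
   [4, 3],
   [4, 2, 0],
   [3, 4],
   [4, 0],
   [4, 1],
   [3],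
   [2],
   [1],
   [0],
   [1, 0],
   []]

/-- The fusion steps producing the generators. -/
def steps : List FStep :=
  [.conj 0 [0, 12, 4, 2, 1, 15, 6, 7, 9, 18, 10, 22, 3, 8, 23, 11, 13, 14, 16, 20, 17, 5, 21, 19],
   .conj 0 [0, 2, 4, 18, 9, 23, 13, 5, 12, 8, 19, 10, 1, 16, 20, 22, 6, 17, 3, 21, 11, 14, 15, 7],
   .mul 1 2,
   .conj 3 [0, 18, 2, 13, 16, 17, 9, 7, 8, 6, 19, 23, 12, 3, 22, 15, 4, 5, 1, 10, 20, 21, 14, 11]]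

end Cfsg.Agent.Helper91.SylM11
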