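/-
Helper91: a Sylow 2-subgroup of the Mathieu group M11: it is a group of order 2^4 generated by
conjugates of its central involution (and products), and it is self-normalizing.
-/
import Cfsg.Agent.Helper91.SylM11Data
import Cfsg.Agent.Helper91.M11Chain

set_option autoImplicit false
set_option maxRecDepth 100000

namespace Cfsg.Agent.Helper91.SylM11

open Cfsg Cfsg.Agent.Helper91 Cfsg.Agent.Helper91.Syl

theorem closed_ok : closedOK C E cay = true := by decide +kernel

theorem words_ok : wordsOK C E W = true := by decide +kernel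

theorem inc_ok : incB (E.map tcode) = true := by decide +kernel

theorem group_ok : groupOK C E cay W = true := by
  rw [groupOK, closed_ok, words_ok, inc_ok]; rfl

theorem cent_ok : centOK C E = true := by decide +kernel

theorem inH_ok : C.all (tabOK 1 [340831]) = true := by decide +kernel

theorem fus_ok : fusOK 1 [340831] C steps = true := by decide +kernel

theorem le_H : genGroup C ≤ stabSub 1 [340831] := genGroup_le_stabSub inH_ok

theorem length_E : E.length = 2 ^ 4 := by decide +kernel

/-- The pointwise stabilizer of the mask 65557. Levels of the stabilizer chain (base 1; orbit lengths 8). -/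

def fin0Levels : List Level := [
  ⟨[.sub 0, .compl 0, .sub 65557, .compl 65557, .compl 340831, .and 16711658 340831],
    275274, 1,
    [[0, 1, 2, 3, 4, 5, 6, 7, 8, 9, 10, 11, 12, 13, 14, 15, 16, 17, 18, 19, 20, 21, 22, 23],
     [0, 3, 2, 13, 4, 7, 8, 17, 9, 12, 19, 22, 6, 18, 23, 5, 16, 15, 1, 10, 21, 20, 14, 11],
     [0, 6, 2, 12, 4, 14, 13, 22, 3, 1, 21, 5, 18, 9, 17, 23, 16, 11, 8, 20, 19, 10, 15, 7],
     [0, 8, 2, 6, 4, 23, 18, 14, 13, 3, 20, 7, 1, 12, 15, 11, 16, 22, 9, 21, 10, 19, 5, 17],
     [0, 9, 2, 8, 4, 11, 1, 23, 18, 13, 21, 17, 3, 6, 5, 22, 16, 14, 12, 20, 19, 10, 7, 15],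
     [0, 12, 2, 9, 4, 22, 3, 11, 1, 18, 20, 15, 13, 8, 7, 14, 16, 23, 6, 21, 10, 19, 17, 5],
     [0, 13, 2, 18, 4, 17, 9, 15, 12, 6, 10, 14, 8, 1, 11, 7, 16, 5, 3, 19, 20, 21, 23, 22],
     [0, 18, 2, 1, 4, 15, 12, 5, 6, 8, 19, 23, 9, 3, 22, 17, 16, 7, 13, 10, 21, 20, 11, 14]]⟩]

/-- The pointwise stabilizer of the mask 65557. Final rigidity certificate. -/

def fin0Fin : List Step :=
  [.sub 2, .compl 2, .and 275274 16777213, .cw 12849992 [16436384], .compl 12849992, .and 275272 12849992,
   .and 275272 3927223, .fix 13, .and 16436384 12849992, .and 16436384 3927223, .cw 16262146 [267080, 3853472],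
   .compl 16262146, .and 3853472 16262146, .and 3853472 515069, .cw 14919680 [267080, 3671040], .compl 14919680,
   .and 3671040 14919680, .and 3671040 1857535, .fix 21, .and 182432 14919680, .and 182432 1857535,
   .cw 15747077 [267080], .compl 15747077, .and 1573888 15747077, .and 1573888 1030138, .fix 20,
   .and 165888 15747077, .and 165888 1030138, .fix 11, .and 16544 15747077, .and 16544 1030138, .fix 14,
   .cw 15335473 [267080], .compl 15335473, .and 525312 15335473, .and 525312 1441742, .fix 19, .fix 10,
   .and 163840 15335473, .and 163840 1441742, .fix 17, .fix 15, .and 160 15335473, .and 160 1441742, .fix 5,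
   .fix 7, .cw 12222476 [267080], .compl 12222476, .and 267080 12222476, .and 267080 4554739, .fix 3,
   .and 12582912 12222476, .and 12582912 4554739, .fix 23, .fix 22, .cw 16056344 [], .compl 16056344,
   .and 267072 16056344, .and 267072 720871, .fix 18, .cw 15515712 [], .compl 15515712, .and 4928 15515712,
   .and 4928 1261503, .fix 6, .cw 15864000 [], .compl 15864000, .and 4864 15864000, .and 4864 913215, .fix 12,
   .cw 15274244 [], .compl 15274244, .and 768 15274244, .and 768 1502971, .fix 8, .fix 9]

theorem fin0_chain_ok : checkChain [340831] 65557 65557 [340831] fin0Levels fin0Fin = true := by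
  decide +kernel

theorem fin0_card : Nat.card (stabSub 65557 [340831]) = 2 ^ 3 := by
  rw [chain_card [340831] fin0Levels 65557 65557 [340831] fin0Fin fin0_chain_ok (fun g hg => hg.2)]
  decide +kernel

theorem psi_1 : psiM E 0 0 1 = 17 := by decide +kernel
theorem psi_2 : psiM E 0 17 2 = 65540 := by decide +kernel

/-- No element of odd prime order normalizes the group. -/
theorem no_odd : ∀ r : ℕ, r.Prime → r % 2 = 1 → ∀ x, x ∉ XC (stabSub 1 [340831]) (genGroup C) r 0 0 := by
  intro r hr hr2 x0 hx0
  have hx1 := rule_fix' group_ok hr2 hx0 1 17 17 psi_1 (by decide) (by decide)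
  have hx2 := rule_fix' group_ok hr2 hx1 2 65540 65557 psi_2 (by decide) (by decide)
  exact rule_end' hr hr2 65557 3 (by decide) fin0_card hx2

theorem card_H : Nat.card (stabSub 1 [340831]) = 2 ^ 4 * 495 := by
  show Nat.card (stabSub 1 [sqMask]) = _
  rw [← M11_eq, card_M11]
  norm_num

/-- The data of the Sylow 2-subgroup of M11. -/
theorem sylData : SylData 1 [340831] C E cay W steps 4 495 :=
  ⟨group_ok, length_E, by decide, cent_ok, inH_ok, fus_ok, card_H, by decide, no_odd⟩

end Cfsg.Agent.Helper91.SylM11
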