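/-
Helper91: a Sylow 2-subgroup of the Mathieu group M12: it is a group of order 2^6 generated by
conjugates of its central involution (and products), and it is self-normalizing.
-/
import Cfsg.Agent.Helper91.SylM12Data
import Cfsg.Agent.Helper91.M12Chain

set_option autoImplicit false
set_option maxRecDepth 100000

namespace Cfsg.Agent.Helper91.SylM12

open Cfsg Cfsg.Agent.Helper91 Cfsg.Agent.Helper91.Syl

theorem closed_ok : closedOK C E cay = true := by decide +kernel

theorem words_ok : wordsOK C E W = true := by decide +kernel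

theorem inc_ok : incB (E.map tcode) = true := by decide +kernel

theorem group_ok : groupOK C E cay W = true := by
  rw [groupOK, closed_ok, words_ok, inc_ok]; rfl

theorem cent_ok : centOK C E = true := by decide +kernel

theorem inH_ok : C.all (tabOK 0 [340831]) = true := by decide +kernel

theorem fus_ok : fusOK 0 [340831] C steps = true := by decide +kernel

theorem le_H : genGroup C ≤ stabSub 0 [340831] := genGroup_le_stabSub inH_ok

theorem length_E : E.length = 2 ^ 6 := by decide +kernel

/-- The pointwise stabilizer of the mask 594. Levels of the stabilizer chain (base 0; orbit lengths 8). -/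

def fin0Levels : List Level := [
  ⟨[.sub 0, .compl 0, .sub 594, .compl 594, .compl 340831, .and 16776621 340831],
    340237, 0,
    [[0, 1, 2, 3, 4, 5, 6, 7, 8, 9, 10, 11, 12, 13, 14, 15, 16, 17, 18, 19, 20, 21, 22, 23],
     [2, 1, 12, 18, 4, 15, 6, 14, 16, 9, 17, 20, 13, 0, 19, 5, 3, 21, 8, 22, 11, 23, 7, 10],
     [3, 1, 16, 12, 4, 20, 6, 23, 0, 9, 14, 15, 8, 18, 21, 11, 13, 7, 2, 17, 5, 22, 10, 19],
     [8, 1, 18, 0, 4, 20, 6, 17, 12, 9, 22, 15, 3, 16, 10, 11, 2, 19, 13, 23, 5, 14, 21, 7],
     [12, 1, 13, 8, 4, 5, 6, 19, 3, 9, 21, 11, 0, 2, 22, 15, 18, 23, 16, 7, 20, 10, 14, 17],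
     [13, 1, 0, 16, 4, 15, 6, 22, 18, 9, 23, 20, 2, 12, 7, 5, 8, 10, 3, 14, 11, 17, 19, 21],
     [16, 1, 8, 2, 4, 11, 6, 21, 13, 9, 7, 5, 18, 3, 17, 20, 12, 22, 0, 10, 15, 19, 23, 14],
     [18, 1, 3, 13, 4, 11, 6, 10, 2, 9, 19, 5, 16, 8, 23, 20, 0, 14, 12, 21, 15, 7, 17, 22]]⟩]

/-- The pointwise stabilizer of the mask 594. Final rigidity certificate. -/

def fin0Fin : List Step :=
  [.sub 1, .compl 1, .and 340237 16777214, .cw 8855820 [16436384], .compl 8855820, .and 340236 8855820,
   .and 340236 7921395, .fix 12, .and 16436384 8855820, .and 16436384 7921395, .cw 15864000 [336140, 7916704],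
   .compl 15864000, .and 7916704 15864000, .and 7916704 913215, .cw 13276672 [336140, 7340160], .compl 13276672,
   .and 7340160 13276672, .and 7340160 3500543, .fix 22, .and 576544 13276672, .and 576544 3500543,
   .cw 15335473 [336140], .compl 15335473, .and 3145856 15335473, .and 3145856 1441742, .fix 21,
   .and 558080 15335473, .and 558080 1441742, .fix 19, .and 18464 15335473, .and 18464 1441742, .fix 5,
   .cw 13811730 [336140], .compl 13811730, .and 1048704 13811730, .and 1048704 2965485, .fix 20, .fix 7,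
   .and 33792 13811730, .and 33792 2965485, .fix 15, .fix 10, .and 18432 13811730, .and 18432 2965485, .fix 14,
   .fix 11, .cw 16262146 [336140], .compl 16262146, .and 336140 16262146, .and 336140 515069, .fix 13,
   .and 8519680 16262146, .and 8519680 515069, .fix 23, .fix 17, .cw 15762208 [], .compl 15762208,
   .and 327948 15762208, .and 327948 1015007, .fix 8, .cw 16056344 [], .compl 16056344, .and 327692 16056344,
   .and 327692 720871, .fix 2, .cw 15515712 [], .compl 15515712, .and 327688 15515712, .and 327688 1261503,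
   .fix 18, .cw 15274244 [], .compl 15274244, .and 65544 15274244, .and 65544 1502971, .fix 16, .fix 3]

theorem fin0_chain_ok : checkChain [340831] 594 594 [340831] fin0Levels fin0Fin = true := by
  decide +kernel

theorem fin0_card : Nat.card (stabSub 594 [340831]) = 2 ^ 3 := by
  rw [chain_card [340831] fin0Levels 594 594 [340831] fin0Fin fin0_chain_ok (fun g hg => hg.2)]
  decide +kernel

/-- The pointwise stabilizer of the mask 1083424. Levels of the stabilizer chain (base 0; orbit lengths 8). -/

def fin1Levels : List Level := [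
  ⟨[.sub 0, .compl 0, .sub 1083424, .compl 1083424, .compl 340831, .and 15693791 16436384,
     .cw 1084018 [340831, 15352960], .compl 1084018, .and 340831 1084018, .and 340831 15693197],
    340237, 0,
    [[0, 1, 2, 3, 4, 5, 6, 7, 8, 9, 10, 11, 12, 13, 14, 15, 16, 17, 18, 19, 20, 21, 22, 23],
     [2, 6, 12, 16, 9, 5, 1, 22, 18, 4, 17, 11, 13, 0, 7, 15, 8, 21, 3, 14, 20, 23, 19, 10],
     [3, 9, 18, 12, 6, 5, 4, 23, 0, 1, 22, 11, 8, 16, 10, 15, 2, 7, 13, 17, 20, 14, 21, 19],
     [8, 9, 16, 0, 6, 5, 4, 17, 12, 1, 14, 11, 3, 18, 21, 15, 13, 19, 2, 23, 20, 22, 10, 7],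
     [12, 1, 13, 8, 4, 5, 6, 19, 3, 9, 21, 11, 0, 2, 22, 15, 18, 23, 16, 7, 20, 10, 14, 17],
     [13, 6, 0, 18, 9, 5, 1, 14, 16, 4, 23, 11, 2, 12, 19, 15, 3, 10, 8, 22, 20, 17, 7, 21],
     [16, 4, 3, 13, 1, 5, 9, 10, 2, 6, 19, 11, 18, 8, 17, 15, 12, 22, 0, 21, 20, 7, 23, 14],
     [18, 4, 8, 2, 1, 5, 9, 21, 13, 6, 7, 11, 16, 3, 23, 15, 0, 14, 12, 10, 20, 19, 17, 22]]⟩]

/-- The pointwise stabilizer of the mask 1083424. Final rigidity certificate. -/

def fin1Fin : List Step :=
  [.sub 1, .compl 1, .and 340237 16777214, .cw 15335473 [340236, 15352960], .compl 15335473, .and 594 15335473,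
   .and 594 1441742, .fix 4, .and 15352960 15335473, .and 15352960 1441742, .cw 13811730 [340236],
   .compl 13811730, .and 578 13811730, .and 578 2965485, .fix 1, .and 15335424 13811730, .and 15335424 2965485,
   .and 17536 13811730, .and 17536 2965485, .fix 14, .cw 15864000 [340236], .compl 15864000, .and 576 15864000,
   .and 576 913215, .fix 6, .fix 9, .and 340236 15864000, .and 340236 913215, .fix 12, .and 2621440 15864000,
   .and 2621440 913215, .fix 21, .fix 19, .and 1152 15864000, .and 1152 913215, .fix 7, .fix 10,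
   .cw 16262146 [336140], .compl 16262146, .and 336140 16262146, .and 336140 515069, .fix 13,
   .and 12713984 16262146, .and 12713984 515069, .fix 17, .cw 12325377 [], .compl 12325377,
   .and 327948 12325377, .and 327948 4451838, .fix 18, .and 12582912 12325377, .and 12582912 4451838, .fix 23,
   .fix 22, .cw 15762208 [], .compl 15762208, .and 65804 15762208, .and 65804 1015007, .fix 8, .cw 16056344 [],
   .compl 16056344, .and 65548 16056344, .and 65548 720871, .fix 2, .cw 15274244 [], .compl 15274244,
   .and 65544 15274244, .and 65544 1502971, .fix 16, .fix 3]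

theorem fin1_chain_ok : checkChain [340831] 1083424 1083424 [340831] fin1Levels fin1Fin = true := by
  decide +kernel

theorem fin1_card : Nat.card (stabSub 1083424 [340831]) = 2 ^ 3 := by
  rw [chain_card [340831] fin1Levels 1083424 1083424 [340831] fin1Fin fin1_chain_ok (fun g hg => hg.2)]
  decide +kernel

theorem psi_1 : psiM E 0 0 4 = 1084018 := by decide +kernel
theorem ext_1 : extOKm E 0 0 1084018 [1, 5] = true := by decide +kernel
theorem psi_2 : psiM E 2 2 1 = 512 := by decide +kernel
theorem psi_3 : psiM E 2 514 2 = 80 := by decide +kernel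
theorem psi_5 : psiM E 32 32 1 = 1048576 := by decide +kernel
theorem psi_6 : psiM E 32 1048608 2 = 34816 := by decide +kernel

/-- No element of odd prime order normalizes the group. -/
theorem no_odd : ∀ r : ℕ, r.Prime → r % 2 = 1 → ∀ x, x ∉ XC (stabSub 0 [340831]) (genGroup C) r 0 0 := by
  intro r hr hr2 x0 hx0
  rcases rule_ext2 group_ok le_H hr hr2 hx0 4 1084018 1 5 2 2 32 32 psi_1 ext_1 (by decide) (by decide) (by decide) (by decide) with ⟨x1, hx1⟩ | ⟨x1, hx1⟩
  · have hx2 := rule_fix' group_ok hr2 hx1 1 512 514 psi_2 (by decide) (by decide)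
    have hx3 := rule_fix' group_ok hr2 hx2 2 80 594 psi_3 (by decide) (by decide)
    exact rule_end' hr hr2 594 3 (by decide) fin0_card hx3
  · have hx5 := rule_fix' group_ok hr2 hx1 1 1048576 1048608 psi_5 (by decide) (by decide)
    have hx6 := rule_fix' group_ok hr2 hx5 2 34816 1083424 psi_6 (by decide) (by decide)
    exact rule_end' hr hr2 1083424 3 (by decide) fin1_card hx6

theorem card_H : Nat.card (stabSub 0 [340831]) = 2 ^ 6 * 1485 := by
  show Nat.card (stabSub 0 [sqMask]) = _
  rw [← M12_eq, card_M12]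
  norm_num

/-- The data of the Sylow 2-subgroup of M12. -/
theorem sylData : SylData 0 [340831] C E cay W steps 6 1485 :=
  ⟨group_ok, length_E, by decide, cent_ok, inH_ok, fus_ok, card_H, by decide, no_odd⟩

end Cfsg.Agent.Helper91.SylM12
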