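/-
Helper91: a Sylow 2-subgroup of the Mathieu group M24 (order 2^10): basic checks, words, centre, fusion.
-/
import Cfsg.Agent.Helper91.SylM24Data

set_option autoImplicit false
set_option maxRecDepth 100000

namespace Cfsg.Agent.Helper91.SylM24

open Cfsg Cfsg.Agent.Helper91 Cfsg.Agent.Helper91.Syl

theorem valid_C : C.all validTab = true := by decide +kernel

theorem id_mem : E.contains idTab = true := by decide +kernel

theorem inc_ok : incB (E.map tcode) = true := by decide +kernel

theorem length_W : W.length = E.length := by decide +kernel

theorem length_E : E.length = 2 ^ 10 := by decide +kernel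

theorem length_C : C.length = 7 := by decide +kernel

theorem words_s0 : wordsSliceOK C E W (0 * 256) 256 = true := by decide +kernel

theorem words_s1 : wordsSliceOK C E W (1 * 256) 256 = true := by decide +kernel

theorem words_s2 : wordsSliceOK C E W (2 * 256) 256 = true := by decide +kernel

theorem words_s3 : wordsSliceOK C E W (3 * 256) 256 = true := by decide +kernel

theorem words_ok : wordsOK C E W = true :=
  wordsOK_of_slices 256 4 length_W (by rw [length_E]; norm_num)
    (by intro i hi; interval_cases i; exacts [words_s0, words_s1, words_s2, words_s3])

theorem cent_cert_ok : centCertOK C E cert = true := by decide +kernel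

theorem cent_ok : centOK C E = true := centOK_of_cert cent_cert_ok

theorem inH_ok : C.all (tabOK 0 []) = true := by decide +kernel

theorem fus_ok : fusOK 0 [] C steps = true := by decide +kernel

theorem le_H : genGroup C ≤ stabSub 0 [] := genGroup_le_stabSub inH_ok

end Cfsg.Agent.Helper91.SylM24
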