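/-
Helper91: a Sylow 2-subgroup of the Mathieu group M24 (order 2^10): the group.
-/
import Cfsg.Agent.Helper91.SylM24a
import Cfsg.Agent.Helper91.SylM24g0
import Cfsg.Agent.Helper91.SylM24g1
import Cfsg.Agent.Helper91.SylM24g2
import Cfsg.Agent.Helper91.SylM24g3

set_option autoImplicit false
set_option maxRecDepth 100000

namespace Cfsg.Agent.Helper91.SylM24

open Cfsg Cfsg.Agent.Helper91 Cfsg.Agent.Helper91.Syl

theorem exists_group_ok : ∃ cay, groupOK C E cay W = true :=
  groupOK_of_closed valid_C id_mem words_ok inc_ok
    (fun hE => closed_of_genClosed (n := 32) (cols := cols)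
      (by
        intro i hi
        rw [length_C] at hi
        interval_cases i
        exacts [gc_0, gc_1, gc_2, gc_3, gc_4, gc_5, gc_6]) hE)

end Cfsg.Agent.Helper91.SylM24
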