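/-
Helper91: a Sylow 2-subgroup of the Mathieu group M24 (order 2^10): orbits of the group, part 2.
-/
import Cfsg.Agent.Helper91.SylM24Data

set_option autoImplicit false
set_option maxRecDepth 100000

namespace Cfsg.Agent.Helper91.SylM24

open Cfsg Cfsg.Agent.Helper91 Cfsg.Agent.Helper91.Syl

theorem orb0_1 : (List.range' 3 3).map (orbM E 0) = [10484440, 10484440, 6292775] := by decide +kernel

end Cfsg.Agent.Helper91.SylM24
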