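/-
Helper91: a Sylow 2-subgroup of the Mathieu group M24 (order 2^10): orbits of the group.
-/
import Cfsg.Agent.Helper91.SylM24o0
import Cfsg.Agent.Helper91.SylM24o1
import Cfsg.Agent.Helper91.SylM24o2
import Cfsg.Agent.Helper91.SylM24o3
import Cfsg.Agent.Helper91.SylM24o4
import Cfsg.Agent.Helper91.SylM24o5
import Cfsg.Agent.Helper91.SylM24o6
import Cfsg.Agent.Helper91.SylM24o7

set_option autoImplicit false
set_option maxRecDepth 100000

namespace Cfsg.Agent.Helper91.SylM24

open Cfsg Cfsg.Agent.Helper91 Cfsg.Agent.Helper91.Syl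

theorem orbs0 : (List.range 24).map (orbM E 0) =
    [6292775, 6292775, 6292775] ++ ([10484440, 10484440, 6292775] ++ ([10484440, 10484440, 6292775] ++ ([10484440, 6292775, 10484440] ++ ([10484440, 10484440, 10484440] ++ ([10484440, 10484440, 10484440] ++ ([10484440, 10484440, 10484440] ++ ([6292775, 6292775, 10484440]))))))) := by
  rw [show List.range 24 = List.range' 0 3 ++ (List.range' 3 3 ++ (List.range' 6 3 ++ (List.range' 9 3 ++ (List.range' 12 3 ++ (List.range' 15 3 ++ (List.range' 18 3 ++ (List.range' 21 3))))))) from by decide]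
  repeat rw [List.map_append]
  rw [orb0_0, orb0_1, orb0_2, orb0_3, orb0_4, orb0_5, orb0_6, orb0_7]

theorem psi_1 : psiM E 0 0 8 = 6292775 := by
  rw [psiM_eq_of_orbs E 0 0 8 _ orbs0]
  decide +kernel

end Cfsg.Agent.Helper91.SylM24
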