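/-
Helper91: a Sylow 2-subgroup of the Mathieu group M24 (order 2^10): orbits of the stabilizers, part 2.
-/
import Cfsg.Agent.Helper91.SylM24Data

set_option autoImplicit false
set_option maxRecDepth 100000

namespace Cfsg.Agent.Helper91.SylM24

open Cfsg Cfsg.Agent.Helper91 Cfsg.Agent.Helper91.Syl

theorem psi_4 : psiM E 1 2097441 4 = 4195334 := by decide +kernel

theorem ext_4 : extOKm E 1 2097441 4195334 [1] = true := by decide +kernel

theorem psi_5 : psiM E 3 2097443 1 = 4194304 := by decide +kernel

end Cfsg.Agent.Helper91.SylM24
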