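/-
Helper91: a Sylow 2-subgroup of the Mathieu group M24 (order 2^10): it is generated by conjugates of its central involution (and products), and it is self-normalizing.
-/
import Cfsg.Agent.Helper91.SylM24b
import Cfsg.Agent.Helper91.SylM24p0
import Cfsg.Agent.Helper91.SylM24p1
import Cfsg.Agent.Helper91.SylM24p2
import Cfsg.Agent.Helper91.SylM24o8
import Cfsg.Agent.Helper91.M24Chain

set_option autoImplicit false
set_option maxRecDepth 100000

namespace Cfsg.Agent.Helper91.SylM24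

open Cfsg Cfsg.Agent.Helper91 Cfsg.Agent.Helper91.Syl

/-- The pointwise stabilizer of the mask 6292775. Levels of the stabilizer chain (base 3; orbit lengths 16). -/

def fin0Levels : List Level := [
  ⟨[.sub 0, .compl 0, .sub 6292775, .compl 6292775],
    10484440, 3,
    [[0, 1, 2, 3, 4, 5, 6, 7, 8, 9, 10, 11, 12, 13, 14, 15, 16, 17, 18, 19, 20, 21, 22, 23],
     [0, 1, 2, 4, 3, 5, 16, 12, 8, 23, 10, 13, 7, 11, 19, 20, 6, 18, 17, 14, 15, 21, 22, 9],
     [0, 1, 2, 6, 16, 5, 3, 18, 8, 11, 10, 9, 17, 23, 15, 14, 4, 12, 7, 20, 19, 21, 22, 13],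
     [0, 1, 2, 7, 12, 5, 18, 3, 8, 15, 10, 14, 4, 19, 11, 9, 17, 16, 6, 13, 23, 21, 22, 20],
     [0, 1, 2, 9, 23, 5, 11, 15, 8, 3, 10, 6, 20, 16, 18, 7, 13, 19, 14, 17, 12, 21, 22, 4],
     [0, 1, 2, 11, 13, 5, 9, 14, 8, 6, 10, 3, 19, 4, 7, 18, 23, 20, 15, 12, 17, 21, 22, 16],
     [0, 1, 2, 12, 7, 5, 17, 4, 8, 20, 10, 19, 3, 14, 13, 23, 18, 6, 16, 11, 9, 21, 22, 15],
     [0, 1, 2, 13, 11, 5, 23, 19, 8, 16, 10, 4, 14, 3, 12, 17, 9, 15, 20, 7, 18, 21, 22, 6],
     [0, 1, 2, 14, 19, 5, 15, 11, 8, 18, 10, 7, 13, 12, 3, 6, 20, 23, 9, 4, 16, 21, 22, 17],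
     [0, 1, 2, 15, 20, 5, 14, 9, 8, 7, 10, 18, 23, 17, 6, 3, 19, 13, 11, 16, 4, 21, 22, 12],
     [0, 1, 2, 16, 6, 5, 4, 17, 8, 13, 10, 23, 18, 9, 20, 19, 3, 7, 12, 15, 14, 21, 22, 11],
     [0, 1, 2, 17, 18, 5, 12, 16, 8, 19, 10, 20, 6, 15, 23, 13, 7, 3, 4, 9, 11, 21, 22, 14],
     [0, 1, 2, 18, 17, 5, 7, 6, 8, 14, 10, 15, 16, 20, 9, 11, 12, 4, 3, 23, 13, 21, 22, 19],
     [0, 1, 2, 19, 14, 5, 20, 13, 8, 17, 10, 12, 11, 7, 4, 16, 15, 9, 23, 3, 6, 21, 22, 18],
     [0, 1, 2, 20, 15, 5, 19, 23, 8, 12, 10, 17, 9, 18, 16, 4, 14, 11, 13, 6, 3, 21, 22, 7],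
     [0, 1, 2, 23, 9, 5, 13, 20, 8, 4, 10, 16, 15, 6, 17, 12, 11, 14, 19, 18, 7, 21, 22, 3]]⟩]

/-- The pointwise stabilizer of the mask 6292775. Final rigidity certificate. -/

def fin0Fin : List Step :=
  [.sub 8, .compl 8, .and 10484440 16777207, .cw 14828808 [10484432], .compl 14828808, .and 10484432 14828808,
   .and 10484432 1948407, .cw 15747077 [1948368], .compl 15747077, .and 8536064 15747077, .and 8536064 1030138,
   .fix 17, .and 1948368 15747077, .and 1948368 1030138, .cw 13829156 [897744], .compl 13829156,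
   .and 8404992 13829156, .and 8404992 2948059, .fix 23, .fix 14, .and 1050624 13829156, .and 1050624 2948059,
   .fix 20, .fix 11, .and 897744 13829156, .and 897744 2948059, .fix 16, .cw 14762146 [832208], .compl 14762146,
   .and 832208 14762146, .and 832208 2015069, .fix 7, .cw 16262146 [832080], .compl 16262146,
   .and 832080 16262146, .and 832080 515069, .cw 15335473 [299600], .compl 15335473, .and 532480 15335473,
   .and 532480 1441742, .fix 19, .fix 13, .and 299600 15335473, .and 299600 1441742, .fix 4, .cw 16056344 [],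
   .compl 16056344, .and 299584 16056344, .and 299584 720871, .fix 18, .cw 15274244 [], .compl 15274244,
   .and 37440 15274244, .and 37440 1502971, .fix 12, .cw 15864000 [], .compl 15864000, .and 33344 15864000,
   .and 33344 913215, .fix 6, .cw 15515712 [], .compl 15515712, .and 33280 15515712, .and 33280 1261503,
   .fix 15, .fix 9]

theorem fin0_chain_ok : checkChain [] 6292775 6292775 [] fin0Levels fin0Fin = true := by
  decide +kernel

theorem fin0_card : Nat.card (stabSub 6292775 []) = 2 ^ 4 := by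
  rw [chain_card [] fin0Levels 6292775 6292775 [] fin0Fin fin0_chain_ok (fun g hg => hg.2)]
  decide +kernel

/-- No element of odd prime order normalizes the group. -/
theorem no_odd {cay : List (List Nat)} (group_ok : groupOK C E cay W = true) :
    ∀ r : ℕ, r.Prime → r % 2 = 1 → ∀ x, x ∉ XC (stabSub 0 []) (genGroup C) r 0 0 := by
  intro r hr hr2 x0 hx0
  obtain ⟨x1, hx1⟩ := rule_ext1 group_ok le_H hr hr2 hx0 8 6292775 0 1 1 psi_1 ext_1 (by decide) (by decide)
  have hx2 := rule_fix' group_ok hr2 hx1 1 256 257 psi_2 (by decide) (by decide)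
  have hx3 := rule_fix' group_ok hr2 hx2 2 2097184 2097441 psi_3 (by decide) (by decide)
  obtain ⟨x4, hx4⟩ := rule_ext1 group_ok le_H hr hr2 hx3 4 4195334 1 3 2097443 psi_4 ext_4 (by decide) (by decide)
  have hx5 := rule_fix' group_ok hr2 hx4 1 4194304 6291747 psi_5 (by decide) (by decide)
  have hx6 := rule_fix' group_ok hr2 hx5 2 1028 6292775 psi_6 (by decide) (by decide)
  exact rule_end' hr hr2 6292775 4 (by decide) fin0_card hx6

theorem card_H : Nat.card (stabSub 0 []) = 2 ^ 10 * 239085 := by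
  rw [stabSub_zero_nil, card_M24]
  norm_num

/-- The data of the Sylow 2-subgroup of M24. -/
theorem sylData : ∃ cay, SylData 0 [] C E cay W steps 10 239085 := by
  obtain ⟨cay, hg⟩ := exists_group_ok
  exact ⟨cay, hg, length_E, by decide, cent_ok, inH_ok, fus_ok, card_H, by decide, no_odd hg⟩

end Cfsg.Agent.Helper91.SylM24
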