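/-
Helper91: words of the length-24 code as masks; subspaces of words invariant under `M24`: a subspace that
contains a code word other than zero and the all-ones word contains the whole code.
-/
import Cfsg.Agent.Helper91.Classes

set_option autoImplicit false

namespace Cfsg.Agent.Helper91

open Cfsg
open scoped Pointwise

/-! ## Words and masks -/

/-- The mask of a word. -/
def mk (w : GolayPt → ZMod 2) : Nat := Helper26.enc (support₂ w)

theorem mk_lt (w : GolayPt → ZMod 2) : mk w < 2 ^ 24 := Helper26.enc_lt _

theorem support_toWord' (m : Nat) : support₂ (toWord m) = setM m := rfl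

theorem toWord_mk (w : GolayPt → ZMod 2) : toWord (mk w) = w := by
  apply support₂_injective
  rw [support_toWord', mk, setM_enc]

theorem mk_toWord {m : Nat} (h : m < 2 ^ 24) : mk (toWord m) = m := by
  rw [mk, support_toWord', enc_setM h]

/-- Membership of the word of a mask in the code, by the test of `Helper26`. -/
theorem toWord_mem_iff26 {m : Nat} (hm : m < 2 ^ 24) :
    toWord m ∈ golayCode ↔ Helper26.isCode m = true := by
  rw [← enc_setM hm, ← Helper26.mem_supports_iff, enc_setM hm]
  constructor
  · intro h
    exact ⟨toWord m, h, rfl⟩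
  · rintro ⟨w', hw', e⟩
    rw [← support_toWord'] at e
    rw [← support₂_injective e]
    exact hw'

theorem mem_golayCode_iff26 (w : GolayPt → ZMod 2) : w ∈ golayCode ↔ Helper26.isCode (mk w) = true := by
  rw [← toWord_mem_iff26 (mk_lt w), toWord_mk]

theorem toWord_one : toWord ALL = fun _ => (1 : ZMod 2) := toWord_ALL

theorem mk_ne_zero {w : GolayPt → ZMod 2} (h : w ≠ 0) : mk w ≠ 0 := by
  intro e
  apply h
  rw [← toWord_mk w, e, toWord_zero]

theorem mk_ne_ALL {w : GolayPt → ZMod 2} (h : w ≠ 1) : mk w ≠ ALL := by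
  intro e
  apply h
  rw [← toWord_mk w, e, toWord_ALL]

/-- The word of the image of a set. -/
theorem word_of_smul {g : Equiv.Perm GolayPt} {a b : Nat} (h : g • setM a = setM b) :
    toWord b = toWord a ∘ ⇑g⁻¹ := by
  apply support₂_injective
  rw [support₂_comp, inv_inv, support_toWord', support_toWord', h]

theorem toWord_comp_tab {T : List Nat} (hT : validTab T = true) (m : Nat) :
    toWord m ∘ ⇑(permT T hT) = toWord (pullMask T m) := by
  rw [coe_permT, toWord_pullMask hT]

theorem comp_not_mem {g : Equiv.Perm GolayPt} (hg : g ∈ M24) {x : GolayPt → ZMod 2}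
    (hx : x ∉ golayCode) : x ∘ ⇑g ∉ golayCode := by
  intro h
  apply hx
  have := comp_mem_of_mem_M24 (inv_mem hg) h
  have e : (x ∘ ⇑g) ∘ ⇑g⁻¹ = x := by
    funext p
    simp
  rwa [e] at this

theorem isCode_pull {T : List Nat} (hT : validTab T = true) (h24 : inM24 T = true) {c : Nat}
    (hc : Helper26.isCode c = true) : Helper26.isCode (pullMask T c) = true := by
  have hlt := isCode_lt hc
  rw [← toWord_mem_iff26 (pullMask_lt hT c), toWord_pullMask hT, ← coe_permT T hT]
  exact comp_mem_of_mem_M24 (permT_mem_M24 hT h24) ((toWord_mem_iff26 hlt).2 hc)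

/-! ## Invariant subspaces -/

/-- Invariance of a subspace, in the form of the statements. -/
def InvSub (W : Submodule (ZMod 2) (GolayPt → ZMod 2)) : Prop :=
  ∀ σ ∈ M24, ∀ w ∈ W, (fun p => w (σ.symm p)) ∈ W

theorem InvSub.comp {W : Submodule (ZMod 2) (GolayPt → ZMod 2)} (hW : InvSub W)
    {g : Equiv.Perm GolayPt} (hg : g ∈ M24) {w : GolayPt → ZMod 2} (hw : w ∈ W) : w ∘ ⇑g ∈ W :=
  hW g⁻¹ (inv_mem hg) w hw

theorem InvSub.tab {W : Submodule (ZMod 2) (GolayPt → ZMod 2)} (hW : InvSub W) {T : List Nat}
    (hT : validTab T = true) (h24 : inM24 T = true) {m : Nat} (hm : toWord m ∈ W) :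
    toWord (pullMask T m) ∈ W := by
  rw [← toWord_comp_tab hT]
  exact hW.comp (permT_mem_M24 hT h24) hm

theorem golayBasis_oct :
    golayBasis.all (fun b => Helper26.isCode b && Nat.beq (Helper26.pc24 b) 8) = true := by
  decide +kernel

theorem mask_octad {o : Nat} (h : (Helper26.isCode o && Nat.beq (Helper26.pc24 o) 8) = true) :
    setM o ∈ octads := by
  have hc : Helper26.isCode o = true := (Bool.and_eq_true _ _ ▸ h).1
  exact (setM_mem_octads_iff (isCode_lt hc)).2 h

/-- A subspace containing the word of an octad contains the code. -/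
theorem code_le_of_octad {W : Submodule (ZMod 2) (GolayPt → ZMod 2)} (hW : InvSub W) {m : Nat}
    (hm : setM m ∈ octads) (hmW : toWord m ∈ W) : golayCode ≤ W := by
  have hall : ∀ o : Nat, setM o ∈ octads → toWord o ∈ W := by
    intro o ho
    obtain ⟨g, hg, e⟩ := exists_m24_smul_octad hm ho
    rw [word_of_smul e]
    exact hW.comp (inv_mem hg) hmW
  have hb := golayBasis_oct
  rw [List.all_eq_true] at hb
  intro w hw
  obtain ⟨m', hm', rfl⟩ := (mem_golayCode_iff w).1 hw
  refine xorSub_induction (fun x => toWord x ∈ W) ?_ golayBasis ?_ 0 ?_ m' hm'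
  · intro x y hx hy
    show toWord (x ^^^ y) ∈ W
    rw [toWord_xor]
    exact W.add_mem hx hy
  · intro b hb'
    exact hall b (mask_octad (hb b hb'))
  · show toWord 0 ∈ W
    rw [toWord_zero]
    exact W.zero_mem

theorem xor_ALL_ALL (a b : Nat) : (ALL ^^^ a) ^^^ (ALL ^^^ b) = a ^^^ b := by
  apply Nat.eq_of_testBit_eq
  intro i
  simp only [Nat.testBit_xor]
  cases ALL.testBit i <;> cases a.testBit i <;> cases b.testBit i <;> rfl

theorem xor_ALL_cancel (a : Nat) : ALL ^^^ (ALL ^^^ a) = a := by
  apply Nat.eq_of_testBit_eq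
  intro i
  simp only [Nat.testBit_xor]
  cases ALL.testBit i <;> cases a.testBit i <;> rfl

theorem setM_eq_empty_iff {m : Nat} (hm : m < 2 ^ 24) : setM m = ∅ ↔ m = 0 := by
  constructor
  · intro h
    rw [← enc_setM hm, h, Helper26.enc_empty]
  · intro h
    rw [h]
    ext p
    rw [mem_setM, Nat.zero_testBit]
    simp

theorem setM_eq_univ_iff {m : Nat} (hm : m < 2 ^ 24) : setM m = Finset.univ ↔ m = ALL := by
  constructor
  · intro h
    rw [← enc_setM hm, h, Helper26.enc_univ]; rfl
  · intro h
    rw [h, setM_ALL]

/-- A subspace containing a code word other than zero and the all-ones word contains the code. -/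
theorem code_le_of_mem {W : Submodule (ZMod 2) (GolayPt → ZMod 2)} (hW : InvSub W) {m : Nat}
    (hm : Helper26.isCode m = true) (h0 : m ≠ 0) (h1 : m ≠ ALL) (hmW : toWord m ∈ W) : golayCode ≤ W := by
  have hlt := isCode_lt hm
  have hsup : setM m ∈ supports (golayCode : Set (GolayPt → ZMod 2)) := setM_mem_supports hm
  rcases Helper26.card_of_mem_supports hsup with h | h | h | h | h
  · rw [Finset.card_eq_zero, setM_eq_empty_iff hlt] at h
    exact absurd h h0
  · exact code_le_of_octad hW ⟨hsup, h⟩ hmW
  · -- dodecads
    have hd : setM m ∈ dodecads := ⟨hsup, h⟩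
    have hall : ∀ d : Nat, setM d ∈ dodecads → toWord d ∈ W := by
      intro d hd'
      obtain ⟨g, hg, e⟩ := exists_m24_smul_dodecad hd hd'
      rw [word_of_smul e]
      exact hW.comp (inv_mem hg) hmW
    have h1 : setM 340831 ∈ dodecads := by
      rw [Helper26.mem_dodecads_iff, enc_setM (by norm_num), card_setM (by norm_num)]
      decide +kernel
    have h2 : setM 28637 ∈ dodecads := by
      rw [Helper26.mem_dodecads_iff, enc_setM (by norm_num), card_setM (by norm_num)]
      decide +kernel
    have ho : setM (340831 ^^^ 28637) ∈ octads := mask_octad (by decide +kernel)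
    refine code_le_of_octad hW ho ?_
    rw [toWord_xor]
    exact W.add_mem (hall _ h1) (hall _ h2)
  · -- complements of octads
    have hco : setM (ALL ^^^ m) ∈ octads := by
      rw [setM_compl]
      refine ⟨?_, ?_⟩
      · have := Helper26.supports_compl hsup
        exact this
      · rw [Finset.card_compl, Helper26.card_golayPt, h]
    have hall : ∀ o : Nat, setM o ∈ octads → toWord (ALL ^^^ o) ∈ W := by
      intro o ho
      obtain ⟨g, hg, e⟩ := exists_m24_smul_octad hco ho
      have e' : g • setM m = setM (ALL ^^^ o) := by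
        have hm' : setM m = (setM (ALL ^^^ m))ᶜ := by rw [← setM_compl, xor_ALL_cancel]
        rw [hm', smul_compl, e, setM_compl]
      rw [word_of_smul e']
      exact hW.comp (inv_mem hg) hmW
    have h1 : setM 8536111 ∈ octads := mask_octad (by decide +kernel)
    have h2 : setM 5279 ∈ octads := mask_octad (by decide +kernel)
    have ho : setM (8536111 ^^^ 5279) ∈ octads := mask_octad (by decide +kernel)
    refine code_le_of_octad hW ho ?_
    rw [← xor_ALL_ALL, toWord_xor]
    exact W.add_mem (hall _ h1) (hall _ h2)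
  · have hu : setM m = Finset.univ := by
      apply Finset.eq_univ_of_card
      rw [h, Helper26.card_golayPt]
    rw [setM_eq_univ_iff hlt] at hu
    exact absurd hu h1

end Cfsg.Agent.Helper91
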